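import Mathlib
import Cfsg.Prelude.Def_PLocal
import Cfsg.Agent.Solvable.Basics
import Cfsg.Agent.Solvable.PGroupBasic

/-!
Commutator series of one `p`-group normalised by another; groups of maximal class.
-/

set_option autoImplicit false
set_option linter.style.haveILetI false
set_option linter.unusedSectionVars false
open scoped commutatorElement

namespace CfsgLib.Uniserial

open Subgroup

variable {G : Type*} [Group G] [Finite G] {p : ℕ} [Fact p.Prime]

theorem commutator_le_left {H P : Subgroup G} (h : P ≤ normalizer (H : Set G)) : ⁅H, P⁆ ≤ H := by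
  rw [commutator_le]
  intro v hv a ha
  rw [commutatorElement_def, show v * a * v⁻¹ * a⁻¹ = v * (a * v⁻¹ * a⁻¹) by group]
  exact H.mul_mem hv ((mem_normalizer_iff.1 (h ha) _).1 (H.inv_mem hv))

theorem eq_bot_of_le {Q H P : Subgroup G} (hQ : IsPGroup p Q) (hH : H ≤ Q) (hP : P ≤ Q)
    (h : H ≤ ⁅H, P⁆) : H = ⊥ := by
  haveI := hQ.isNilpotent
  obtain ⟨n, hn⟩ := (isNilpotent_iff_lowerCentralSeries Q).1 inferInstance
  have key : ∀ m, H ≤ Q.lowerCentralSeries m := by
    intro m
    induction m with
    | zero => exact hH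
    | succ m ih => exact h.trans (commutator_mono ih hP)
  exact le_bot_iff.1 (hn ▸ key n)

theorem mul_card_le {Q A B : Subgroup G} (hQ : IsPGroup p Q) (hB : B ≤ Q) (h : A < B) :
    p * Nat.card A ≤ Nat.card B := by
  obtain ⟨a, ha⟩ := IsPGroup.iff_card.1 (hQ.to_le (h.le.trans hB))
  obtain ⟨b, hb⟩ := IsPGroup.iff_card.1 (hQ.to_le hB)
  have h1 := CfsgLib.Solvable.card_lt_of_lt h
  rw [ha, hb] at h1 ⊢
  rw [← pow_succ']
  exact Nat.pow_le_pow_right (Fact.out : p.Prime).pos
    ((Nat.pow_lt_pow_iff_right (Fact.out : p.Prime).one_lt).1 h1)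

theorem descend {Q H P : Subgroup G} (hQ : IsPGroup p Q) (hH : H ≤ Q) (hP : P ≤ Q)
    (hn : P ≤ normalizer (H : Set G)) (h1 : H ≠ ⊥) : p * Nat.card ↥(⁅H, P⁆) ≤ Nat.card H :=
  mul_card_le hQ hH (lt_of_le_of_ne (commutator_le_left hn)
    fun h => h1 (eq_bot_of_le hQ hH hP h.ge))

/-! ### The series `N, [N, P], [N, P, P], …` -/

section Series

variable {Q N P : Subgroup G}

theorem iter_le (hNP : P ≤ normalizer (N : Set G)) :
    ∀ j, P ≤ normalizer (Cfsg.iterCommutator N P j : Set G) ∧
      Cfsg.iterCommutator N P (j + 1) ≤ Cfsg.iterCommutator N P j ∧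
      Cfsg.iterCommutator N P j ≤ N := by
  intro j
  induction j with
  | zero => exact ⟨hNP, commutator_le_left hNP, le_rfl⟩
  | succ j ih =>
    have h1 : P ≤ normalizer (Cfsg.iterCommutator N P (j + 1) : Set G) :=
      normalizer_commutator_ge_right _ _
    exact ⟨h1, commutator_le_left h1, ih.2.1.trans ih.2.2⟩

theorem iter_antitone (hNP : P ≤ normalizer (N : Set G)) {i j : ℕ} (h : i ≤ j) :
    Cfsg.iterCommutator N P j ≤ Cfsg.iterCommutator N P i := by
  induction h with
  | refl => exact le_rfl
  | step _ ih => exact (iter_le hNP _).2.1.trans ih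

theorem iter_card_le (hQ : IsPGroup p Q) (hN : N ≤ Q) (hP : P ≤ Q)
    (hNP : P ≤ normalizer (N : Set G)) {i : ℕ} :
    ∀ j, Cfsg.iterCommutator N P (i + j) ≠ ⊥ →
      p ^ j * Nat.card (Cfsg.iterCommutator N P (i + j)) ≤ Nat.card (Cfsg.iterCommutator N P i) := by
  intro j
  induction j with
  | zero => intro _; simp
  | succ j ih =>
    intro hne
    have hne' : Cfsg.iterCommutator N P (i + j) ≠ ⊥ := fun h => hne
      (le_bot_iff.1 ((iter_le hNP (i + j)).2.1.trans h.le))
    have h1 : p * Nat.card (Cfsg.iterCommutator N P (i + j + 1)) ≤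
        Nat.card (Cfsg.iterCommutator N P (i + j)) :=
      descend hQ ((iter_le hNP _).2.2.trans hN) hP (iter_le hNP _).1 hne'
    calc p ^ (j + 1) * Nat.card (Cfsg.iterCommutator N P (i + (j + 1)))
        = p ^ j * (p * Nat.card (Cfsg.iterCommutator N P (i + j + 1))) := by
          rw [pow_succ]; simp only [add_assoc]; ring
      _ ≤ p ^ j * Nat.card (Cfsg.iterCommutator N P (i + j)) := Nat.mul_le_mul_left _ h1
      _ ≤ _ := ih hne'

theorem iter_eq_bot (hQ : IsPGroup p Q) (hN : N ≤ Q) (hP : P ≤ Q)
    (hNP : P ≤ normalizer (N : Set G)) {n : ℕ} (hn : Nat.card N = p ^ n) :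
    Cfsg.iterCommutator N P n = ⊥ := by
  by_contra h
  have h1 := iter_card_le hQ hN hP hNP (i := 0) n (by rwa [zero_add])
  rw [zero_add] at h1
  change p ^ n * _ ≤ Nat.card N at h1
  rw [hn] at h1
  have h2 : 1 < Nat.card (Cfsg.iterCommutator N P n) := (Subgroup.one_lt_card_iff_ne_bot _).2 h
  have h3 : 0 < p ^ n := pow_pos (Fact.out : p.Prime).pos n
  nlinarith

theorem iter_card_eq (hQ : IsPGroup p Q) (hN : N ≤ Q) (hP : P ≤ Q)
    (hNP : P ≤ normalizer (N : Set G)) {n : ℕ} (hn : Nat.card N = p ^ n)
    (hne : Cfsg.iterCommutator N P (n - 1) ≠ ⊥) {j : ℕ} (hj : j ≤ n) :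
    Nat.card (Cfsg.iterCommutator N P j) = p ^ (n - j) := by
  have hp := (Fact.out : p.Prime)
  rcases hj.lt_or_eq with hj | rfl
  · have hjne : Cfsg.iterCommutator N P j ≠ ⊥ := fun h => hne
      (le_bot_iff.1 ((iter_antitone hNP (by omega : j ≤ n - 1)).trans h.le))
    refine le_antisymm ?_ ?_
    · have h1 := iter_card_le hQ hN hP hNP (i := 0) j (by rwa [zero_add])
      rw [zero_add] at h1
      change p ^ j * _ ≤ Nat.card N at h1
      rw [hn, ← Nat.add_sub_cancel' hj.le, pow_add] at h1
      exact Nat.le_of_mul_le_mul_left h1 (pow_pos hp.pos j)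
    · have h1 := iter_card_le hQ hN hP hNP (i := j) (n - 1 - j) (by
        rwa [show j + (n - 1 - j) = n - 1 by omega])
      rw [show j + (n - 1 - j) = n - 1 by omega] at h1
      have h2 : p ≤ Nat.card (Cfsg.iterCommutator N P (n - 1)) := by
        obtain ⟨k, hk⟩ := IsPGroup.iff_card.1 (hQ.to_le ((iter_le hNP (n - 1)).2.2.trans hN))
        have := (Subgroup.one_lt_card_iff_ne_bot _).2 hne
        rw [hk] at this ⊢
        exact Nat.le_self_pow (fun h => by simp [h] at this) p
      calc p ^ (n - j) = p ^ (n - 1 - j) * p := by rw [← pow_succ]; congr 1; omega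
        _ ≤ _ := (Nat.mul_le_mul_left _ h2).trans h1
  · rw [iter_eq_bot hQ hN hP hNP hn, card_bot, Nat.sub_self, pow_zero]

/-- If the series has full length, it is also the series of `N ⊔ P`, and every `P`-invariant
subgroup of `N` is one of its terms. -/
theorem uniserial (hQ : IsPGroup p Q) (hN : N ≤ Q) (hP : P ≤ Q)
    (hNP : P ≤ normalizer (N : Set G)) {n : ℕ} (hn : Nat.card N = p ^ n)
    (hne : Cfsg.iterCommutator N P (n - 1) ≠ ⊥) (H : Subgroup G) (hH : H ≤ N)
    (hHP : P ≤ normalizer (H : Set G)) :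
    (∃ i ≤ n, H = Cfsg.iterCommutator N P i) ∧ N ≤ normalizer (H : Set G) := by
  have hR : N ⊔ P ≤ normalizer (N : Set G) := sup_le le_normalizer hNP
  have hRQ : N ⊔ P ≤ Q := sup_le hN hP
  have hle : ∀ j, Cfsg.iterCommutator N P j ≤ Cfsg.iterCommutator N (N ⊔ P) j := by
    intro j
    induction j with
    | zero => exact le_rfl
    | succ j ih => exact commutator_mono ih le_sup_right
  have hne' : Cfsg.iterCommutator N (N ⊔ P) (n - 1) ≠ ⊥ := fun h =>
    hne (le_bot_iff.1 ((hle _).trans h.le))
  have heq : ∀ j ≤ n, Cfsg.iterCommutator N P j = Cfsg.iterCommutator N (N ⊔ P) j := fun j hj =>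
    CfsgLib.Solvable.eq_of_le_of_card_le (hle j) (by
      rw [iter_card_eq hQ hN hP hNP hn hne hj, iter_card_eq hQ hN hRQ hR hn hne' hj])
  have hnorm : ∀ j ≤ n, N ≤ normalizer (Cfsg.iterCommutator N P j : Set G) := fun j hj => by
    rw [heq j hj]; exact le_sup_left.trans (iter_le hR j).1
  classical
  let i := Nat.findGreatest (fun j => H ≤ Cfsg.iterCommutator N P j) n
  have hi : H ≤ Cfsg.iterCommutator N P i :=
    Nat.findGreatest_spec (P := fun j => H ≤ Cfsg.iterCommutator N P j) (Nat.zero_le n) hH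
  have hin : i ≤ n := Nat.findGreatest_le n
  have hHi : H = Cfsg.iterCommutator N P i := by
    refine le_antisymm hi ?_
    rcases hin.lt_or_eq with hlt | heqn
    swap
    · rw [heqn, iter_eq_bot hQ hN hP hNP hn]
      exact bot_le
    have hmax : ¬ H ≤ Cfsg.iterCommutator N P (i + 1) := fun h => by
      have := Nat.le_findGreatest (P := fun j => H ≤ Cfsg.iterCommutator N P j)
        (by omega : i + 1 ≤ n) h
      change i + 1 ≤ i at this
      omega
    have step : ∀ k, i + k < n →
        Cfsg.iterCommutator N P (i + k) ≤ H ⊔ Cfsg.iterCommutator N P (i + k + 1) := by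
      intro k
      induction k with
      | zero =>
        intro _
        simp only [Nat.add_zero]
        refine (CfsgLib.Solvable.eq_of_le_of_card_le ?_ ?_).ge
        · exact sup_le hi (iter_le hNP i).2.1
        · obtain ⟨e, he⟩ := IsPGroup.iff_card.1
            (hQ.to_le ((sup_le hi (iter_le hNP i).2.1).trans ((iter_le hNP i).2.2.trans hN)))
          have h1 := mul_card_le hQ ((sup_le hi (iter_le hNP i).2.1).trans ((iter_le hNP i).2.2.trans hN))
            (lt_of_le_of_ne (le_sup_right : Cfsg.iterCommutator N P (i + 1) ≤ H ⊔ _)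
              fun h => hmax (h ▸ le_sup_left))
          rw [iter_card_eq hQ hN hP hNP hn hne (by omega : i + 1 ≤ n), ← pow_succ',
            show n - (i + 1) + 1 = n - i by omega] at h1
          rw [iter_card_eq hQ hN hP hNP hn hne hin]
          exact h1
      | succ k ih =>
        intro hk
        have ih' := ih (by omega)
        rw [show i + (k + 1) = i + k + 1 by omega] at hk ⊢
        change ⁅Cfsg.iterCommutator N P (i + k), P⁆ ≤ _
        rw [commutator_le]
        intro y hy g hg
        have hHn : H ≤ normalizer (Cfsg.iterCommutator N P (i + k + 1) : Set G) :=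
          hH.trans (hnorm _ (by omega))
        obtain ⟨h, hh, m, hm, rfl⟩ := (CfsgLib.Solvable.mem_sup_of_le_normalizer hHn).1 (ih' hy)
        rw [show ⁅h * m, g⁆ = h * ⁅m, g⁆ * h⁻¹ * ⁅h, g⁆ by
          simp only [commutatorElement_def]; group]
        refine mul_mem (mem_sup_right ?_) (mem_sup_left ?_)
        · exact (mem_normalizer_iff.1 (hnorm (i + k + 1 + 1) (by omega) (hH hh)) _).1
            (commutator_mem_commutator hm hg)
        · exact commutator_le_left hHP (commutator_mem_commutator hh hg)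
    have all : ∀ k, i + k ≤ n → Cfsg.iterCommutator N P i ≤ H ⊔ Cfsg.iterCommutator N P (i + k) := by
      intro k
      induction k with
      | zero => intro _; exact le_sup_right
      | succ k ih =>
        intro hk
        refine (ih (by omega)).trans (sup_le le_sup_left ?_)
        exact step k (by omega)
    have := all (n - i) (by omega)
    rwa [show i + (n - i) = n by omega, iter_eq_bot hQ hN hP hNP hn, sup_bot_eq] at this
  exact ⟨⟨i, hin, hHi⟩, hHi ▸ hnorm i hin⟩

end Series

/-! ### The lower central series of a `p`-group -/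

theorem iter_top (j : ℕ) :
    Cfsg.iterCommutator (⊤ : Subgroup G) ⊤ j = (⊤ : Subgroup G).lowerCentralSeries j := by
  induction j with
  | zero => rfl
  | succ j ih => rw [Cfsg.iterCommutator, ih, Subgroup.lowerCentralSeries_succ]

/-- A group with cyclic commutator quotient is abelian. -/
theorem sq_le_index_commutator (hG : IsPGroup p G) (h : (⊤ : Subgroup G).lowerCentralSeries 1 ≠ ⊥) :
    p ^ 2 ≤ ((⊤ : Subgroup G).lowerCentralSeries 1).index := by
  have hp := (Fact.out : p.Prime)
  set D := (⊤ : Subgroup G).lowerCentralSeries 1 with hD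
  have hne : D ≠ ⊤ := fun hT => h (by
    have : (⊤ : Subgroup G) ≤ ⁅(⊤ : Subgroup G), ⊤⁆ := by
      rw [hD, Subgroup.lowerCentralSeries_succ, Subgroup.lowerCentralSeries_zero] at hT
      exact hT.ge
    have hbot := eq_bot_of_le (hG.to_subgroup ⊤) le_rfl le_rfl this
    rw [eq_bot_iff, ← hbot]
    exact le_top)
  obtain ⟨k, hk⟩ := hG.index D
  by_contra hlt
  have hk1 : k = 1 := by
    have : k ≠ 0 := fun h0 => hne (index_eq_one.1 (by rw [hk, h0, pow_zero]))
    by_contra hne1
    exact hlt (hk ▸ Nat.pow_le_pow_right hp.pos (by omega))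
  rw [hk1, pow_one] at hk
  obtain ⟨x, hx⟩ : ∃ x, x ∉ D := by
    by_contra hall
    push Not at hall
    exact hne (eq_top_iff.2 fun y _ => hall y)
  have htop : zpowers x = ⊤ := by
    by_contra hx'
    obtain ⟨M, hM, hxM⟩ := (eq_top_or_exists_le_coatom (zpowers x)).resolve_left hx'
    obtain ⟨hMn, hMi⟩ := PGroupBasic.coatom_normal_index hG hM
    have hDM : D ≤ M := by
      rw [hD, Subgroup.top_lowerCentralSeries_one]
      haveI := hMn
      haveI : Fact (Nat.card (G ⧸ M)).Prime := ⟨by rw [← index_eq_card, hMi]; exact hp⟩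
      haveI : IsCyclic (G ⧸ M) := isCyclic_of_prime_card (p := p) (by rw [← index_eq_card, hMi])
      refine (Subgroup.commutator_le.2 ?_)
      intro a _ b _
      rw [← QuotientGroup.eq_one_iff]
      have : IsMulCommutative (G ⧸ M) := inferInstance
      simp only [commutatorElement_def, QuotientGroup.mk_mul, QuotientGroup.mk_inv]
      rw [this.is_comm.comm (a : G ⧸ M) b]
      group
    have : D = M := by
      have h1 := relIndex_mul_index hDM
      rw [hMi, hk] at h1
      have h2 : D.relIndex M = 1 := Nat.eq_of_mul_eq_mul_right hp.pos (by omega)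
      exact le_antisymm hDM (relIndex_eq_one.1 h2)
    exact hx (this ▸ hxM (mem_zpowers x))
  refine h ?_
  rw [hD, Subgroup.top_lowerCentralSeries_one, eq_bot_iff]
  refine Subgroup.commutator_le.2 ?_
  intro a _ b _
  obtain ⟨i, rfl⟩ : a ∈ zpowers x := by rw [htop]; exact mem_top a
  obtain ⟨j, rfl⟩ : b ∈ zpowers x := by rw [htop]; exact mem_top b
  rw [mem_bot, commutatorElement_eq_one_iff_mul_comm]
  exact (Commute.zpow_zpow_self x i j).eq

/-- In a `p`-group the `i`-th term of the lower central series, if not the last, has index at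
least `p ^ (i + 1)`. -/
theorem index_lcs_ge (hG : IsPGroup p G) : ∀ i : ℕ,
    (⊤ : Subgroup G).lowerCentralSeries (i + 1) ≠ ⊥ →
      p ^ (i + 2) ≤ ((⊤ : Subgroup G).lowerCentralSeries (i + 1)).index := by
  intro i
  induction i with
  | zero => exact sq_le_index_commutator hG
  | succ i ih =>
    intro hne
    set A := (⊤ : Subgroup G).lowerCentralSeries (i + 1 + 1) with hA
    set B := (⊤ : Subgroup G).lowerCentralSeries (i + 1) with hB
    have hB1 : B ≠ ⊥ := fun h => hne (le_bot_iff.1
      ((Subgroup.lowerCentralSeries_antitone (⊤ : Subgroup G) (by omega : i + 1 ≤ i + 1 + 1)).trans h.le))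
    have h1 : p * Nat.card A ≤ Nat.card B :=
      descend (hG.to_subgroup ⊤) le_top le_top
        ((⊤ : Subgroup G).self_le_normalizer_lowerCentralSeries (i + 1)) hB1
    have h2 := ih hB1
    have hA0 : 0 < Nat.card A := Nat.card_pos
    have e : A.index * Nat.card A = B.index * Nat.card B := by
      rw [index_mul_card, index_mul_card]
    refine Nat.le_of_mul_le_mul_right ?_ hA0
    calc p ^ (i + 1 + 2) * Nat.card A = p ^ (i + 2) * (p * Nat.card A) := by ring
      _ ≤ B.index * Nat.card B := Nat.mul_le_mul h2 h1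
      _ = _ := e.symm

end CfsgLib.Uniserial
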