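import Mathlib
import Cfsg.Agent.PLocal.Uniserial

/-!
`p`-groups of maximal class.
-/

set_option autoImplicit false
set_option linter.style.haveILetI false

namespace CfsgLib.Uniserial

open Subgroup

/-- A group of order `p ^ 2` which is not cyclic has `p + 1` subgroups of order `p`. -/
theorem card_subgroups_prime {Q : Type*} [Group Q] [Finite Q] {p : ℕ} [hp : Fact p.Prime]
    (hcard : Nat.card Q = p ^ 2) (hnc : ¬ IsCyclic Q) :
    Nat.card {K : Subgroup Q // Nat.card K = p} = p + 1 := by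
  classical
  have hord : ∀ x : Q, x ≠ 1 → orderOf x = p := by
    intro x hx
    obtain ⟨k, hk, hk'⟩ := (Nat.dvd_prime_pow hp.out).1 (hcard ▸ orderOf_dvd_natCard x)
    interval_cases k
    · exact absurd (orderOf_eq_one_iff.1 (by simpa using hk')) hx
    · simpa using hk'
    · exact absurd (isCyclic_of_orderOf_eq_card x (by rw [hk', hcard])) hnc
  let e : {x : Q // x ≠ 1} ≃ Σ K : {K : Subgroup Q // Nat.card K = p}, {y : K.1 // y ≠ 1} :=
    { toFun := fun x => ⟨⟨zpowers x.1, by rw [Nat.card_zpowers, hord x.1 x.2]⟩,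
        ⟨⟨x.1, mem_zpowers _⟩, fun h => x.2 (congrArg Subtype.val h)⟩⟩
      invFun := fun s => ⟨s.2.1.1, fun h => s.2.2 (Subtype.ext h)⟩
      left_inv := fun x => rfl
      right_inv := by
        rintro ⟨⟨K, hK⟩, ⟨⟨y, hy⟩, hy1⟩⟩
        have hy' : y ≠ 1 := fun h => hy1 (Subtype.ext h)
        have : zpowers y = K := CfsgLib.Solvable.eq_of_le_of_card_le (zpowers_le.2 hy)
          (by rw [hK, Nat.card_zpowers, hord y hy'])
        subst this
        rfl }
  have h1 := Nat.card_congr e
  haveI := Fintype.ofFinite Q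
  haveI : Fintype {K : Subgroup Q // Nat.card K = p} := Fintype.ofFinite _
  rw [Nat.card_sigma] at h1
  have h2 : ∀ K : {K : Subgroup Q // Nat.card K = p}, Nat.card {y : K.1 // y ≠ 1} = p - 1 := by
    intro K
    haveI := Fintype.ofFinite K.1
    rw [Nat.card_eq_fintype_card, Fintype.card_subtype_compl, Fintype.card_subtype_eq,
      ← Nat.card_eq_fintype_card, K.2]
  rw [Finset.sum_congr rfl (fun K _ => h2 K), Finset.sum_const, Finset.card_univ, smul_eq_mul,
    Nat.card_eq_fintype_card, Fintype.card_subtype_compl, Fintype.card_subtype_eq,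
    ← Nat.card_eq_fintype_card, hcard] at h1
  rw [Nat.card_eq_fintype_card]
  have hp2 := hp.out.two_le
  have h3 : (p + 1) * (p - 1) = p ^ 2 - 1 := by
    rw [show p ^ 2 - 1 = p ^ 2 - 1 ^ 2 by simp, Nat.sq_sub_sq]
  refine Nat.eq_of_mul_eq_mul_right (show 0 < p - 1 by omega) ?_
  rw [← h1, h3]

theorem commutator_le_of_index_prime {G : Type*} [Group G] [Finite G] {p : ℕ} [hp : Fact p.Prime]
    {M : Subgroup G} [M.Normal] (hM : M.index = p) : ⁅(⊤ : Subgroup G), ⊤⁆ ≤ M := by
  haveI : IsCyclic (G ⧸ M) := isCyclic_of_prime_card (p := p) (by rw [← index_eq_card, hM])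
  refine (Subgroup.commutator_le.2 ?_)
  intro a _ b _
  rw [← QuotientGroup.eq_one_iff]
  have : IsMulCommutative (G ⧸ M) := inferInstance
  simp only [commutatorElement_def, QuotientGroup.mk_mul, QuotientGroup.mk_inv]
  rw [this.is_comm.comm (a : G ⧸ M) b]
  group

theorem not_isCyclic_abelianization {G : Type*} [Group G] [Finite G] {p : ℕ} [Fact p.Prime]
    (hG : IsPGroup p G) (h : (⊤ : Subgroup G).lowerCentralSeries 1 ≠ ⊥) :
    ¬ IsCyclic (G ⧸ (⊤ : Subgroup G).lowerCentralSeries 1) := by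
  intro hc
  set D := (⊤ : Subgroup G).lowerCentralSeries 1 with hD
  obtain ⟨g, hg⟩ := hc.exists_generator
  obtain ⟨x, rfl⟩ := QuotientGroup.mk'_surjective D g
  have hgen : zpowers x ⊔ D = ⊤ := by
    refine eq_top_iff.2 fun y _ => ?_
    obtain ⟨k, hk⟩ := hg (QuotientGroup.mk' D y)
    have h1 : (x ^ k)⁻¹ * y ∈ D := by
      rw [← QuotientGroup.eq]
      exact ((map_zpow (QuotientGroup.mk' D) x k).trans hk)
    have := mul_mem (mem_sup_left (T := D) (zpow_mem (mem_zpowers x) k)) (mem_sup_right h1)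
    rwa [mul_inv_cancel_left] at this
  have htop : zpowers x = ⊤ := by
    by_contra hx'
    obtain ⟨M, hM, hxM⟩ := (eq_top_or_exists_le_coatom (zpowers x)).resolve_left hx'
    obtain ⟨hMn, hMi⟩ := PGroupBasic.coatom_normal_index hG hM
    haveI := hMn
    have hDM : D ≤ M := commutator_le_of_index_prime hMi
    exact hM.1 (top_le_iff.1 (hgen ▸ sup_le hxM hDM))
  refine h (le_bot_iff.1 (Subgroup.commutator_le.2 fun a _ b _ => ?_))
  obtain ⟨i, rfl⟩ : a ∈ zpowers x := by rw [htop]; exact mem_top a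
  obtain ⟨j, rfl⟩ : b ∈ zpowers x := by rw [htop]; exact mem_top b
  rw [mem_bot, commutatorElement_eq_one_iff_mul_comm]
  exact (Commute.zpow_zpow_self x i j).eq

end CfsgLib.Uniserial
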