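import Mathlib
import Cfsg.Agent.ZJ.Constrained
import Cfsg.Agent.Solvable.Fitting
import Cfsg.Agent.LocalB.CharP

/-!
p-constraint: characterisation by the quotient by the p'-core, p-solubility, local subgroups.
-/

set_option autoImplicit false
set_option linter.style.haveILetI false
set_option linter.unusedSectionVars false

namespace CfsgLib.PConstrained

open Subgroup

/-- The centraliser of the `p`-core lies in it. -/
def SelfCent (p : ℕ) (X : Type*) [Group X] : Prop :=
  centralizer (Cfsg.pCore p X : Set X) ≤ Cfsg.pCore p X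

variable {G : Type*} [Group G] [Finite G] {p : ℕ} [Fact p.Prime]

theorem map_pCore_le {H : Type*} [Group H] [Finite H] (f : G →* H) (hf : Function.Surjective f) :
    (Cfsg.pCore p G).map f ≤ Cfsg.pCore p H :=
  Solvable.le_pCore p ((Solvable.pCore_normal p).map f hf) ((Solvable.isPGroup_pCore p).map f)

theorem map_pCore_equiv {H : Type*} [Group H] [Finite H] (e : G ≃* H) :
    (Cfsg.pCore p G).map e.toMonoidHom = Cfsg.pCore p H := by
  refine le_antisymm (map_pCore_le _ e.surjective) fun y hy => ?_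
  exact ⟨e.symm y, map_pCore_le e.symm.toMonoidHom e.symm.surjective ⟨y, hy, rfl⟩, e.apply_symm_apply y⟩

theorem SelfCent.of_equiv {H : Type*} [Group H] [Finite H] (e : G ≃* H) (h : SelfCent p G) :
    SelfCent p H := by
  intro y hy
  obtain ⟨x, rfl⟩ := e.surjective y
  rw [← map_pCore_equiv (p := p) e] at hy ⊢
  refine ⟨x, h (mem_centralizer_iff.2 fun r hr => e.injective ?_), rfl⟩
  rw [map_mul, map_mul]
  exact mem_centralizer_iff.1 hy _ ⟨r, hr, rfl⟩

/-- The image of a Sylow subgroup of `O_{p',p}` is the p-core of the quotient. -/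
theorem map_sylow_eq (P : Sylow p ↥(Cfsg.pPrimePCore p G)) :
    ((P : Subgroup ↥(Cfsg.pPrimePCore p G)).map (Cfsg.pPrimePCore p G).subtype).map
      (QuotientGroup.mk' (Cfsg.pPrimeCore p G)) = Cfsg.pCore p (G ⧸ Cfsg.pPrimeCore p G) := by
  set π := QuotientGroup.mk' (Cfsg.pPrimeCore p G)
  let g : ↥(Cfsg.pPrimePCore p G) →* G ⧸ Cfsg.pPrimeCore p G := π.comp (Cfsg.pPrimePCore p G).subtype
  have hr : g.range = Cfsg.pCore p (G ⧸ Cfsg.pPrimeCore p G) := by
    rw [MonoidHom.range_comp, Subgroup.range_subtype]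
    exact ZJ.pPrimePCore_map_eq
  have hsurj : Function.Surjective g.rangeRestrict := g.rangeRestrict_surjective
  have hp : IsPGroup p g.range := hr ▸ Solvable.isPGroup_pCore p
  have h1 : ((P : Sylow p ↥(Cfsg.pPrimePCore p G)).mapSurjective hsurj : Subgroup g.range) = ⊤ := by
    have := ((P : Sylow p ↥(Cfsg.pPrimePCore p G)).mapSurjective hsurj).3 (Q := ⊤) (hp.of_equiv topEquiv.symm) le_top
    exact this.symm
  rw [map_map, ← hr]
  have h2 : ((P : Subgroup ↥(Cfsg.pPrimePCore p G)).map g.rangeRestrict).map g.range.subtype = g.range := by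
    change ((P.mapSurjective hsurj : Sylow p g.range) : Subgroup g.range).map g.range.subtype = g.range
    rw [h1, ← MonoidHom.range_eq_map, Subgroup.range_subtype]
  rw [map_map, MonoidHom.subtype_comp_rangeRestrict] at h2
  exact h2

theorem isPConstrained_iff :
    Cfsg.IsPConstrained p G ↔ SelfCent p (G ⧸ Cfsg.pPrimeCore p G) := by
  refine ⟨ZJ.centralizer_pCore_quotient_le, fun h P x hx => ?_⟩
  refine h (mem_centralizer_iff.2 fun r hr => ?_)
  rw [← map_sylow_eq P] at hr
  obtain ⟨y, hy, rfl⟩ := hr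
  rw [← map_mul, ← map_mul, mem_centralizer_iff.1 hx y hy]

/-! ### p-solubility -/

theorem isPSolvable_map {H : Type*} [Group H] (f : G →* H) (hf : Function.Surjective f)
    (h : Cfsg.IsPSolvable p G) : Cfsg.IsPSolvable p H := by
  obtain ⟨n, S, h0, h1, hm, hn, hstep⟩ := h
  refine ⟨n, fun i => (S i).map f, by simp [h0], ?_, fun i j hij => map_mono (hm hij),
    fun i => (hn i).map f hf, fun i => ?_⟩
  · change (S (Fin.last n)).map f = ⊤
    rw [h1, ← MonoidHom.range_eq_map, MonoidHom.range_eq_top.2 hf]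
  have hd : ((S i.castSucc).map f).relIndex ((S i.succ).map f) ∣
      (S i.castSucc).relIndex (S i.succ) := by
    haveI := hn i.castSucc
    rw [relIndex_map_map]
    have e : (S i.castSucc ⊔ f.ker).relIndex (S i.succ ⊔ f.ker) =
        (S i.castSucc ⊔ f.ker).relIndex (S i.succ) := by
      have hle : S i.castSucc ≤ S i.succ := hm (le_of_lt (Fin.castSucc_lt_succ (i := i)))
      have h2 : S i.succ ⊔ f.ker = S i.succ ⊔ (S i.castSucc ⊔ f.ker) := by
        rw [← sup_assoc, sup_of_le_left hle]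
      rw [h2]
      exact relIndex_sup_right (S i.succ) (S i.castSucc ⊔ f.ker)
    rw [e]
    exact relIndex_dvd_of_le_left _ le_sup_left
  rcases hstep i with ⟨m, hm'⟩ | hc
  · left
    rw [hm'] at hd
    obtain ⟨k, -, hk⟩ := (Nat.dvd_prime_pow Fact.out).1 hd
    exact ⟨k, hk⟩
  · exact Or.inr (hc.coprime_dvd_left hd)

theorem isPSolvable_comap {H : Type*} [Group H] (f : H →* G) (hf : Function.Injective f)
    (h : Cfsg.IsPSolvable p G) : Cfsg.IsPSolvable p H := by
  obtain ⟨n, S, h0, h1, hm, hn, hstep⟩ := h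
  refine ⟨n, fun i => (S i).comap f, ?_, by simp [h1], fun i j hij => comap_mono (hm hij),
    fun i => (hn i).comap f, fun i => ?_⟩
  · change (S 0).comap f = ⊥
    rw [h0, MonoidHom.comap_bot, MonoidHom.ker_eq_bot_iff]
    exact hf
  have hd : ((S i.castSucc).comap f).relIndex ((S i.succ).comap f) ∣
      (S i.castSucc).relIndex (S i.succ) := by
    haveI := hn i.castSucc
    rw [relIndex_comap]
    set K := ((S i.succ).comap f).map f
    have hK : K ≤ S i.succ := map_comap_le _ _
    rw [← relIndex_subgroupOf hK]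
    exact relIndex_dvd_index_of_normal _ _
  rcases hstep i with ⟨m, hm'⟩ | hc
  · left
    rw [hm'] at hd
    obtain ⟨k, -, hk⟩ := (Nat.dvd_prime_pow Fact.out).1 hd
    exact ⟨k, hk⟩
  · exact Or.inr (hc.coprime_dvd_left hd)

theorem exists_core_ne_bot (h : Cfsg.IsPSolvable p G) [Nontrivial G] :
    Cfsg.pCore p G ≠ ⊥ ∨ Cfsg.pPrimeCore p G ≠ ⊥ := by
  classical
  obtain ⟨n, S, h0, h1, -, hn, hstep⟩ := h
  have hex : ∃ i : ℕ, ∃ hi : i < n + 1, S ⟨i, hi⟩ ≠ ⊥ := by
    refine ⟨n, n.lt_succ_self, ?_⟩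
    rw [show (⟨n, n.lt_succ_self⟩ : Fin (n + 1)) = Fin.last n from rfl, h1]
    exact top_ne_bot
  obtain ⟨hi, hne⟩ := Nat.find_spec hex
  rcases hf : Nat.find hex with _ | j
  · simp only [hf] at hne
    exact absurd h0 hne
  have hmin := Nat.find_min hex (m := j) (by omega)
  simp only [hf] at hne hi
  push Not at hmin
  have hj : j < n := by omega
  have hb : S (Fin.castSucc ⟨j, hj⟩) = ⊥ := hmin (by omega)
  rcases hstep ⟨j, hj⟩ with ⟨m, hm⟩ | hc
  · rw [hb, relIndex_bot_left] at hm
    exact Or.inl fun hbot =>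
      hne (le_bot_iff.1 ((Solvable.le_pCore p (hn _) (IsPGroup.of_card hm)).trans hbot.le))
  · rw [hb, relIndex_bot_left] at hc
    exact Or.inr fun hbot =>
      hne (le_bot_iff.1 ((Solvable.le_pPrimeCore p (hn _) hc).trans hbot.le))

theorem normal_map_pPrimeCore {M : Subgroup G} (hM : M.Normal) :
    ((Cfsg.pPrimeCore p M).map M.subtype).Normal := by
  haveI := hM
  refine ⟨fun x hx g => ?_⟩
  obtain ⟨y, hy, rfl⟩ := hx
  have hle : (Cfsg.pPrimeCore p M).map (MulAut.conjNormal g : MulAut M).toMonoidHom ≤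
      Cfsg.pPrimeCore p M := by
    refine Solvable.le_pPrimeCore p ((Solvable.pPrimeCore_normal p).map _
      (MulAut.conjNormal g : MulAut M).surjective) ?_
    exact (Solvable.coprime_card_pPrimeCore p).coprime_dvd_left (card_map_dvd _ _)
  exact ⟨MulAut.conjNormal g y, hle ⟨y, hy, rfl⟩, rfl⟩

theorem normal_map_pCore {M : Subgroup G} (hM : M.Normal) :
    ((Cfsg.pCore p M).map M.subtype).Normal := by
  haveI := hM
  refine ⟨fun x hx g => ?_⟩
  obtain ⟨y, hy, rfl⟩ := hx
  exact ⟨MulAut.conjNormal g y,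
    map_pCore_le _ (MulAut.conjNormal g : MulAut M).surjective ⟨y, hy, rfl⟩, rfl⟩

/-- If `O_{p'}(X) = 1` and `C(O_p(X))` is `p`-soluble, it lies in `O_p(X)`. -/
theorem selfCent_of_pSolvable (h0 : Cfsg.pPrimeCore p G = ⊥)
    (hs : Cfsg.IsPSolvable p ↥(centralizer (Cfsg.pCore p G : Set G))) : SelfCent p G := by
  set R := Cfsg.pCore p G with hR
  set C := centralizer (R : Set G) with hC
  haveI hCn : C.Normal := Subgroup.normal_centralizer
  let f := QuotientGroup.mk' R
  set Ct : Subgroup (G ⧸ R) := C.map f with hCt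
  haveI hCtn : Ct.Normal := hCn.map f (QuotientGroup.mk'_surjective R)
  by_contra hne
  have hCtne : Ct ≠ ⊥ := fun h => hne (by
    rw [hCt, Subgroup.map_eq_bot_iff, QuotientGroup.ker_mk'] at h
    exact h)
  haveI : Nontrivial Ct := (Subgroup.nontrivial_iff_ne_bot Ct).2 hCtne
  have hsCt : Cfsg.IsPSolvable p Ct :=
    isPSolvable_map (f.subgroupMap C) (f.subgroupMap_surjective C) hs
  have hp0 : Cfsg.pCore p (G ⧸ R) = ⊥ := by
    have hle : (Cfsg.pCore p (G ⧸ R)).comap f ≤ R :=
      Solvable.le_pCore p ((Solvable.pCore_normal p).comap f)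
        ((Solvable.isPGroup_pCore p).comap_of_ker_isPGroup f (by
          rw [QuotientGroup.ker_mk']; exact Solvable.isPGroup_pCore p))
    rw [← map_comap_eq_self_of_surjective (QuotientGroup.mk'_surjective R) (Cfsg.pCore p (G ⧸ R)),
      Subgroup.map_eq_bot_iff, QuotientGroup.ker_mk']
    exact hle
  have hp1 : Cfsg.pCore p Ct = ⊥ := by
    refine (Subgroup.map_eq_bot_iff_of_injective _ Ct.subtype_injective).1 (le_bot_iff.1 ?_)
    rw [← hp0]
    exact Solvable.le_pCore p (normal_map_pCore hCtn) ((Solvable.isPGroup_pCore p).map _)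
  have hq : Cfsg.pPrimeCore p Ct ≠ ⊥ := (exists_core_ne_bot hsCt).resolve_left (not_not.2 hp1)
  set Mt := (Cfsg.pPrimeCore p Ct).map Ct.subtype with hMt
  haveI hMtn : Mt.Normal := normal_map_pPrimeCore hCtn
  set M := Mt.comap f ⊓ C with hM
  haveI hMn : M.Normal := inferInstanceAs (Mt.comap f ⊓ C).Normal
  set Z := R.subgroupOf M with hZ
  have hidx : Z.index.Coprime p := by
    have e : Z.index = Nat.card (M.map f) := by
      rw [← relIndex_ker, QuotientGroup.ker_mk']
      rfl
    rw [e]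
    refine Nat.Coprime.coprime_dvd_left (card_dvd_of_le ((map_mono inf_le_left).trans
      (map_comap_le f Mt))) ?_
    exact (Solvable.coprime_card_pPrimeCore p).coprime_dvd_left (card_map_dvd _ _)
  obtain ⟨k, hk⟩ : ∃ k, Nat.card Z = p ^ k :=
    IsPGroup.iff_card.1 ((Solvable.isPGroup_pCore p).comap_of_injective M.subtype M.subtype_injective)
  have hcop : (Nat.card Z).Coprime Z.index := hk ▸ (hidx.pow_right k).symm
  obtain ⟨Q, hQ⟩ := exists_right_complement'_of_coprime hcop
  have hQn : Q.Normal := by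
    rw [← normalizer_eq_top_iff, eq_top_iff, ← hQ.sup_eq_top]
    refine sup_le (fun z hz => ?_) le_normalizer
    rw [mem_normalizer_iff]
    intro q
    have : z * q * z⁻¹ = q := by
      apply Subtype.ext
      have h1 := mem_centralizer_iff.1 q.2.2 (z : G) hz
      simp only [Subgroup.coe_mul, Subgroup.coe_inv]
      rw [h1, mul_inv_cancel_right]
    rw [this]
  have hQp : Q ≤ Cfsg.pPrimeCore p M := by
    refine Solvable.le_pPrimeCore p hQn ?_
    have := hQ.card_mul_card
    rw [← Z.card_mul_index] at this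
    rwa [Nat.eq_of_mul_eq_mul_left Nat.card_pos this]
  have hQ0 : Q = ⊥ := by
    refine le_bot_iff.1 (hQp.trans ((Subgroup.map_eq_bot_iff_of_injective _ M.subtype_injective).1 ?_).le)
    rw [← le_bot_iff, ← h0]
    exact Solvable.le_pPrimeCore p (normal_map_pPrimeCore hMn)
      ((Solvable.coprime_card_pPrimeCore p).coprime_dvd_left (card_map_dvd _ _))
  have hZtop : Z = ⊤ := by
    have := hQ.sup_eq_top
    rwa [hQ0, sup_bot_eq] at this
  have hMR : M ≤ R := by rwa [hZ, subgroupOf_eq_top] at hZtop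
  refine hq ((Subgroup.map_eq_bot_iff_of_injective _ Ct.subtype_injective).1 (le_bot_iff.1 ?_))
  intro y hy
  obtain ⟨c, hc, rfl⟩ : y ∈ C.map f := map_subtype_le _ hy
  have : c ∈ M := ⟨hy, hc⟩
  exact Subgroup.mem_bot.2 ((QuotientGroup.eq_one_iff c).2 (hMR this))

/-! ### Local subgroups -/

section Local

variable {P : Subgroup G}

/-- In a group with self-centralising p-core, a p'-element centralising `P` and `C_R(P)` is trivial. -/
theorem eq_one_of_centralizes (hc : SelfCent p G) {P : Subgroup G} (hP : IsPGroup p P) {w : G}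
    (hw : (orderOf w).Coprime p) (hwP : ∀ x ∈ P, Commute x w)
    (hfix : ∀ r ∈ Cfsg.pCore p G, (∀ x ∈ P, x * r = r * x) → Commute w r) : w = 1 := by
  have hn : ∀ g : G, g ∈ normalizer (Cfsg.pCore p G : Set G) := fun g => by
    rw [normalizer_eq_top_iff.2 (Solvable.pCore_normal p)]; exact mem_top g
  have h1 := LocalB.commute_of_pxq hP (Solvable.isPGroup_pCore p) (fun x _ => hn x) hw (hn w) hwP hfix
  have hwR : w ∈ Cfsg.pCore p G := hc (mem_centralizer_iff.2 fun r hr => (h1 r hr).eq.symm)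
  exact LocalB.eq_one_of_orderOf_coprime (Solvable.isPGroup_pCore p) hwR hw

/-- `O_{p'}(N_G(P)) ≤ O_{p'}(G)` in a p-constrained group. -/
theorem pPrimeCore_normalizer_le (hc : SelfCent p (G ⧸ Cfsg.pPrimeCore p G))
    (hP : IsPGroup p P) {D : Subgroup G} (hDN : D ≤ normalizer (P : Set G))
    (hND : normalizer (P : Set G) ≤ normalizer (D : Set G)) (hD : (Nat.card D).Coprime p) :
    D ≤ Cfsg.pPrimeCore p G := by
  set K := Cfsg.pPrimeCore p G
  let f := QuotientGroup.mk' K
  intro d hd
  rw [← QuotientGroup.eq_one_iff]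
  have hdisj : P ⊓ D = ⊥ := ZJ.isPGroup_inf_coprime hP hD
  have hcomm : ∀ x ∈ P, Commute x d := by
    intro x hx
    have h1 : x * d * x⁻¹ * d⁻¹ ∈ P := by
      rw [show x * d * x⁻¹ * d⁻¹ = x * (d * x⁻¹ * d⁻¹) by group]
      exact P.mul_mem hx ((mem_normalizer_iff.1 (hDN hd) _).1 (P.inv_mem hx))
    have h2 : x * d * x⁻¹ * d⁻¹ ∈ D :=
      D.mul_mem ((mem_normalizer_iff.1 (hND (le_normalizer hx)) d).1 hd) (D.inv_mem hd)
    have h3 : x * d * x⁻¹ * d⁻¹ ∈ (⊥ : Subgroup G) := hdisj ▸ ⟨h1, h2⟩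
    rw [mem_bot, mul_inv_eq_one, mul_inv_eq_iff_eq_mul] at h3
    exact h3
  have ho : (orderOf (f d)).Coprime p :=
    hD.coprime_dvd_left ((orderOf_map_dvd f d).trans (D.orderOf_dvd_natCard hd))
  refine eq_one_of_centralizes hc (hP.map f) ho (by rintro _ ⟨x, hx, rfl⟩; exact (hcomm x hx).map f) ?_
  intro r hr hfix
  obtain ⟨g, rfl⟩ := QuotientGroup.mk'_surjective K r
  obtain ⟨n, hn, hng⟩ := ZJ.exists_mul_mem_centralizer (N := K) hP (Solvable.coprime_card_pPrimeCore p)
    (g := g) (fun x hx => by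
      rw [← QuotientGroup.eq_one_iff]
      change f (g * x * g⁻¹ * x⁻¹) = 1
      rw [map_mul, map_mul, map_mul, map_inv, map_inv, ← hfix (f x) ⟨x, hx, rfl⟩,
        mul_inv_cancel_right, mul_inv_cancel])
  have hfg : f (n * g) = f g := by
    rw [map_mul, show f n = 1 from (QuotientGroup.eq_one_iff n).2 hn, one_mul]
  rw [← hfg]
  set c := n * g
  have hcD : d * c * d⁻¹ * c⁻¹ ∈ D := by
    rw [show d * c * d⁻¹ * c⁻¹ = d * (c * d⁻¹ * c⁻¹) by group]
    exact D.mul_mem hd ((mem_normalizer_iff.1 (hND (centralizer_le_normalizer _ hng)) _).1 (D.inv_mem hd))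
  have hcR : f (d * c * d⁻¹ * c⁻¹) ∈ Cfsg.pCore p (G ⧸ K) := by
    rw [map_mul, map_mul, map_mul, map_inv, map_inv, hfg]
    exact mul_mem ((Solvable.pCore_normal p).conj_mem _ hr (f d)) (inv_mem hr)
  have h1 : f (d * c * d⁻¹ * c⁻¹) = 1 :=
    LocalB.eq_one_of_orderOf_coprime (Solvable.isPGroup_pCore p) hcR
      (hD.coprime_dvd_left ((orderOf_map_dvd f _).trans (D.orderOf_dvd_natCard hcD)))
  rw [map_mul, map_mul, map_mul, map_inv, map_inv, mul_inv_eq_one, mul_inv_eq_iff_eq_mul] at h1
  exact h1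

theorem pPrimeCore_normalizer_eq (hc : SelfCent p (G ⧸ Cfsg.pPrimeCore p G)) (hP : IsPGroup p P) :
    (Cfsg.pPrimeCore p (normalizer (P : Set G))).map (normalizer (P : Set G)).subtype =
      Cfsg.pPrimeCore p G ⊓ normalizer (P : Set G) := by
  set N := normalizer (P : Set G)
  refine le_antisymm (le_inf ?_ (map_subtype_le _)) ?_
  · refine pPrimeCore_normalizer_le hc hP (map_subtype_le _) ?_
      ((Solvable.coprime_card_pPrimeCore p).coprime_dvd_left (card_map_dvd _ _))
    intro g hg
    refine le_normalizer_map N.subtype ⟨⟨g, hg⟩, ?_, rfl⟩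
    rw [normalizer_eq_top_iff.2 (Solvable.pPrimeCore_normal p)]
    exact mem_top _
  · intro x hx
    refine ⟨⟨x, hx.2⟩, Solvable.le_pPrimeCore p (N := (Cfsg.pPrimeCore p G).subgroupOf N)
      ((Solvable.pPrimeCore_normal p).subgroupOf N) ?_ hx.1, rfl⟩
    exact (Solvable.coprime_card_pPrimeCore p).coprime_dvd_left
      (card_comap_dvd_of_injective _ N.subtype N.subtype_injective)

theorem pPrimeCore_centralizer_eq (hc : SelfCent p (G ⧸ Cfsg.pPrimeCore p G)) (hP : IsPGroup p P) :
    (Cfsg.pPrimeCore p (centralizer (P : Set G))).map (centralizer (P : Set G)).subtype =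
      Cfsg.pPrimeCore p G ⊓ centralizer (P : Set G) := by
  set C := centralizer (P : Set G) with hC
  refine le_antisymm (le_inf ?_ (map_subtype_le _)) ?_
  · refine pPrimeCore_normalizer_le hc hP ((map_subtype_le _).trans (centralizer_le_normalizer _)) ?_
      ((Solvable.coprime_card_pPrimeCore p).coprime_dvd_left (card_map_dvd _ _))
    set N := normalizer (P : Set G)
    have hle : C ≤ N := centralizer_le_normalizer _
    haveI hn : (C.subgroupOf N).Normal := normal_subgroupOf_of_le_normalizer fun g hg =>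
      LocalB.normalizer_le_normalizer_centralizer P hg
    intro g hg
    rw [mem_normalizer_iff_map_conj_eq]
    refine Solvable.eq_of_le_of_card_le ?_
      (Nat.card_congr (((Cfsg.pPrimeCore p C).map C.subtype).equivMapOfInjective _
        (MulAut.conj g).injective).toEquiv).le
    rintro _ ⟨_, ⟨y, hy, rfl⟩, rfl⟩
    let e : C ≃* C.subgroupOf N := (subgroupOfEquivOfLe hle).symm
    let c : MulAut (C.subgroupOf N) := MulAut.conjNormal ⟨g, hg⟩
    let φ : C ≃* C := (e.trans c).trans e.symm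
    have hmap : (Cfsg.pPrimeCore p C).map φ.toMonoidHom ≤ Cfsg.pPrimeCore p C :=
      Solvable.le_pPrimeCore p ((Solvable.pPrimeCore_normal p).map _ φ.surjective)
        ((Solvable.coprime_card_pPrimeCore p).coprime_dvd_left (card_map_dvd _ _))
    exact ⟨φ y, hmap ⟨y, hy, rfl⟩, rfl⟩
  · intro x hx
    refine ⟨⟨x, hx.2⟩, Solvable.le_pPrimeCore p (N := (Cfsg.pPrimeCore p G).subgroupOf C)
      ((Solvable.pPrimeCore_normal p).subgroupOf C) ?_ hx.1, rfl⟩
    exact (Solvable.coprime_card_pPrimeCore p).coprime_dvd_left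
      (card_comap_dvd_of_injective _ C.subtype C.subtype_injective)

/-- A subgroup `L ≤ N(P)` with the expected p'-core is p-constrained as soon as, modulo
`O_{p'}(G)`, it contains `C(P)` and `O_p(L)` can see `C_R(P)` and `P`. -/
theorem isPConstrained_local (hc : SelfCent p (G ⧸ Cfsg.pPrimeCore p G)) (hP : IsPGroup p P)
    {L : Subgroup G} (hCL : centralizer (P : Set G) ≤ L) (hLN : L ≤ normalizer (P : Set G))
    (hcore : (Cfsg.pPrimeCore p L).map L.subtype = Cfsg.pPrimeCore p G ⊓ L)
    (hPL : P ≤ L ∨ L ≤ centralizer (P : Set G)) : Cfsg.IsPConstrained p L := by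
  rw [isPConstrained_iff]
  set K := Cfsg.pPrimeCore p G
  let f := QuotientGroup.mk' K
  let g : L →* L.map f := f.subgroupMap L
  have hker : g.ker = Cfsg.pPrimeCore p L := by
    ext x
    constructor
    · intro hx
      have h1 : f (x : G) = 1 := congrArg Subtype.val hx
      have h2 : (x : G) ∈ K ⊓ L := ⟨(QuotientGroup.eq_one_iff _).1 h1, x.2⟩
      rw [← hcore] at h2
      obtain ⟨y, hy, hyx⟩ := h2
      rwa [← Subtype.ext (a1 := y) (a2 := x) hyx]
    · intro hx
      have h2 : (x : G) ∈ K ⊓ L := hcore ▸ ⟨x, hx, rfl⟩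
      exact Subtype.ext ((QuotientGroup.eq_one_iff _).2 h2.1)
  refine SelfCent.of_equiv ((QuotientGroup.quotientMulEquivOfEq hker.symm).trans
    (QuotientGroup.quotientKerEquivOfSurjective g (f.subgroupMap_surjective L))).symm ?_
  set X := L.map f with hX
  haveI hnc : (centralizer (Cfsg.pCore p X : Set X)).Normal := Subgroup.normal_centralizer
  refine Solvable.le_pCore p hnc (LocalB.isPGroup_of_forall fun w hw hwo => ?_)
  have hinR : ∀ r ∈ Cfsg.pCore p (G ⧸ K), (∀ x ∈ P.map f, x * r = r * x) →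
      ∃ r' : X, (r' : G ⧸ K) = r ∧ r' ∈ Cfsg.pCore p X := by
    intro r hr hfix
    obtain ⟨u, rfl⟩ := QuotientGroup.mk'_surjective K r
    obtain ⟨n, hn, hnu⟩ := ZJ.exists_mul_mem_centralizer (N := K) hP
      (Solvable.coprime_card_pPrimeCore p) (g := u) (fun x hx => by
        rw [← QuotientGroup.eq_one_iff]
        change f (u * x * u⁻¹ * x⁻¹) = 1
        rw [map_mul, map_mul, map_mul, map_inv, map_inv, ← hfix (f x) ⟨x, hx, rfl⟩,
          mul_inv_cancel_right, mul_inv_cancel])
    have hfu : f (n * u) = f u := by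
      rw [map_mul, show f n = 1 from (QuotientGroup.eq_one_iff n).2 hn, one_mul]
    refine ⟨⟨f u, hfu ▸ mem_map_of_mem f (hCL hnu)⟩, rfl, ?_⟩
    exact Solvable.le_pCore p (N := (Cfsg.pCore p (G ⧸ K)).subgroupOf X)
      ((Solvable.pCore_normal p).subgroupOf X)
      ((Solvable.isPGroup_pCore p).comap_of_injective X.subtype X.subtype_injective) hr
  have hw' : (w : G ⧸ K) = 1 := by
    refine eq_one_of_centralizes hc (hP.map f) (by rwa [orderOf_coe]) ?_ ?_
    · rintro _ ⟨x, hx, rfl⟩
      rcases hPL with h | h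
      · have hxX : f x ∈ X := mem_map_of_mem f (h hx)
        have hle : ((P.map f).subgroupOf X) ≤ Cfsg.pCore p X := by
          refine Solvable.le_pCore p (normal_subgroupOf_of_le_normalizer ?_)
            ((hP.map f).comap_of_injective X.subtype X.subtype_injective)
          exact (map_mono hLN).trans (le_normalizer_map f)
        exact congrArg Subtype.val (mem_centralizer_iff.1 hw ⟨f x, hxX⟩ (hle ⟨x, hx, rfl⟩))
      · obtain ⟨l, hl, hlw⟩ := w.2
        rw [← hlw]
        exact (show Commute x l from mem_centralizer_iff.1 (h hl) x hx).map f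
    · intro r hr hfix
      obtain ⟨r', hr', hr'mem⟩ := hinR r hr hfix
      rw [← hr']
      exact (congrArg Subtype.val (mem_centralizer_iff.1 hw r' hr'mem)).symm
  exact Subtype.ext hw'

end Local

end CfsgLib.PConstrained
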