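import Mathlib

/-!
`p`-groups with a cyclic subgroup of index `p`.
-/

set_option autoImplicit false

namespace CfsgLib.CyclicMaximal

variable {G : Type*} [Group G]

theorem conj_pow_pow {a x : G} {r : ℕ} (h : x * a * x⁻¹ = a ^ r) (l i : ℕ) :
    x ^ l * a ^ i * (x ^ l)⁻¹ = a ^ (r ^ l * i) := by
  induction l with
  | zero => simp
  | succ l ih =>
    calc x ^ (l + 1) * a ^ i * (x ^ (l + 1))⁻¹ = x * (x ^ l * a ^ i * (x ^ l)⁻¹) * x⁻¹ := by
          rw [pow_succ']; group
      _ = (x * a * x⁻¹) ^ (r ^ l * i) := by rw [ih, conj_pow]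
      _ = _ := by rw [h, ← pow_mul, pow_succ']; ring_nf

theorem mul_pow_eq {a x : G} {r : ℕ} (h : x * a * x⁻¹ = a ^ r) (i l : ℕ) :
    (a ^ i * x) ^ l = a ^ (i * ∑ j ∈ Finset.range l, r ^ j) * x ^ l := by
  induction l with
  | zero => simp
  | succ l ih =>
    rw [pow_succ, ih, Finset.sum_range_succ, mul_add, pow_add, pow_succ]
    calc a ^ (i * ∑ j ∈ Finset.range l, r ^ j) * x ^ l * (a ^ i * x)
        = a ^ (i * ∑ j ∈ Finset.range l, r ^ j) * (x ^ l * a ^ i * (x ^ l)⁻¹) * (x ^ l * x) := by group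
      _ = _ := by rw [conj_pow_pow h, mul_comm (r ^ l) i]

/-- The common set-up. -/
theorem setup [Finite G] {p : ℕ} [Fact p.Prime] {m : ℕ} (hG : Nat.card G = p ^ (m + 2))
    (C : Subgroup G) (hC : IsCyclic C) (hCi : C.index = p) (hna : ∃ x y : G, x * y ≠ y * x) :
    ∃ (a x : G) (r s : ℕ), orderOf a = p ^ (m + 1) ∧ x ∉ Subgroup.zpowers a ∧
      x * a * x⁻¹ = a ^ r ∧ ¬ r ≡ 1 [MOD p ^ (m + 1)] ∧ r ^ p ≡ 1 [MOD p ^ (m + 1)] ∧
      x ^ p = a ^ s ∧ r * s ≡ s [MOD p ^ (m + 1)] ∧ ∀ i : ℕ, a ^ i * x ∉ Subgroup.zpowers a := by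
  have hp : p.Prime := Fact.out
  obtain ⟨⟨a, ha⟩, hgen⟩ := hC.exists_generator
  have hCz : Subgroup.zpowers a = C := by
    refine le_antisymm (Subgroup.zpowers_le.2 ha) fun c hc => ?_
    obtain ⟨k, hk⟩ := hgen ⟨c, hc⟩
    exact ⟨k, congrArg Subtype.val hk⟩
  subst hCz
  have hao : orderOf a = p ^ (m + 1) := by
    have h1 := (Subgroup.zpowers a).card_mul_index
    rw [hCi, hG, Nat.card_zpowers, pow_succ] at h1
    exact Nat.eq_of_mul_eq_mul_right hp.pos h1
  have hCn : (Subgroup.zpowers a).Normal := by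
    refine Subgroup.normal_of_index_eq_minFac_card ?_
    rw [hCi, hG, Nat.Prime.pow_minFac hp (by omega)]
  obtain ⟨x, hx⟩ : ∃ x, x ∉ Subgroup.zpowers a := by
    by_contra h
    push Not at h
    have : Subgroup.zpowers a = ⊤ := eq_top_iff.2 fun y _ => h y
    rw [this, Subgroup.index_top] at hCi
    exact hp.one_lt.ne hCi
  obtain ⟨r, hr⟩ := mem_powers_iff_mem_zpowers.2 (hCn.conj_mem a (Subgroup.mem_zpowers a) x)
  have hr' : x * a * x⁻¹ = a ^ r := hr.symm
  have hxp : x ^ p ∈ Subgroup.zpowers a := by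
    have := (Subgroup.zpowers a).pow_index_mem x
    rwa [hCi] at this
  obtain ⟨s, hs⟩ := mem_powers_iff_mem_zpowers.2 hxp
  have hs' : x ^ p = a ^ s := hs.symm
  refine ⟨a, x, r, s, hao, hx, hr', fun h => ?_, ?_, hs', ?_, fun i hi => hx ?_⟩
  · obtain ⟨u, v, huv⟩ := hna
    have hcx : x * a = a * x := by
      have : a ^ r = a ^ 1 := by rwa [pow_eq_pow_iff_modEq, hao]
      rw [this, pow_one, mul_inv_eq_iff_eq_mul] at hr'
      exact hr'
    have hcl : ∀ y : G, ∃ i j : ℤ, y = a ^ i * x ^ j := by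
      intro y
      have htop : Subgroup.closure {a, x} = ⊤ := by
        by_contra hne
        have hle : Subgroup.zpowers a ≤ Subgroup.closure {a, x} :=
          Subgroup.zpowers_le.2 (Subgroup.subset_closure (by simp))
        have hd := Subgroup.index_dvd_of_le hle
        rw [hCi, Nat.dvd_prime hp] at hd
        rcases hd with hd | hd
        · exact hne (Subgroup.index_eq_one.1 hd)
        · have hri := Subgroup.relIndex_mul_index hle
          rw [hd, hCi] at hri
          have : (Subgroup.zpowers a).relIndex (Subgroup.closure {a, x}) = 1 :=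
            Nat.eq_of_mul_eq_mul_right hp.pos (by omega)
          exact hx (Subgroup.relIndex_eq_one.1 this (Subgroup.subset_closure (by simp)))
      have hy : y ∈ Subgroup.closure {a, x} := htop ▸ Subgroup.mem_top y
      induction hy using Subgroup.closure_induction with
      | mem z hz =>
        rcases hz with rfl | rfl
        · exact ⟨1, 0, by simp⟩
        · exact ⟨0, 1, by simp⟩
      | one => exact ⟨0, 0, by simp⟩
      | mul z w _ _ ihz ihw =>
        obtain ⟨i, j, rfl⟩ := ihz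
        obtain ⟨k, l, rfl⟩ := ihw
        refine ⟨i + k, j + l, ?_⟩
        have := (Commute.zpow_zpow (show Commute x a from hcx) j k).eq
        rw [zpow_add, zpow_add, mul_assoc, ← mul_assoc (x ^ j), this]
        group
      | inv z _ ihz =>
        obtain ⟨i, j, rfl⟩ := ihz
        refine ⟨-i, -j, ?_⟩
        have := (Commute.zpow_zpow (show Commute x a from hcx) (-j) (-i)).eq
        rw [mul_inv_rev, ← zpow_neg, ← zpow_neg, this]
    obtain ⟨i, j, rfl⟩ := hcl u
    obtain ⟨k, l, rfl⟩ := hcl v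
    refine huv ?_
    have h1 : Commute (a ^ i * x ^ j) (a ^ k * x ^ l) :=
      ((Commute.zpow_zpow_self a i k).mul_right
        (Commute.zpow_zpow (show Commute a x from hcx.symm) i l)).mul_left
        ((Commute.zpow_zpow (show Commute x a from hcx) j k).mul_right (Commute.zpow_zpow_self x j l))
    exact h1.eq
  · have h1 := conj_pow_pow hr' p 1
    rw [hs', pow_one, mul_one] at h1
    have h2 : a ^ (r ^ p) = a ^ 1 := by rw [pow_one, ← h1]; group
    rwa [pow_eq_pow_iff_modEq, hao] at h2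
  · have h1 := conj_pow_pow hr' 1 s
    rw [pow_one, pow_one, ← hs'] at h1
    have h2 : a ^ (r * s) = a ^ s := by rw [← h1, ← hs']; group
    rwa [pow_eq_pow_iff_modEq, hao] at h2
  · exact (Subgroup.mul_mem_cancel_left _ (Subgroup.pow_mem _ (Subgroup.mem_zpowers a) i)).1 hi

/-- `r ^ p ≡ 1 (mod p ^ (m + 1))` forces `r ≡ 1 (mod p ^ m)` for odd `p`. -/
theorem odd_root {p : ℕ} (hp : p.Prime) (hp2 : p ≠ 2) {m r : ℕ}
    (h : r ^ p ≡ 1 [MOD p ^ (m + 1)]) : (p : ℤ) ^ m ∣ (r : ℤ) - 1 := by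
  haveI : Fact p.Prime := ⟨hp⟩
  have h1 : (p : ℤ) ^ (m + 1) ∣ (r : ℤ) ^ p - 1 ^ p := by
    have := (Nat.modEq_iff_dvd.1 h.symm)
    simpa [one_pow] using this
  have hx : (p : ℤ) ∣ (r : ℤ) - 1 := by
    have h2 : (p : ℤ) ∣ (r : ℤ) ^ p - 1 := by
      simpa using (dvd_pow_self (p : ℤ) (by omega : m + 1 ≠ 0)).trans h1
    have h3 : ((r : ℤ) : ZMod p) ^ p = 1 := by
      have := (ZMod.intCast_zmod_eq_zero_iff_dvd _ p).2 h2
      push_cast at this ⊢
      exact sub_eq_zero.1 this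
    rw [ZMod.pow_card] at h3
    rw [← ZMod.intCast_zmod_eq_zero_iff_dvd]
    push_cast at h3 ⊢
    rw [h3, sub_self]
  have hnr : ¬ (p : ℤ) ∣ (r : ℤ) := fun hd =>
    hp.one_lt.ne' (Nat.dvd_one.1 (Int.natCast_dvd_natCast.1 (by simpa using dvd_sub hd hx)))
  have hLTE := Int.emultiplicity_pow_sub_pow hp (hp.odd_of_ne_two hp2) hx hnr p
  rw [hp.emultiplicity_self] at hLTE
  have h4 := le_emultiplicity_of_pow_dvd h1
  rw [hLTE, Nat.cast_succ] at h4
  exact pow_dvd_of_le_emultiplicity ((ENat.add_le_add_iff_right ENat.one_ne_top).1 h4)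

theorem one_add_pow_modEq (M N k l : ℕ) (hN : M ∣ N * N) :
    (1 + k * N) ^ l ≡ 1 + l * k * N [MOD M] := by
  induction l with
  | zero => simp [Nat.ModEq]
  | succ l ih =>
    rw [pow_succ]
    refine (ih.mul_right _).trans ?_
    have e : (1 + l * k * N) * (1 + k * N) = (1 + (l + 1) * k * N) + l * k * k * (N * N) := by ring
    rw [e]
    refine ((Nat.modEq_zero_iff_dvd.2 (dvd_mul_of_dvd_right hN _)).add_left _).trans ?_
    rw [add_zero]

end CfsgLib.CyclicMaximal
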