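import Mathlib
import Cfsg.Agent.Solvable.PGroupBasic
import Cfsg.Agent.PLocal.CyclicMaximal
import Cfsg.Agent.S0645

/-!
Small normal subgroups of odd order `p`-groups.
-/

set_option autoImplicit false
set_option linter.style.haveILetI false
open scoped commutatorElement

namespace CfsgLib.OddPGroup

open Subgroup

variable {G : Type*} [Group G]

theorem pow_of_central {x y c : G} (h : y * x = c * (x * y)) (hc : ∀ g, c * g = g * c) (k : ℕ) :
    (x * y) ^ k = c ^ (k.choose 2) * (x ^ k * y ^ k) := by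
  have hck : ∀ (j : ℕ) (g : G), c ^ j * g = g * c ^ j := fun j g => (Commute.pow_left (hc g) j).eq
  have hyx : ∀ j : ℕ, y ^ j * x = c ^ j * (x * y ^ j) := by
    intro j
    induction j with
    | zero => simp
    | succ j ih =>
      calc y ^ (j + 1) * x = y ^ j * (y * x) := by rw [pow_succ, mul_assoc]
        _ = y ^ j * (c * (x * y)) := by rw [h]
        _ = c * (y ^ j * x) * y := by rw [← mul_assoc, ← hc]; group
        _ = c * (c ^ j * (x * y ^ j)) * y := by rw [ih]
        _ = c ^ (j + 1) * (x * y ^ (j + 1)) := by rw [pow_succ' c, pow_succ y]; group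
  induction k with
  | zero => simp
  | succ k ih =>
    rw [pow_succ, ih, Nat.choose_succ_succ, Nat.choose_one_right, pow_add]
    calc c ^ (k.choose 2) * (x ^ k * y ^ k) * (x * y)
        = c ^ (k.choose 2) * x ^ k * (y ^ k * x) * y := by group
      _ = c ^ (k.choose 2) * (x ^ k * c ^ k) * (x * y ^ k) * y := by rw [hyx]; group
      _ = c ^ (k.choose 2) * (c ^ k * x ^ k) * (x * y ^ k) * y := by rw [hck k]
      _ = _ := by rw [(Commute.pow_pow_self c k (k.choose 2)).eq, pow_succ x, pow_succ y]; group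

theorem pow_p_of_central {p : ℕ} (hp : p.Prime) (hp2 : p ≠ 2) {x y c : G} (h : y * x = c * (x * y))
    (hc : ∀ g, c * g = g * c) (hcp : c ^ p = 1) : (x * y) ^ p = x ^ p * y ^ p := by
  rw [pow_of_central h hc]
  obtain ⟨d, hd⟩ := hp.dvd_choose_self (k := 2) (by norm_num)
    (lt_of_le_of_ne hp.two_le (Ne.symm hp2))
  rw [hd, pow_mul, hcp, one_pow, one_mul]

variable {p : ℕ} [Fact p.Prime]

/-- A nontrivial normal subgroup of a `p`-group contains a normal subgroup of index `p`. -/
theorem exists_normal_maximal [Finite G] (hG : IsPGroup p G) {S : Subgroup G} (hS : S.Normal)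
    (h1 : S ≠ ⊥) : ∃ T : Subgroup G, T.Normal ∧ T < S ∧ Nat.card S = p * Nat.card T := by
  haveI := hG.isNilpotent
  haveI := hS
  obtain ⟨T, -, hT⟩ := Finite.exists_le_maximal (p := fun T : Subgroup G => T.Normal ∧ T < S)
    (a := ⊥) ⟨inferInstance, bot_lt_iff_ne_bot.2 h1⟩
  obtain ⟨hTn, hTS⟩ := hT.1
  haveI := hTn
  refine ⟨T, hTn, hTS, ?_⟩
  obtain ⟨x, hxS, hxT, hx⟩ := PGroupBasic.exists_central_mod T S hTS
  obtain ⟨z, hzS, hzT, hzp, hz⟩ : ∃ z ∈ S, z ∉ T ∧ z ^ p ∈ T ∧ ∀ g : G, z * g * z⁻¹ * g⁻¹ ∈ T := by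
    classical
    obtain ⟨k, hk⟩ := hG x
    have hex : ∃ k, x ^ p ^ k ∈ T := ⟨k, hk ▸ T.one_mem⟩
    obtain ⟨j, hj⟩ : ∃ j, Nat.find hex = j + 1 :=
      Nat.exists_eq_succ_of_ne_zero fun h => hxT (by simpa [h] using Nat.find_spec hex)
    refine ⟨x ^ p ^ j, S.pow_mem hxS _, Nat.find_min hex (by omega), ?_, fun g => ?_⟩
    · rw [← pow_mul, ← pow_succ, ← hj]; exact Nat.find_spec hex
    · rw [← QuotientGroup.eq_one_iff]
      have hc : Commute (QuotientGroup.mk' T x) (QuotientGroup.mk' T g) := by
        have := (QuotientGroup.eq_one_iff _).2 (hx g)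
        simp only [QuotientGroup.mk_mul, QuotientGroup.mk_inv, mul_inv_eq_one] at this
        exact mul_inv_eq_iff_eq_mul.1 this
      have := (hc.pow_left (p ^ j)).eq
      simp only [QuotientGroup.mk'_apply] at this
      simp only [QuotientGroup.mk_mul, QuotientGroup.mk_inv, QuotientGroup.mk_pow, this]
      group
  have hn : (T ⊔ zpowers z).Normal := by
    constructor
    intro y hy g
    have hle : (T ⊔ zpowers z).map (MulAut.conj g).toMonoidHom ≤ T ⊔ zpowers z := by
      rw [Subgroup.map_sup, sup_le_iff]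
      refine ⟨?_, ?_⟩
      · rintro _ ⟨t, ht, rfl⟩
        exact mem_sup_left (hTn.conj_mem t ht g)
      · rw [map_le_iff_le_comap, zpowers_le, mem_comap]
        change g * z * g⁻¹ ∈ _
        rw [show g * z * g⁻¹ = (z * g * z⁻¹ * g⁻¹)⁻¹ * z by group]
        exact mul_mem (inv_mem (mem_sup_left (hz g))) (mem_sup_right (mem_zpowers z))
    exact hle ⟨y, hy, rfl⟩
  have hle : T ⊔ zpowers z ≤ S := sup_le hTS.le (zpowers_le.2 hzS)
  have heq : T ⊔ zpowers z = S := by
    by_contra hne
    exact hzT ((hT.2 ⟨hn, lt_of_le_of_ne hle hne⟩ le_sup_left) (mem_sup_right (mem_zpowers z)))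
  have h2 : Nat.card S ≤ p * Nat.card T := by
    rw [← heq, sup_comm]; exact PGroupBasic.card_sup_zpowers_le T z hzp
  obtain ⟨a, ha⟩ := IsPGroup.iff_card.1 (hG.to_subgroup S)
  obtain ⟨b, hb⟩ := IsPGroup.iff_card.1 (hG.to_subgroup T)
  have h3 := CfsgLib.Solvable.card_lt_of_lt hTS
  rw [ha, hb, ← pow_succ'] at h2 ⊢
  rw [ha, hb] at h3
  have hp := (Fact.out : p.Prime).one_lt
  have h4 := (Nat.pow_le_pow_iff_right hp).1 h2
  have h5 := (Nat.pow_lt_pow_iff_right hp).1 h3
  rw [show a = b + 1 by omega]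

/-- In a non-cyclic group with a cyclic subgroup of index `p` odd, the elements of order dividing
`p` form a subgroup of order `p ^ 2`. -/
theorem omega_cyclic_maximal [Finite G] (hp2 : p ≠ 2) (hG : IsPGroup p G) (hnc : ¬ IsCyclic G)
    (C : Subgroup G) (hC : IsCyclic C) (hCi : C.index = p) :
    (∀ x y : G, (x * y) ^ p = x ^ p * y ^ p) ∧ Nat.card {x : G // x ^ p = 1} = p ^ 2 := by
  have hp : p.Prime := Fact.out
  have hhom : ∀ x y : G, (x * y) ^ p = x ^ p * y ^ p := by
    by_cases hna : ∃ x y : G, x * y ≠ y * x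
    · obtain ⟨n, hn⟩ := IsPGroup.iff_card.1 hG
      have hn3 : 3 ≤ n := by
        by_contra h
        obtain ⟨u, v, huv⟩ := hna
        refine huv ?_
        rcases (show n = 0 ∨ n = 1 ∨ n = 2 by omega) with rfl | rfl | rfl
        · haveI := (Nat.card_eq_one_iff_unique.1 (by simpa using hn)).1; exact absurd isCyclic_of_subsingleton hnc
        · exact absurd (isCyclic_of_prime_card (p := p) (by simpa using hn)) hnc
        · exact (IsPGroup.isMulCommutative_of_card_eq_prime_sq hn).is_comm.comm u v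
      obtain ⟨a, b, hao, hbo, hba, hrel⟩ :=
        Cfsg.Agent.S0645.result hp2 n hn3 hn C hC hCi hna
      set N := p ^ (n - 2) with hN
      have hpN : p * N = p ^ (n - 1) := by rw [hN, ← pow_succ', show n - 2 + 1 = n - 1 by omega]
      have hNp : p ∣ N := dvd_pow_self p (by omega)
      set c := a ^ N with hc
      have hcp : c ^ p = 1 := by rw [hc, ← pow_mul, mul_comm, hpN, ← hao, pow_orderOf_eq_one]
      have htop : closure ({a, b} : Set G) = ⊤ := by
        have hle : zpowers a ≤ closure ({a, b} : Set G) := zpowers_le.2 (subset_closure (by simp))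
        have hidx : (zpowers a).index = p := by
          have h1 := (zpowers a).card_mul_index
          rw [Nat.card_zpowers, hao, hn, show p ^ n = p ^ (n - 1) * p by
            rw [← pow_succ, Nat.sub_add_cancel (by omega)]] at h1
          exact Nat.eq_of_mul_eq_mul_left (pow_pos hp.pos _) h1
        have hd := index_dvd_of_le hle
        rw [hidx, Nat.dvd_prime hp] at hd
        rcases hd with hd | hd
        · exact index_eq_one.1 hd
        · have h1 := relIndex_mul_index hle
          rw [hd, hidx] at h1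
          exact absurd (relIndex_eq_one.1 (Nat.eq_of_mul_eq_mul_right hp.pos (by omega :
            (zpowers a).relIndex (closure ({a, b} : Set G)) * p = 1 * p)) (subset_closure (by simp))) hba
      have hcz : c ∈ center G := by
        have hcb : b * c * b⁻¹ = c := by
          obtain ⟨d, hd⟩ := hNp
          rw [hc, ← conj_pow, hrel, ← pow_mul]
          calc a ^ ((1 + N) * N) = a ^ N * (a ^ (p * N)) ^ d := by
                rw [← pow_mul, ← pow_add]; congr 1; rw [hd]; ring
            _ = a ^ N := by rw [hpN, ← hao, pow_orderOf_eq_one, one_pow, mul_one]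
        have hle : closure ({a, b} : Set G) ≤ centralizer {c} := by
          rw [closure_le]
          rintro g (rfl | rfl)
          · exact mem_centralizer_singleton_iff.2 (by rw [hc, ← pow_succ, ← pow_succ'])
          · exact mem_centralizer_singleton_iff.2 ((mul_inv_eq_iff_eq_mul.1 hcb))
        rw [htop, top_le_iff] at hle
        rw [mem_center_iff]
        intro g
        exact mem_centralizer_singleton_iff.1 (hle ▸ mem_top g)
      haveI hZn : (zpowers c).Normal := ⟨fun z hz g => by
        obtain ⟨k, rfl⟩ := hz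
        have := mem_center_iff.1 ((center G).zpow_mem hcz k) g
        simp only [this, mul_inv_cancel_right]
        exact ⟨k, rfl⟩⟩
      let f := QuotientGroup.mk' (zpowers c)
      have hfa : f b * f a = f a * f b := by
        have : f (b * a * b⁻¹) = f a := by
          have h0 : f c = 1 := (QuotientGroup.eq_one_iff c).2 (mem_zpowers c)
          rw [hrel, pow_add, pow_one, map_mul, h0, mul_one]
        rw [map_mul, map_mul, map_inv, mul_inv_eq_iff_eq_mul] at this
        exact this
      have hall : ∀ x y : G, f x * f y = f y * f x := by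
        have hle : closure ({a, b} : Set G) ≤
            (centralizer ({f a, f b} : Set (G ⧸ zpowers c))).comap f := by
          rw [closure_le]
          rintro g hg
          rw [SetLike.mem_coe, mem_comap, mem_centralizer_iff]
          rintro h (rfl | rfl) <;> rcases hg with rfl | rfl <;>
            first | rfl | exact hfa | exact hfa.symm
        rw [htop, top_le_iff] at hle
        intro x y
        have hx : f x ∈ centralizer ({f a, f b} : Set (G ⧸ zpowers c)) := by
          have := mem_top (G := G) x; rw [← hle] at this; exact this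
        have hle2 : closure ({a, b} : Set G) ≤ (centralizer {f x}).comap f := by
          rw [closure_le]
          rintro g hg
          refine mem_centralizer_singleton_iff.2 ?_
          rcases hg with rfl | rfl
          · exact mem_centralizer_iff.1 hx _ (by simp)
          · exact mem_centralizer_iff.1 hx _ (by simp)
        rw [htop] at hle2
        exact (mem_centralizer_singleton_iff.1 (hle2 (mem_top y))).symm
      intro x y
      obtain ⟨k, hk⟩ : y * x * (x * y)⁻¹ ∈ zpowers c := by
        rw [← QuotientGroup.eq_one_iff]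
        have h2 : f (y * x) = f (x * y) := by rw [map_mul, map_mul, hall]
        change f (y * x * (x * y)⁻¹) = 1
        rw [map_mul, map_inv, h2, mul_inv_cancel]
      simp only at hk
      refine pow_p_of_central hp hp2 (c := c ^ k) (by rw [hk]; group)
        (fun g => (mem_center_iff.1 ((center G).zpow_mem hcz k) g).symm) ?_
      rw [← zpow_natCast, ← zpow_mul, mul_comm, zpow_mul, zpow_natCast, hcp, one_zpow]
    · push Not at hna
      exact fun x y => (show Commute x y from hna x y).mul_pow p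
  refine ⟨hhom, ?_⟩
  let F : G →* G := MonoidHom.mk' (fun x => x ^ p) hhom
  obtain ⟨⟨a, ha⟩, hgen⟩ := hC.exists_generator
  have hCz : zpowers a = C := by
    refine le_antisymm (zpowers_le.2 ha) fun c hc => ?_
    obtain ⟨k, hk⟩ := hgen ⟨c, hc⟩
    exact ⟨k, congrArg Subtype.val hk⟩
  subst hCz
  obtain ⟨n, hn⟩ := IsPGroup.iff_card.1 hG
  have hn0 : n ≠ 0 := fun h => by
    have h1 := (zpowers a).index_dvd_card
    rw [hCi, hn, h, pow_zero] at h1
    exact hp.one_lt.ne' (Nat.dvd_one.1 h1)
  haveI hCn : (zpowers a).Normal := by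
    refine normal_of_index_eq_minFac_card ?_
    rw [hCi, hn, Nat.Prime.pow_minFac hp hn0]
  have hao : Nat.card G = orderOf a * p := by
    rw [← hCi, ← Nat.card_zpowers, card_mul_index]
  have hpa : p ∣ orderOf a := by
    by_contra h
    have h1 := orderOf_dvd_natCard a
    rw [hn] at h1
    obtain ⟨k, -, hk⟩ := (Nat.dvd_prime_pow hp).1 h1
    rcases k with _ | k
    · exact hnc (isCyclic_of_prime_card (p := p) (by rw [hao, hk, pow_zero, one_mul]))
    · exact h (hk ▸ dvd_pow_self p (by omega))
  have hrange : F.range = zpowers (a ^ p) := by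
    refine le_antisymm ?_ (zpowers_le.2 ⟨a, rfl⟩)
    rintro _ ⟨x, rfl⟩
    change x ^ p ∈ zpowers (a ^ p)
    have hxC : x ^ p ∈ zpowers a := by
      have := (zpowers a).pow_index_mem x
      rwa [hCi] at this
    obtain ⟨j, hj⟩ := mem_powers_iff_mem_zpowers.2 hxC
    simp only at hj
    by_cases hpj : p ∣ j
    · obtain ⟨d, rfl⟩ := hpj
      rw [← hj, pow_mul]
      exact Subgroup.pow_mem _ (mem_zpowers _) d
    exfalso
    apply hnc
    refine ⟨⟨x, fun y => ?_⟩⟩
    have hcop : (orderOf a).Coprime j := by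
      obtain ⟨k, -, hk⟩ := (Nat.dvd_prime_pow hp).1 (hn ▸ orderOf_dvd_natCard a)
      rw [hk]
      exact Nat.Coprime.pow_left _ (hp.coprime_iff_not_dvd.2 hpj)
    obtain ⟨i, hi⟩ := exists_pow_eq_self_of_coprime hcop.symm
    have hax : a ∈ zpowers x := by
      rw [← hi, hj, ← pow_mul]
      exact Subgroup.pow_mem _ (mem_zpowers x) _
    have hxa : x ∉ zpowers a := by
      rintro ⟨l, hl⟩
      simp only at hl
      refine hpj (Int.natCast_dvd_natCast.1 ?_)
      have h1 : a ^ ((j : ℤ)) = a ^ (l * (p : ℤ)) := by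
        rw [zpow_natCast, hj, ← hl, ← zpow_natCast, ← zpow_mul]
      rw [zpow_eq_zpow_iff_modEq, Int.modEq_iff_dvd] at h1
      have h2 : (p : ℤ) ∣ l * p - j := (Int.natCast_dvd_natCast.2 hpa).trans h1
      simpa using dvd_sub (dvd_mul_left (p : ℤ) l) h2
    have htop : zpowers x = ⊤ := by
      have hle : zpowers a ≤ zpowers x := zpowers_le.2 hax
      have hd := index_dvd_of_le hle
      rw [hCi, Nat.dvd_prime hp] at hd
      rcases hd with hd | hd
      · exact index_eq_one.1 hd
      · have h1 := relIndex_mul_index hle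
        rw [hd, hCi] at h1
        exact absurd (relIndex_eq_one.1 (Nat.eq_of_mul_eq_mul_right hp.pos (by omega :
          (zpowers a).relIndex (zpowers x) * p = 1 * p)) (mem_zpowers x)) hxa
    change y ∈ zpowers x
    rw [htop]; exact mem_top y
  have h1 := F.ker.card_mul_index
  rw [index_ker, hrange, Nat.card_zpowers, orderOf_pow_of_dvd hp.ne_zero hpa, hao] at h1
  change Nat.card F.ker = p ^ 2
  obtain ⟨d, hd⟩ := hpa
  rw [hd, Nat.mul_div_cancel_left _ hp.pos] at h1
  have hd0 : 0 < d := Nat.pos_of_ne_zero fun h => by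
    rw [h, mul_zero] at hd; exact (orderOf_pos a).ne' hd
  exact Nat.eq_of_mul_eq_mul_right hd0 (by rw [h1]; ring)

/-- A noncyclic normal subgroup of a `p`-group, `p` odd, contains a normal elementary abelian
subgroup of order `p ^ 2`. -/
theorem exists_normal_elementary [Finite G] (hp2 : p ≠ 2) (hG : IsPGroup p G) :
    ∀ (S : Subgroup G), S.Normal → ¬ IsCyclic S →
      ∃ A : Subgroup G, A ≤ S ∧ A.Normal ∧ (IsMulCommutative A ∧ ∀ a ∈ A, a ^ p = 1) ∧
        Nat.card A = p ^ 2 := by
  have hp : p.Prime := Fact.out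
  intro S
  induction S using WellFoundedLT.induction with
  | _ S ih =>
  intro hSn hnc
  have hS1 : S ≠ ⊥ := fun h => hnc (by subst h; exact isCyclic_of_subsingleton)
  obtain ⟨T, hTn, hTS, hcard⟩ := exists_normal_maximal hG hSn hS1
  by_cases hT : IsCyclic T
  · have hi : (T.subgroupOf S).index = p := by
      have h1 := (T.subgroupOf S).card_mul_index
      rw [Nat.card_congr (subgroupOfEquivOfLe hTS.le).toEquiv, hcard, mul_comm p] at h1
      exact Nat.eq_of_mul_eq_mul_left Nat.card_pos h1
    obtain ⟨hhom, hc⟩ := omega_cyclic_maximal hp2 (hG.to_subgroup S) hnc (T.subgroupOf S)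
      ((subgroupOfEquivOfLe hTS.le).isCyclic.mpr hT) hi
    let F : S →* S := MonoidHom.mk' (fun x => x ^ p) hhom
    have hcA : Nat.card (F.ker.map S.subtype) = p ^ 2 := by
      rw [← Nat.card_congr (F.ker.equivMapOfInjective _ S.subtype_injective).toEquiv]
      exact hc
    refine ⟨F.ker.map S.subtype, map_subtype_le _, ⟨?_⟩, ⟨?_, ?_⟩, hcA⟩
    · rintro _ ⟨y, hy, rfl⟩ g
      refine ⟨⟨g * y * g⁻¹, hSn.conj_mem _ y.2 g⟩, Subtype.ext ?_, rfl⟩
      change (g * y * g⁻¹) ^ p = 1
      rw [conj_pow, show ((y : G) ^ p) = 1 from congrArg Subtype.val hy, mul_one, mul_inv_cancel]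
    · exact IsPGroup.isMulCommutative_of_card_eq_prime_sq hcA
    · rintro _ ⟨y, hy, rfl⟩
      exact congrArg Subtype.val hy
  · obtain ⟨A, hA, h⟩ := ih T hTS hTn hT
    exact ⟨A, hA.trans hTS.le, h⟩

/-- In a metacyclic noncyclic `p`-group, `p` odd, the elements of order dividing `p` form an
elementary abelian group of order `p ^ 2`. -/
theorem omega_metacyclic [Finite G] (hp2 : p ≠ 2) (hG : IsPGroup p G) (hnc : ¬ IsCyclic G)
    (N : Subgroup G) [N.Normal] (hN : IsCyclic N) (hQ : IsCyclic (G ⧸ N)) :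
    ∃ A : Subgroup G, (IsMulCommutative A ∧ ∀ a ∈ A, a ^ p = 1) ∧ Nat.card A = p ^ 2 ∧
      ∀ x : G, x ^ p = 1 → x ∈ A := by
  have hp : p.Prime := Fact.out
  haveI := hG.isNilpotent
  have hnc' : ¬ IsCyclic (⊤ : Subgroup G) := fun h => hnc (topEquiv.isCyclic.mp h)
  obtain ⟨A, -, hAn, ⟨hab, hexp⟩, hcA⟩ := exists_normal_elementary hp2 hG ⊤ inferInstance hnc'
  refine ⟨A, ⟨hab, hexp⟩, hcA, fun x hx => ?_⟩
  haveI := hAn
  set D := A ⊓ center G with hD
  have hD1 : D ≠ ⊥ := PGroupBasic.inf_center_ne_bot A (by rintro rfl; rw [card_bot] at hcA; nlinarith [hp.one_lt])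
  have hcen : ∀ a ∈ A, ∀ g : G, a * g * a⁻¹ * g⁻¹ ∈ D := by
    have hA2 : ∀ B : Subgroup G, D < B → B ≤ A → B = A := by
      intro B h1 h2
      obtain ⟨i, hi, hiD⟩ := (Nat.dvd_prime_pow hp).1 (hcA ▸ card_dvd_of_le (h1.le.trans h2))
      obtain ⟨j, hj, hjB⟩ := (Nat.dvd_prime_pow hp).1 (hcA ▸ card_dvd_of_le h2)
      have h3 := CfsgLib.Solvable.card_lt_of_lt h1
      rw [hiD, hjB] at h3
      have h4 := (Nat.pow_lt_pow_iff_right hp.one_lt).1 h3
      have hi0 : i ≠ 0 := fun h => hD1 (eq_bot_of_card_eq _ (by rw [hiD, h, pow_zero]))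
      refine CfsgLib.Solvable.eq_of_le_of_card_le h2 ?_
      rw [hcA, hjB, show j = 2 by omega]
    by_cases hAD : D = A
    · intro a ha g
      rw [← hAD] at ha
      rw [(mem_center_iff.1 ha.2 g).symm]
      simp [D.one_mem]
    haveI : D.Normal := inferInstanceAs (A ⊓ center G).Normal
    let K : Subgroup G := A ⊓ (center (G ⧸ D)).comap (QuotientGroup.mk' D)
    have hDK : D ≤ K := by
      intro d hd
      refine ⟨hd.1, ?_⟩
      have h1 : QuotientGroup.mk' D d = 1 := (QuotientGroup.eq_one_iff d).2 hd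
      change QuotientGroup.mk' D d ∈ center (G ⧸ D)
      rw [h1]
      exact one_mem _
    obtain ⟨y, hyA, hyD, hy⟩ := PGroupBasic.exists_central_mod D A (lt_of_le_of_ne inf_le_left hAD)
    have hyK : y ∈ K := by
      refine ⟨hyA, mem_center_iff.2 fun q => ?_⟩
      obtain ⟨g, rfl⟩ := QuotientGroup.mk'_surjective D q
      have h : QuotientGroup.mk' D (y * g * y⁻¹ * g⁻¹) = 1 := (QuotientGroup.eq_one_iff _).2 (hy g)
      simp only [map_mul, map_inv] at h
      exact (mul_inv_eq_iff_eq_mul.1 (mul_inv_eq_one.1 h)).symm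
    have hKA : K = A := hA2 K (lt_of_le_of_ne hDK fun h => hyD (h ▸ hyK)) inf_le_left
    intro a ha g
    rw [← hKA] at ha
    rw [← QuotientGroup.eq_one_iff]
    have := mem_center_iff.1 ha.2 (QuotientGroup.mk' D g)
    simp only [QuotientGroup.mk'_apply] at this
    simp only [QuotientGroup.mk_mul, QuotientGroup.mk_inv]
    rw [← this]; group
  set B := A ⊔ zpowers x with hB
  have hexpB : ∀ b ∈ B, b ^ p = 1 := by
    intro b hb
    rw [hB, ← SetLike.mem_coe, coe_mul_of_right_le_normalizer_left A (zpowers x) le_normalizer_of_normal] at hb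
    obtain ⟨a, ha, z, ⟨k, rfl⟩, rfl⟩ := hb
    change (a * x ^ k) ^ p = 1
    set z := x ^ k with hz
    obtain ⟨hcA', hcz⟩ := hcen a ha z
    set c := a * z * a⁻¹ * z⁻¹ with hc
    have hcc : ∀ g, c⁻¹ * g = g * c⁻¹ := fun g =>
      (mem_center_iff.1 ((center G).inv_mem hcz) g).symm
    rw [pow_p_of_central hp hp2 (c := c⁻¹) (by rw [hc]; group) hcc
      (by rw [inv_pow, hexp c hcA', inv_one]), hexp a ha, one_mul, hz,
      ← zpow_natCast, ← zpow_mul, mul_comm, zpow_mul, zpow_natCast, hx, one_zpow]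
  by_contra hxA
  have hAB : A < B := lt_of_le_of_ne le_sup_left fun h => hxA (by
    rw [h]; exact mem_sup_right (mem_zpowers x))
  have h1 : Nat.card (N ⊓ B : Subgroup G) ≤ p := by
    haveI : IsCyclic (N ⊓ B : Subgroup G) :=
      isCyclic_of_injective (Subgroup.inclusion (inf_le_left : N ⊓ B ≤ N)) (Subgroup.inclusion_injective _)
    obtain ⟨g, hg⟩ := IsCyclic.exists_ofOrder_eq_natCard (α := (N ⊓ B : Subgroup G))
    rw [← hg]
    exact orderOf_le_of_pow_eq_one hp.pos (Subtype.ext (hexpB g g.2.2))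
  have h2 : Nat.card (B.map (QuotientGroup.mk' N)) ≤ p := by
    haveI : IsCyclic (B.map (QuotientGroup.mk' N)) :=
      isCyclic_of_injective (B.map (QuotientGroup.mk' N)).subtype (Subgroup.subtype_injective _)
    obtain ⟨g, hg⟩ := IsCyclic.exists_ofOrder_eq_natCard (α := B.map (QuotientGroup.mk' N))
    rw [← hg]
    refine orderOf_le_of_pow_eq_one hp.pos (Subtype.ext ?_)
    obtain ⟨b, hb, hbg⟩ := g.2
    rw [SubmonoidClass.coe_pow, ← hbg, ← map_pow, hexpB b hb, map_one, OneMemClass.coe_one]
  have h3 : Nat.card B ≤ p * p := by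
    have e1 : Nat.card (N ⊓ B : Subgroup G) * N.relIndex B = Nat.card B := by
      rw [← relIndex_bot_left, ← relIndex_bot_left, ← inf_relIndex_right N B]
      exact relIndex_mul_relIndex ⊥ (N ⊓ B) B bot_le inf_le_right
    have e2 : N.relIndex B = Nat.card (B.map (QuotientGroup.mk' N)) := by
      rw [← relIndex_ker, QuotientGroup.ker_mk']
    rw [← e1, e2]
    exact Nat.mul_le_mul h1 h2
  have := CfsgLib.Solvable.card_lt_of_lt hAB
  rw [hcA, sq] at this
  omega

end CfsgLib.OddPGroup
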