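/-
Elementary abelian subgroups, the Thompson subgroup J, and omega one.
-/
import Mathlib.GroupTheory.Sylow
import Mathlib.GroupTheory.Subgroup.Centralizer
import Mathlib.GroupTheory.Perm.Cycle.Type
import Cfsg.Prelude.Def_PLocal
import Cfsg.Agent.Solvable.Basics

set_option autoImplicit false

namespace CfsgLib.Thompson

open Subgroup Cfsg

universe u

variable {G : Type u} [Group G] {p : ℕ}

/-! ### Elementary abelian subgroups -/

theorem elab_commute {A : Subgroup G} (hA : IsElementaryAbelian p A) {x y : G} (hx : x ∈ A)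
    (hy : y ∈ A) : x * y = y * x :=
  congrArg Subtype.val (hA.1.is_comm.comm (⟨x, hx⟩ : A) ⟨y, hy⟩)

theorem elab_le_centralizer {A : Subgroup G} (hA : IsElementaryAbelian p A) :
    A ≤ centralizer (A : Set G) :=
  fun _ hx => mem_centralizer_iff.mpr fun _ hy => elab_commute hA hy hx

theorem elab_bot : IsElementaryAbelian p (⊥ : Subgroup G) :=
  ⟨⟨⟨fun _ _ => Subsingleton.elim _ _⟩⟩, fun a ha => by rw [mem_bot.mp ha, one_pow]⟩

theorem elab_mono {A B : Subgroup G} (hA : IsElementaryAbelian p A) (h : B ≤ A) :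
    IsElementaryAbelian p B :=
  ⟨⟨⟨fun x y => Subtype.ext (elab_commute hA (h x.2) (h y.2))⟩⟩, fun a ha => hA.2 a (h ha)⟩

theorem elab_map {H : Type*} [Group H] (f : G →* H) {A : Subgroup G}
    (hA : IsElementaryAbelian p A) : IsElementaryAbelian p (A.map f) := by
  refine ⟨⟨⟨?_⟩⟩, ?_⟩
  · rintro ⟨_, a, ha, rfl⟩ ⟨_, b, hb, rfl⟩
    exact Subtype.ext (show f a * f b = f b * f a by
      rw [← map_mul, ← map_mul, elab_commute hA ha hb])
  · rintro _ ⟨a, ha, rfl⟩
    rw [← map_pow, hA.2 a ha, map_one]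

theorem elab_subgroupOf {A : Subgroup G} (hA : IsElementaryAbelian p A) (U : Subgroup G) :
    IsElementaryAbelian p (A.subgroupOf U) :=
  ⟨⟨⟨fun x y => Subtype.ext (Subtype.ext (elab_commute hA (mem_subgroupOf.mp x.2)
      (mem_subgroupOf.mp y.2)))⟩⟩,
    fun a ha => Subtype.ext (hA.2 (a : G) (mem_subgroupOf.mp ha))⟩

theorem elab_sup {A B : Subgroup G} (hA : IsElementaryAbelian p A)
    (hB : IsElementaryAbelian p B) (h : A ≤ centralizer (B : Set G)) :
    IsElementaryAbelian p (A ⊔ B) := by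
  have hc : ∀ x ∈ A, ∀ y ∈ B, x * y = y * x := fun x hx y hy =>
    (mem_centralizer_iff.mp (h hx) y hy).symm
  have hn : A ≤ normalizer (B : Set G) := fun x hx => by
    refine mem_normalizer_iff.mpr fun y => ⟨fun hy => ?_, fun hy => ?_⟩
    · rwa [hc x hx y hy, mul_inv_cancel_right]
    · have h1 := hc x hx _ hy
      rw [mul_assoc (x * y), inv_mul_cancel, mul_one, mul_right_inj] at h1
      rwa [h1] at hy
  have hmem : ∀ z ∈ A ⊔ B, ∃ a ∈ A, ∃ b ∈ B, a * b = z := fun z hz =>
    (CfsgLib.Solvable.mem_sup_of_le_normalizer hn).mp hz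
  refine ⟨⟨⟨fun x y => Subtype.ext ?_⟩⟩, ?_⟩
  · obtain ⟨a, ha, b, hb, hx⟩ := hmem x x.2
    obtain ⟨c, hc', d, hd, hy⟩ := hmem y y.2
    show (x : G) * y = y * x
    rw [← hx, ← hy]
    calc a * b * (c * d) = a * (b * c) * d := by simp only [mul_assoc]
      _ = a * c * (b * d) := by rw [← hc c hc' b hb]; simp only [mul_assoc]
      _ = c * a * (d * b) := by rw [elab_commute hA ha hc', elab_commute hB hb hd]
      _ = c * (a * d) * b := by simp only [mul_assoc]
      _ = c * d * (a * b) := by rw [hc a ha d hd]; simp only [mul_assoc]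
  · intro z hz
    obtain ⟨a, ha, b, hb, rfl⟩ := hmem z hz
    rw [Commute.mul_pow (hc a ha b hb), hA.2 a ha, hB.2 b hb, one_mul]

theorem elab_isPGroup {A : Subgroup G} (hA : IsElementaryAbelian p A) : IsPGroup p A :=
  fun a => ⟨1, Subtype.ext (by rw [pow_one]; exact hA.2 a.1 a.2)⟩

theorem elab_zpowers {x : G} (hx : x ^ p = 1) : IsElementaryAbelian p (zpowers x) := by
  refine ⟨inferInstance, ?_⟩
  rintro _ ⟨k, rfl⟩
  change (x ^ k) ^ p = 1
  rw [← zpow_natCast, ← zpow_mul, mul_comm, zpow_mul, zpow_natCast, hx, one_zpow]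

/-! ### Elementary abelian subgroups of largest order inside a given subgroup -/

/-- The elementary abelian subgroups of `G` contained in `U` of largest order among those. -/
def maxIn (p : ℕ) (U : Subgroup G) : Set (Subgroup G) :=
  {A | A ≤ U ∧ IsElementaryAbelian p A ∧
    ∀ B : Subgroup G, B ≤ U → IsElementaryAbelian p B → Nat.card B ≤ Nat.card A}

theorem maxIn_top : maxIn p (⊤ : Subgroup G) = maxElementaryAbelianSubgroups p G := by
  ext A
  exact ⟨fun h => ⟨h.2.1, fun B hB => h.2.2 B le_top hB⟩,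
    fun h => ⟨le_top, h.1, fun B _ hB => h.2 B hB⟩⟩

theorem map_maxElementaryAbelianSubgroups (U : Subgroup G) :
    Subgroup.map U.subtype '' maxElementaryAbelianSubgroups p U = maxIn p U := by
  have hcard : ∀ A : Subgroup U, Nat.card (A.map U.subtype) = Nat.card A := fun A =>
    card_map_of_injective U.subtype_injective
  ext A
  constructor
  · rintro ⟨A₀, hA₀, rfl⟩
    refine ⟨map_subtype_le A₀, elab_map _ hA₀.1, fun B hBU hB => ?_⟩
    rw [hcard, ← Nat.card_congr (subgroupOfEquivOfLe hBU).toEquiv]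
    exact hA₀.2 _ (elab_subgroupOf hB U)
  · rintro ⟨hAU, hA, hmax⟩
    refine ⟨A.subgroupOf U, ⟨elab_subgroupOf hA U, fun B hB => ?_⟩, ?_⟩
    · rw [Nat.card_congr (subgroupOfEquivOfLe hAU).toEquiv, ← hcard]
      exact hmax _ (map_subtype_le B) (elab_map _ hB)
    · rw [subgroupOf_map_subtype, inf_eq_left.mpr hAU]

theorem thompsonSubgroupOf_eq (U : Subgroup G) : thompsonSubgroupOf p U = sSup (maxIn p U) := by
  rw [← map_maxElementaryAbelianSubgroups, sSup_image, thompsonSubgroupOf, thompsonSubgroup,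
    sSup_eq_iSup, Subgroup.map_iSup]
  simp only [Subgroup.map_iSup]

theorem thompsonSubgroupOf_top :
    thompsonSubgroupOf p (⊤ : Subgroup G) = thompsonSubgroup p G := by
  rw [thompsonSubgroupOf_eq, maxIn_top]; rfl

theorem thompsonSubgroupOf_le (U : Subgroup G) : thompsonSubgroupOf p U ≤ U :=
  map_subtype_le _

theorem exists_maxIn [Finite G] (U : Subgroup G) : ∃ A, A ∈ maxIn p U := by
  obtain ⟨A, ⟨hAU, hA⟩, hmax⟩ := Set.Finite.exists_maximalFor
    (fun A : Subgroup G => Nat.card A) {A : Subgroup G | A ≤ U ∧ IsElementaryAbelian p A}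
    (Set.toFinite _) ⟨⊥, bot_le, elab_bot⟩
  exact ⟨A, hAU, hA, fun B hBU hB => le_of_not_gt fun h => absurd (hmax ⟨hBU, hB⟩ h.le) (not_le.mpr h)⟩

theorem exists_maxE [Finite G] : ∃ A, A ∈ maxElementaryAbelianSubgroups p G := by
  simpa [← maxIn_top] using exists_maxIn (p := p) (⊤ : Subgroup G)

theorem le_thompsonSubgroup {A : Subgroup G} (hA : A ∈ maxElementaryAbelianSubgroups p G) :
    A ≤ thompsonSubgroup p G :=
  le_sSup hA

/-- An element of exponent `p` centralising a maximal elementary abelian subgroup lies in it. -/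
theorem mem_of_commute_maxE [Finite G] {A : Subgroup G}
    (hA : A ∈ maxElementaryAbelianSubgroups p G) {x : G} (hx : x ^ p = 1)
    (hc : ∀ a ∈ A, a * x = x * a) : x ∈ A := by
  have hle : zpowers x ≤ centralizer (A : Set G) :=
    zpowers_le.mpr (mem_centralizer_iff.mpr hc)
  have hsup := elab_sup (elab_zpowers hx) hA.1 hle
  have := CfsgLib.Solvable.eq_of_le_of_card_le (le_sup_right (a := zpowers x)) (hA.2 _ hsup)
  rw [this]
  exact le_sup_left (b := A) (mem_zpowers x)

/-- If a largest elementary abelian subgroup of `G` lies in `U` then those of `U` are exactly those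
of `G` lying in `U`. -/
theorem maxIn_eq_of_mem {U A : Subgroup G} (hA : A ∈ maxElementaryAbelianSubgroups p G)
    (hAU : A ≤ U) : maxIn p U = {B | B ∈ maxElementaryAbelianSubgroups p G ∧ B ≤ U} := by
  ext B
  refine ⟨fun h => ⟨⟨h.2.1, fun D hD => ?_⟩, h.1⟩, fun h => ⟨h.2, h.1.1, fun D _ hD => h.1.2 D hD⟩⟩
  exact (hA.2 D hD).trans (h.2.2 A hAU hA.1)

theorem thompsonSubgroupOf_eq_of_le [Finite G] {U : Subgroup G} (hU : thompsonSubgroup p G ≤ U) :
    thompsonSubgroupOf p U = thompsonSubgroup p G := by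
  obtain ⟨A, hA⟩ := exists_maxE (G := G) (p := p)
  rw [thompsonSubgroupOf_eq, maxIn_eq_of_mem hA ((le_thompsonSubgroup hA).trans hU)]
  refine le_antisymm (sSup_le fun B hB => le_sSup hB.1) (sSup_le fun B hB => ?_)
  exact le_sSup ⟨hB, (le_thompsonSubgroup hB).trans hU⟩

/-- If a largest elementary abelian subgroup of `U ≥ S` lies in `S`, then `J(S) ≤ J(U)`. -/
theorem thompsonSubgroupOf_mono {S U A : Subgroup G} (hSU : S ≤ U) (hA : A ∈ maxIn p U)
    (hAS : A ≤ S) : thompsonSubgroupOf p S ≤ thompsonSubgroupOf p U := by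
  rw [thompsonSubgroupOf_eq, thompsonSubgroupOf_eq]
  exact sSup_le_sSup fun B hB => ⟨hB.1.trans hSU, hB.2.1,
    fun D hD hD' => (hA.2.2 D hD hD').trans (hB.2.2 A hAS hA.2.1)⟩

/-! ### Behaviour under isomorphisms -/

theorem maxE_map {H : Type u} [Group H] (e : G ≃* H) {A : Subgroup G}
    (hA : A ∈ maxElementaryAbelianSubgroups p G) :
    A.map e.toMonoidHom ∈ maxElementaryAbelianSubgroups p H := by
  refine ⟨elab_map _ hA.1, fun B hB => ?_⟩
  rw [card_map_of_injective e.injective,
    ← card_map_of_injective (K := B) (f := e.symm.toMonoidHom) e.symm.injective]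
  exact hA.2 _ (elab_map _ hB)

theorem map_thompsonSubgroup {H : Type u} [Group H] (e : G ≃* H) :
    (thompsonSubgroup p G).map e.toMonoidHom = thompsonSubgroup p H := by
  refine le_antisymm ?_ ?_
  · rw [Subgroup.map_le_iff_le_comap]
    refine sSup_le fun A hA => ?_
    rw [← Subgroup.map_le_iff_le_comap]
    exact le_sSup (maxE_map e hA)
  · refine sSup_le fun B hB => ?_
    have := Subgroup.map_mono (f := e.toMonoidHom) (le_thompsonSubgroup (maxE_map e.symm hB))
    rw [map_map] at this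
    convert this using 1
    rw [show e.toMonoidHom.comp e.symm.toMonoidHom = MonoidHom.id H from
      MonoidHom.ext e.apply_symm_apply, map_id]

instance thompsonSubgroup_characteristic : (thompsonSubgroup p G).Characteristic :=
  characteristic_iff_map_eq.mpr fun e => map_thompsonSubgroup e

theorem maxIn_map (e : MulAut G) {U A : Subgroup G} (hA : A ∈ maxIn p U) :
    A.map e.toMonoidHom ∈ maxIn p (U.map e.toMonoidHom) := by
  refine ⟨map_mono hA.1, elab_map _ hA.2.1, fun B hB hB' => ?_⟩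
  rw [card_map_of_injective e.injective,
    ← card_map_of_injective (K := B) (f := e.symm.toMonoidHom) e.symm.injective]
  refine hA.2.2 _ ?_ (elab_map _ hB')
  rw [map_le_iff_le_comap]
  intro b hb
  obtain ⟨x, hx, rfl⟩ := hB hb
  simpa using hx

theorem map_thompsonSubgroupOf_le (e : MulAut G) (U : Subgroup G) :
    (thompsonSubgroupOf p U).map e.toMonoidHom ≤ thompsonSubgroupOf p (U.map e.toMonoidHom) := by
  rw [thompsonSubgroupOf_eq, thompsonSubgroupOf_eq, map_le_iff_le_comap]
  exact sSup_le fun A hA => map_le_iff_le_comap.mp (le_sSup (maxIn_map e hA))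

theorem map_thompsonSubgroupOf (e : MulAut G) (U : Subgroup G) :
    (thompsonSubgroupOf p U).map e.toMonoidHom = thompsonSubgroupOf p (U.map e.toMonoidHom) := by
  refine le_antisymm (map_thompsonSubgroupOf_le e U) ?_
  have h := map_thompsonSubgroupOf_le (p := p) e.symm (U.map e.toMonoidHom)
  have hid : e.symm.toMonoidHom.comp e.toMonoidHom = MonoidHom.id G :=
    MonoidHom.ext e.symm_apply_apply
  rw [map_map, hid, map_id] at h
  intro x hx
  refine ⟨e.symm x, h (mem_map_of_mem _ hx), ?_⟩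
  simp

/-- The normalizer of a subgroup normalizes its Thompson subgroup. -/
theorem normalizer_le_normalizer_thompsonSubgroupOf (U : Subgroup G) :
    normalizer (U : Set G) ≤ normalizer (thompsonSubgroupOf p U : Set G) := by
  intro g hg
  have h1 : U.map (MulAut.conj g).toMonoidHom = U := by
    ext x
    constructor
    · rintro ⟨y, hy, rfl⟩
      exact (mem_normalizer_iff.mp hg y).mp hy
    · intro hx
      refine ⟨g⁻¹ * x * g, (mem_normalizer_iff.mp hg _).mpr (by simpa [mul_assoc] using hx), ?_⟩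
      simp [mul_assoc]
  have h2 := map_thompsonSubgroupOf (p := p) (MulAut.conj g) U
  rw [h1] at h2
  refine mem_normalizer_iff.mpr fun x => ⟨fun hx => ?_, fun hx => ?_⟩
  · exact h2 ▸ ⟨x, hx, rfl⟩
  · rw [← h2] at hx
    obtain ⟨y, hy, hyx⟩ := hx
    have : y = x := by simpa using hyx
    exact this ▸ hy

/-! ### Sylow subgroups -/

theorem thompsonSubgroup_eq_iSup_sylow [Finite G] [Fact p.Prime] :
    thompsonSubgroup p G = ⨆ S : Sylow p G, thompsonSubgroupOf p (S : Subgroup G) := by
  refine le_antisymm (sSup_le fun A hA => ?_) (iSup_le fun S => ?_)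
  · obtain ⟨S, hS⟩ := (elab_isPGroup hA.1).exists_le_sylow
    refine le_iSup_of_le S ?_
    rw [thompsonSubgroupOf_eq, maxIn_eq_of_mem hA hS]
    exact le_sSup ⟨hA, hS⟩
  · obtain ⟨A, hA⟩ := exists_maxE (G := G) (p := p)
    obtain ⟨T, hT⟩ := (elab_isPGroup hA.1).exists_le_sylow
    obtain ⟨g, hg⟩ := MulAction.exists_smul_eq G T S
    rw [← thompsonSubgroupOf_top]
    refine thompsonSubgroupOf_mono le_top ((maxIn_top (G := G) (p := p)).symm ▸ maxE_map (MulAut.conj g) hA) ?_
    rw [← hg, Sylow.coe_subgroup_smul]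
    exact map_mono hT

theorem thompsonSubgroup_ne_bot [Finite G] [Fact p.Prime] (h : p ∣ Nat.card G) :
    thompsonSubgroup p G ≠ ⊥ := by
  intro hbot
  obtain ⟨A, hA⟩ := exists_maxE (G := G) (p := p)
  have hA1 : A = ⊥ := le_bot_iff.mp (hbot ▸ le_thompsonSubgroup hA)
  obtain ⟨x, hx⟩ := exists_prime_orderOf_dvd_card' (G := G) p h
  have := hA.2 _ (elab_zpowers (hx ▸ pow_orderOf_eq_one x))
  rw [Nat.card_zpowers, hx, hA1, card_bot] at this
  have := (Fact.out : p.Prime).two_le
  omega

theorem mem_maxE_of_centralizes_thompsonSubgroup [Finite G] {x : G} (hx : x ^ p = 1)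
    (hc : x ∈ centralizer (thompsonSubgroup p G : Set G)) {A : Subgroup G}
    (hA : A ∈ maxElementaryAbelianSubgroups p G) : x ∈ A :=
  mem_of_commute_maxE hA hx fun a ha => mem_centralizer_iff.mp hc a (le_thompsonSubgroup hA ha)

theorem mem_thompsonSubgroup_of_centralizes [Finite G] {x : G} (hx : x ^ p = 1)
    (hc : x ∈ centralizer (thompsonSubgroup p G : Set G)) : x ∈ thompsonSubgroup p G := by
  obtain ⟨A, hA⟩ := exists_maxE (G := G) (p := p)
  exact le_thompsonSubgroup hA (mem_maxE_of_centralizes_thompsonSubgroup hx hc hA)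

/-! ### Omega one -/

theorem omegaOne_le (H : Subgroup G) : omegaOne p H ≤ H :=
  (closure_le _).mpr fun _ hx => hx.1

theorem mem_omegaOne {H : Subgroup G} {x : G} (hx : x ∈ H) (h : x ^ p = 1) : x ∈ omegaOne p H :=
  subset_closure ⟨hx, h⟩

theorem omegaOne_mono {H K : Subgroup G} (h : H ≤ K) : omegaOne p H ≤ omegaOne p K :=
  closure_mono fun _ hx => ⟨h hx.1, hx.2⟩

theorem map_omegaOne {H : Type*} [Group H] (f : G →* H) (hf : Function.Injective f)
    (K : Subgroup G) : (omegaOne p K).map f = omegaOne p (K.map f) := by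
  rw [omegaOne, omegaOne, MonoidHom.map_closure]
  congr 1
  ext y
  constructor
  · rintro ⟨x, ⟨hx, hxp⟩, rfl⟩
    exact ⟨mem_map_of_mem f hx, by rw [← map_pow, hxp, map_one]⟩
  · rintro ⟨⟨x, hx, rfl⟩, hxp⟩
    exact ⟨x, ⟨hx, hf (by rw [map_pow, hxp, map_one])⟩, rfl⟩

theorem mem_centralizer_closure {s : Set G} {x : G} (h : x ∈ centralizer s) :
    x ∈ centralizer (closure s : Set G) := by
  rwa [centralizer_closure]

/-- Omega one of a commutative subgroup is elementary abelian. -/
theorem elab_omegaOne {H : Subgroup G} (hH : ∀ x ∈ H, ∀ y ∈ H, x * y = y * x) :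
    IsElementaryAbelian p (omegaOne p H) := by
  refine ⟨⟨⟨fun x y => Subtype.ext (hH _ (omegaOne_le H x.2) _ (omegaOne_le H y.2))⟩⟩, fun a ha => ?_⟩
  induction ha using closure_induction with
  | mem a ha => exact ha.2
  | one => exact one_pow p
  | mul a b ha hb iha ihb =>
    rw [Commute.mul_pow (hH a (omegaOne_le H ha) b (omegaOne_le H hb)), iha, ihb, one_mul]
  | inv a _ iha => rw [inv_pow, iha, inv_one]

theorem sInf_maxE_eq [Finite G] :
    sInf (maxElementaryAbelianSubgroups p G) = omegaCenterThompson p G ∧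
    omegaCenterThompson p G = omegaOne p (centralizer (thompsonSubgroup p G : Set G)) := by
  obtain ⟨A₀, hA₀⟩ := exists_maxE (G := G) (p := p)
  have h1 : omegaCenterThompson p G ≤ omegaOne p (centralizer (thompsonSubgroup p G : Set G)) :=
    omegaOne_mono inf_le_right
  have h2 : omegaOne p (centralizer (thompsonSubgroup p G : Set G)) ≤
      sInf (maxElementaryAbelianSubgroups p G) :=
    le_sInf fun A hA => (closure_le _).mpr fun x hx =>
      mem_maxE_of_centralizes_thompsonSubgroup hx.2 hx.1 hA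
  have h3 : sInf (maxElementaryAbelianSubgroups p G) ≤ omegaCenterThompson p G := by
    intro x hx
    rw [mem_sInf] at hx
    refine mem_omegaOne ⟨le_thompsonSubgroup hA₀ (hx A₀ hA₀), ?_⟩ (hA₀.1.2 x (hx A₀ hA₀))
    have : thompsonSubgroup p G ≤ centralizer {x} :=
      sSup_le fun A hA a ha => mem_centralizer_singleton_iff.mpr (elab_commute hA.1 ha (hx A hA))
    exact mem_centralizer_iff.mpr fun j hj => mem_centralizer_singleton_iff.mp (this hj)
  exact ⟨le_antisymm h3 (h1.trans h2), le_antisymm h1 (h2.trans h3)⟩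

end CfsgLib.Thompson
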