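/-
Quadratic action, best offenders and Timmesfeld replacement.
-/
import Mathlib.GroupTheory.SemidirectProduct
import Mathlib.GroupTheory.Nilpotent
import Cfsg.Agent.PLocal.Thompson

set_option autoImplicit false

namespace CfsgLib.Offender

open Subgroup Cfsg CfsgLib.Thompson
open scoped commutatorElement

variable {G : Type*} [Group G] {p : ℕ}

/-! ### Elements acting quadratically on an abelian subgroup -/

theorem conj_mem_of_mem_normalizer {V : Subgroup G} {h v : G} (hh : h ∈ normalizer (V : Set G))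
    (hv : v ∈ V) : h * v * h⁻¹ ∈ V :=
  (mem_normalizer_iff.mp hh v).mp hv

theorem commutator_mem_of_normalizer {V : Subgroup G} {h v : G} (hh : h ∈ normalizer (V : Set G))
    (hv : v ∈ V) : ⁅v, h⁆ ∈ V := by
  rw [commutatorElement_def, show v * h * v⁻¹ * h⁻¹ = v * (h * v⁻¹ * h⁻¹) by group]
  exact V.mul_mem hv (conj_mem_of_mem_normalizer hh (V.inv_mem hv))

theorem commutator_le_of_normalizer {V A : Subgroup G} (hAV : A ≤ normalizer (V : Set G)) :
    ⁅V, A⁆ ≤ V :=
  commutator_le.mpr fun _ hv _ ha => commutator_mem_of_normalizer (hAV ha) hv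

theorem quadratic_fixed {V H : Subgroup G} (hq : ⁅⁅V, H⁆, H⁆ = ⊥) {v h k : G} (hv : v ∈ V)
    (hh : h ∈ H) (hk : k ∈ H) : ⁅v, h⁆ * k = k * ⁅v, h⁆ :=
  mem_centralizer_iff.mp
    (commutator_eq_bot_iff_le_centralizer.mp hq (commutator_mem_commutator hv hh)) k hk |>.symm

theorem quadratic_conj {V H : Subgroup G} (hq : ⁅⁅V, H⁆, H⁆ = ⊥) {v h k : G} (hv : v ∈ V)
    (hh : h ∈ H) (hk : k ∈ H) :
    (k * h) * v * (k * h)⁻¹ = ⁅v, h⁆⁻¹ * ⁅v, k⁆⁻¹ * v := by
  have e := quadratic_fixed hq hv hh hk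
  calc (k * h) * v * (k * h)⁻¹ = k * (⁅v, h⁆⁻¹ * v) * k⁻¹ := by rw [commutatorElement_def]; group
    _ = (k * ⁅v, h⁆⁻¹ * k⁻¹) * (k * v * k⁻¹) := by group
    _ = ⁅v, h⁆⁻¹ * (k * v * k⁻¹) := by
      rw [show k * ⁅v, h⁆⁻¹ * k⁻¹ = (k * ⁅v, h⁆ * k⁻¹)⁻¹ by group, ← e, mul_inv_cancel_right]
    _ = ⁅v, h⁆⁻¹ * ⁅v, k⁆⁻¹ * v := by rw [commutatorElement_def, commutatorElement_def]; group

/-- A quadratically acting group induces an abelian group on an abelian subgroup. -/
theorem quadratic_commutator_le {V H : Subgroup G} (hV : IsElementaryAbelian p V)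
    (hHV : H ≤ normalizer (V : Set G)) (hq : ⁅⁅V, H⁆, H⁆ = ⊥) :
    ⁅H, H⁆ ≤ centralizer (V : Set G) := by
  refine commutator_le.mpr fun a ha b hb => mem_centralizer_iff.mpr fun v hv => ?_
  have e : (a * b) * v * (a * b)⁻¹ = (b * a) * v * (b * a)⁻¹ := by
    rw [quadratic_conj hq hv hb ha, quadratic_conj hq hv ha hb,
      elab_commute hV (V.inv_mem (commutator_mem_of_normalizer (hHV hb) hv))
        (V.inv_mem (commutator_mem_of_normalizer (hHV ha) hv))]
  set w := a⁻¹ * b⁻¹ * v * b * a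
  calc v * ⁅a, b⁆ = ⁅a, b⁆ * ((b * a) * ((a * b)⁻¹ * v * (a * b)) * (b * a)⁻¹) := by
        rw [commutatorElement_def]; group
    _ = ⁅a, b⁆ * v := by
        have hvm : (a * b)⁻¹ * v * (a * b) ∈ V := by
          have := conj_mem_of_mem_normalizer (hHV (H.inv_mem (H.mul_mem ha hb))) hv
          rwa [inv_inv] at this
        have e' : (a * b) * ((a * b)⁻¹ * v * (a * b)) * (a * b)⁻¹ =
            (b * a) * ((a * b)⁻¹ * v * (a * b)) * (b * a)⁻¹ := by
          have hh := quadratic_conj hq hvm hb ha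
          rw [quadratic_conj hq hvm ha hb, hh,
            elab_commute hV (V.inv_mem (commutator_mem_of_normalizer (hHV hb) hvm))
              (V.inv_mem (commutator_mem_of_normalizer (hHV ha) hvm))]
        rw [← e']
        group

theorem quadratic_pow_conj {V H : Subgroup G} (hq : ⁅⁅V, H⁆, H⁆ = ⊥) {v a : G} (hv : v ∈ V)
    (ha : a ∈ H) (n : ℕ) : a ^ n * v * (a ^ n)⁻¹ = (⁅v, a⁆⁻¹) ^ n * v := by
  induction n with
  | zero => simp
  | succ n ih =>
    have hc : Commute a (⁅v, a⁆⁻¹) := (Commute.symm (quadratic_fixed hq hv ha ha)).inv_right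
    calc a ^ (n + 1) * v * (a ^ (n + 1))⁻¹ = a * (a ^ n * v * (a ^ n)⁻¹) * a⁻¹ := by
          rw [pow_succ']; group
      _ = a * ((⁅v, a⁆⁻¹) ^ n * v) * a⁻¹ := by rw [ih]
      _ = (⁅v, a⁆⁻¹) ^ n * (a * v * a⁻¹) := by
          rw [← mul_assoc, (hc.pow_right n).eq]; group
      _ = (⁅v, a⁆⁻¹) ^ n * (⁅v, a⁆⁻¹ * v) := by congr 1; rw [commutatorElement_def]; group
      _ = _ := by rw [pow_succ, mul_assoc]

theorem quadratic_pow_mem {V H : Subgroup G} (hV : IsElementaryAbelian p V)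
    (hHV : H ≤ normalizer (V : Set G)) (hq : ⁅⁅V, H⁆, H⁆ = ⊥) {a : G} (ha : a ∈ H) :
    a ^ p ∈ centralizer (V : Set G) := by
  refine mem_centralizer_iff.mpr fun v hv => ?_
  have := quadratic_pow_conj hq hv ha p
  rw [hV.2 _ (V.inv_mem (commutator_mem_of_normalizer (hHV ha) hv)), one_mul,
    mul_inv_eq_iff_eq_mul] at this
  exact this.symm

theorem card_le_sq_of_quadratic [Finite G] {V : Subgroup G} (hV : IsElementaryAbelian p V)
    {a : G} (ha : a ∈ normalizer (V : Set G)) (hq : ⁅⁅V, zpowers a⁆, zpowers a⁆ = ⊥) :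
    Nat.card V ≤ Nat.card ↥(V ⊓ centralizer (zpowers a : Set G)) ^ 2 := by
  have hmul : ∀ v w : V, ⁅((v * w : V) : G), a⁆ = ⁅(v : G), a⁆ * ⁅(w : G), a⁆ := by
    intro v w
    have h2 := elab_commute hV v.2 (commutator_mem_of_normalizer ha w.2)
    calc ⁅((v * w : V) : G), a⁆
        = ((v : G) * ⁅(w : G), a⁆) * (a * (v : G)⁻¹ * a⁻¹) := by
          rw [commutatorElement_def, commutatorElement_def, Subgroup.coe_mul]; group
      _ = ⁅(w : G), a⁆ * ⁅(v : G), a⁆ := by
          rw [h2, commutatorElement_def, commutatorElement_def]; group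
      _ = _ := elab_commute hV (commutator_mem_of_normalizer ha w.2)
          (commutator_mem_of_normalizer ha v.2)
  let φ : V →* G := MonoidHom.mk' (fun v => ⁅(v : G), a⁆) hmul
  have hz : ∀ z : G, z * a = a * z → z ∈ centralizer (zpowers a : Set G) := fun z hz => by
    refine mem_centralizer_iff.mpr fun y hy => ?_
    have : zpowers a ≤ centralizer {z} :=
      zpowers_le.mpr (mem_centralizer_singleton_iff.mpr hz.symm)
    exact mem_centralizer_singleton_iff.mp (this hy)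
  have hrange : φ.range ≤ V ⊓ centralizer (zpowers a : Set G) := by
    rintro _ ⟨v, rfl⟩
    exact ⟨commutator_mem_of_normalizer ha v.2,
      hz _ (quadratic_fixed hq v.2 (mem_zpowers a) (mem_zpowers a))⟩
  have hker : φ.ker.map V.subtype ≤ V ⊓ centralizer (zpowers a : Set G) := by
    rintro _ ⟨v, hv, rfl⟩
    refine ⟨v.2, hz _ ?_⟩
    have : ⁅(v : G), a⁆ = 1 := hv
    exact commutatorElement_eq_one_iff_mul_comm.mp this
  have e : Nat.card V = Nat.card φ.ker * Nat.card φ.range := by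
    rw [← index_ker, card_mul_index]
  rw [e, sq]
  refine Nat.mul_le_mul ?_ (card_le_of_le hrange)
  rw [← card_map_of_injective V.subtype_injective]
  exact card_le_of_le hker

/-! ### Nilpotent action of a group inducing a p-group on a p-group -/

/-- If `A` induces a `p`-group on the `p`-group `W` and `W = [W, A]`, then `W` is trivial. -/
theorem eq_bot_of_le_commutator [Finite G] [hp : Fact p.Prime] {W A : Subgroup G}
    (hAW : A ≤ normalizer (W : Set G)) (hW : IsPGroup p W)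
    (hA : ∀ a ∈ A, a ^ p ∈ centralizer (W : Set G)) (h : W ≤ ⁅W, A⁆) : W = ⊥ := by
  let f : A →* MulAut W := W.normalizerMonoidHom.comp (inclusion hAW)
  let Q := f.range
  have hQ : IsPGroup p Q := by
    rintro ⟨_, a, rfl⟩
    refine ⟨1, Subtype.ext ?_⟩
    rw [pow_one]
    change (f a) ^ p = 1
    rw [← map_pow]
    refine MulEquiv.ext fun w => Subtype.ext ?_
    change ((a ^ p : A) : G) * (w : G) * ((a ^ p : A) : G)⁻¹ = w
    rw [Subgroup.coe_pow, ← mem_centralizer_iff.mp (hA a a.2) w w.2, mul_inv_cancel_right]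
  let P := SemidirectProduct W Q Q.subtype
  have : Finite P := Finite.of_equiv _ SemidirectProduct.equivProd.symm
  have hP : IsPGroup p P := by
    obtain ⟨m, hm⟩ := IsPGroup.iff_card.mp hW
    obtain ⟨n, hn⟩ := IsPGroup.iff_card.mp hQ
    refine IsPGroup.of_card (n := m + n) ?_
    rw [Nat.card_congr SemidirectProduct.equivProd, Nat.card_prod, hm, hn, pow_add]
  have : Group.IsNilpotent P := hP.isNilpotent
  obtain ⟨n, hn⟩ := Subgroup.nilpotent_iff_lowerCentralSeries.mp ‹Group.IsNilpotent P›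
  have key : ∀ m, (SemidirectProduct.inl : W →* P).range ≤ (⊤ : Subgroup P).lowerCentralSeries m := by
    intro m
    induction m with
    | zero => rw [Subgroup.lowerCentralSeries_zero]; exact le_top
    | succ m ih =>
      have hsub : ⁅W, A⁆ ≤ (((⊤ : Subgroup P).lowerCentralSeries (m + 1)).comap
          (SemidirectProduct.inl : W →* P)).map W.subtype := by
        refine commutator_le.mpr fun w hw a ha => ?_
        refine ⟨⟨⁅w, a⁆, commutator_mem_of_normalizer (hAW ha) hw⟩, ?_, rfl⟩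
        have e : ((⟨⁅w, a⁆, commutator_mem_of_normalizer (hAW ha) hw⟩ : W)) =
            ⟨w, hw⟩ * (f ⟨a, ha⟩) ⟨w, hw⟩⁻¹ := by
          apply Subtype.ext
          change ⁅w, a⁆ = w * (a * w⁻¹ * a⁻¹)
          rw [commutatorElement_def]; group
        have e2 : (SemidirectProduct.inl (⟨w, hw⟩ * (f ⟨a, ha⟩) ⟨w, hw⟩⁻¹) : P) =
            ⁅(SemidirectProduct.inl ⟨w, hw⟩ : P),
              (SemidirectProduct.inr ⟨f ⟨a, ha⟩, ⟨a, ha⟩, rfl⟩ : P)⁆ := by
          rw [map_mul, show (f ⟨a, ha⟩) ⟨w, hw⟩⁻¹ =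
              Q.subtype ⟨f ⟨a, ha⟩, ⟨a, ha⟩, rfl⟩ ⟨w, hw⟩⁻¹ from rfl,
            SemidirectProduct.inl_aut, commutatorElement_def, map_inv, map_inv]
          simp only [mul_assoc]
        rw [SetLike.mem_coe, mem_comap, e, e2, Subgroup.lowerCentralSeries_succ]
        exact commutator_mem_commutator (ih ⟨_, rfl⟩) (mem_top _)
      rintro _ ⟨w, rfl⟩
      obtain ⟨w', hw', he⟩ := hsub (h w.2)
      exact (Subtype.ext he : w' = w) ▸ hw'
  rw [eq_bot_iff]
  intro w hw
  have := key n ⟨⟨w, hw⟩, rfl⟩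
  rw [hn, mem_bot] at this
  exact mem_bot.mpr (congrArg Subtype.val
    (SemidirectProduct.inl_injective (this.trans (map_one _).symm)))

/-! ### Timmesfeld replacement -/

section Replacement

variable [Finite G]

omit [Finite G] in
theorem card_mul_relIndex {B A : Subgroup G} (h : B ≤ A) :
    Nat.card B * B.relIndex A = Nat.card A := by
  rw [← relIndex_bot_left, ← relIndex_bot_left]
  exact relIndex_mul_relIndex ⊥ B A bot_le h

/-- The Chermak–Delgado type measure used for offenders. -/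
noncomputable def measure (V B : Subgroup G) : ℕ :=
  Nat.card B * Nat.card ↥(V ⊓ centralizer (B : Set G))

/-- The set of commutators of the elements of `s` with those of `A`. -/
def commSet (s : Set G) (A : Subgroup G) : Set G :=
  {g | ∃ u ∈ s, ∃ a ∈ A, ⁅u, a⁆ = g}

omit [Finite G] in
theorem commSet_insert (u : G) (s : Set G) (A : Subgroup G) :
    commSet (insert u s) A = commSet {u} A ∪ commSet s A := by
  ext g
  simp only [commSet, Set.mem_insert_iff, Set.mem_ofPred_eq, Set.mem_union, Set.mem_singleton_iff]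
  constructor
  · rintro ⟨v, rfl | hv, a, ha, rfl⟩
    exacts [Or.inl ⟨v, rfl, a, ha, rfl⟩, Or.inr ⟨v, hv, a, ha, rfl⟩]
  · rintro (⟨v, rfl, a, ha, rfl⟩ | ⟨v, hv, a, ha, rfl⟩)
    exacts [⟨v, Or.inl rfl, a, ha, rfl⟩, ⟨v, Or.inr hv, a, ha, rfl⟩]

omit [Finite G] in
theorem closure_commSet (U A : Subgroup G) : closure (commSet (U : Set G) A) = ⁅U, A⁆ := rfl

variable {V A : Subgroup G} (hV : IsElementaryAbelian p V) (hAV : A ≤ normalizer (V : Set G))
  (hab : ⁅A, A⁆ ≤ centralizer (V : Set G))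
  (hmax : ∀ B : Subgroup G, B ≤ A → measure V B ≤ measure V A)

include hV hAV hab hmax

theorem replacement_singleton {u : G} (hu : u ∈ V) :
    measure V (A ⊓ centralizer (commSet {u} A)) = measure V A ∧
    V ⊓ centralizer ((A ⊓ centralizer (commSet {u} A) : Subgroup G) : Set G) =
      closure (commSet {u} A) ⊔ (V ⊓ centralizer (A : Set G)) := by
  set B := A ⊓ centralizer (commSet {u} A) with hB
  set C := V ⊓ centralizer (A : Set G) with hC
  set X := closure (commSet {u} A) ⊔ C with hX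
  have hXle : X ≤ V ⊓ centralizer (B : Set G) := by
    refine sup_le ((closure_le _).mpr ?_) (le_inf inf_le_left (inf_le_right.trans (centralizer_le (by
      intro x hx; exact hx.1))))
    rintro g ⟨v, rfl, a, ha, rfl⟩
    exact ⟨commutator_mem_of_normalizer (hAV ha) hu, mem_centralizer_iff.mpr fun b hb =>
      (mem_centralizer_iff.mp hb.2 _ ⟨v, rfl, a, ha, rfl⟩).symm⟩
  have hCX : C ≤ X := le_sup_right
  have hidx : B.relIndex A ≤ C.relIndex X := by
    let F : A ⧸ B.subgroupOf A → X ⧸ C.subgroupOf X := fun q =>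
      QuotientGroup.mk ⟨⁅u, (q.out : G)⁆,
        le_sup_left (b := C) (subset_closure ⟨u, rfl, _, q.out.2, rfl⟩)⟩
    refine Nat.card_le_card_of_injective F fun q₁ q₂ h => ?_
    rw [← q₁.out_eq', ← q₂.out_eq', QuotientGroup.eq, mem_subgroupOf]
    obtain ⟨⟨a, ha⟩, ea⟩ : ∃ a : A, a = q₁.out := ⟨_, rfl⟩
    obtain ⟨⟨b, hb⟩, eb⟩ : ∃ b : A, b = q₂.out := ⟨_, rfl⟩
    rw [← ea, ← eb]
    simp only [F, ← ea, ← eb, QuotientGroup.eq, mem_subgroupOf] at h
    change ⁅u, a⁆⁻¹ * ⁅u, b⁆ ∈ C at h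
    change a⁻¹ * b ∈ B
    set w := ⁅u, a⁆⁻¹ * ⁅u, b⁆ with hw
    set c := a⁻¹ * b with hc
    have hcA : c ∈ A := A.mul_mem (A.inv_mem ha) hb
    have hwc : ∀ x ∈ A, x * w = w * x := fun x hx => mem_centralizer_iff.mp h.2 x hx
    have huc : ⁅u, c⁆ = w := by
      have : a * ⁅u, c⁆ * a⁻¹ = w := by
        rw [hw, hc, commutatorElement_def, commutatorElement_def, commutatorElement_def]; group
      calc ⁅u, c⁆ = a⁻¹ * w * a := by rw [← this]; group
        _ = w := by rw [hwc a⁻¹ (A.inv_mem ha), inv_mul_cancel_right]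
    refine ⟨hcA, mem_centralizer_iff.mpr ?_⟩
    rintro g ⟨v, rfl, d, hd, rfl⟩
    -- `c` and `d` act commutingly on `V`
    have hcd : (c * d) * v⁻¹ * (c * d)⁻¹ = (d * c) * v⁻¹ * (d * c)⁻¹ := by
      have hm : (d * c) * v⁻¹ * (d * c)⁻¹ ∈ V :=
        conj_mem_of_mem_normalizer (hAV (A.mul_mem hd hcA)) (V.inv_mem hu)
      have := mem_centralizer_iff.mp (hab (commutator_mem_commutator hcA hd)) _ hm
      calc (c * d) * v⁻¹ * (c * d)⁻¹ = ⁅c, d⁆ * ((d * c) * v⁻¹ * (d * c)⁻¹) * ⁅c, d⁆⁻¹ := by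
            rw [commutatorElement_def]; group
        _ = _ := by rw [← this, mul_inv_cancel_right]
    have hcv : c * v⁻¹ * c⁻¹ = v⁻¹ * w := by rw [← huc, commutatorElement_def]; group
    have hcv' : c * v * c⁻¹ = w⁻¹ * v := by rw [← huc, commutatorElement_def]; group
    have key : c * ⁅v, d⁆ * c⁻¹ = ⁅v, d⁆ := by
      calc c * ⁅v, d⁆ * c⁻¹ = (c * v * c⁻¹) * ((c * d) * v⁻¹ * (c * d)⁻¹) := by
            rw [commutatorElement_def]; group
        _ = (w⁻¹ * v) * (d * (c * v⁻¹ * c⁻¹) * d⁻¹) := by rw [hcv', hcd]; group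
        _ = (w⁻¹ * v) * (d * v⁻¹ * (w * d⁻¹)) := by rw [hcv]; group
        _ = w⁻¹ * (⁅v, d⁆ * w) := by
            rw [← hwc d⁻¹ (A.inv_mem hd), commutatorElement_def]; group
        _ = ⁅v, d⁆ := by
            rw [elab_commute hV (commutator_mem_of_normalizer (hAV hd) hu) h.1, inv_mul_cancel_left]
    rw [mul_inv_eq_iff_eq_mul] at key
    exact key.symm
  have h1 : measure V A ≤ Nat.card B * Nat.card X := by
    rw [measure, ← card_mul_relIndex (inf_le_left : B ≤ A), ← card_mul_relIndex hCX, mul_assoc,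
      mul_comm (B.relIndex A)]
    exact Nat.mul_le_mul_left _ (Nat.mul_le_mul_left _ hidx)
  have h2 : Nat.card B * Nat.card X ≤ measure V B :=
    Nat.mul_le_mul_left _ (card_le_of_le hXle)
  have h3 := hmax B inf_le_left
  refine ⟨le_antisymm h3 (h1.trans h2), (CfsgLib.Solvable.eq_of_le_of_card_le hXle ?_).symm⟩
  exact Nat.le_of_mul_le_mul_left (h3.trans h1) Nat.card_pos

theorem replacement_inf {B₁ B₂ : Subgroup G} (h₁ : B₁ ≤ A) (h₂ : B₂ ≤ A)
    (h₂' : A ⊓ centralizer (V : Set G) ≤ B₂)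
    (e₁ : measure V B₁ = measure V A) (e₂ : measure V B₂ = measure V A) :
    measure V (B₁ ⊓ B₂) = measure V A ∧ V ⊓ centralizer ((B₁ ⊓ B₂ : Subgroup G) : Set G) =
      (V ⊓ centralizer (B₁ : Set G)) ⊔ (V ⊓ centralizer (B₂ : Set G)) := by
  have hn : B₁ ≤ normalizer (B₂ : Set G) := by
    intro x hx
    have hc : ∀ y ∈ A, ∀ z ∈ B₂, y * z * y⁻¹ ∈ B₂ := fun y hy z hz => by
      have : ⁅y, z⁆ ∈ B₂ := h₂' ⟨A.mul_mem (A.mul_mem (A.mul_mem hy (h₂ hz)) (A.inv_mem hy))
        (A.inv_mem (h₂ hz)), hab (commutator_mem_commutator hy (h₂ hz))⟩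
      simpa [commutatorElement_def] using B₂.mul_mem this hz
    refine mem_normalizer_iff.mpr fun z => ⟨hc x (h₁ hx) z, fun hz => ?_⟩
    simpa [mul_assoc] using hc x⁻¹ (A.inv_mem (h₁ hx)) _ hz
  set C₁ := V ⊓ centralizer (B₁ : Set G) with hC1
  set C₂ := V ⊓ centralizer (B₂ : Set G) with hC2
  set C := V ⊓ centralizer ((B₁ ⊔ B₂ : Subgroup G) : Set G) with hC
  set D := V ⊓ centralizer ((B₁ ⊓ B₂ : Subgroup G) : Set G) with hD
  have hCn : C₁ ≤ normalizer (C₂ : Set G) := fun x hx => by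
    refine mem_normalizer_iff.mpr fun z => ⟨fun hz => ?_, fun hz => ?_⟩
    · rwa [elab_commute hV hx.1 hz.1, mul_inv_cancel_right]
    · have hz' : z ∈ V := by
        simpa [mul_assoc] using V.mul_mem (V.mul_mem (V.inv_mem hx.1) hz.1) hx.1
      rwa [elab_commute hV hx.1 hz', mul_inv_cancel_right] at hz
  have hinf : C₁ ⊓ C₂ ≤ C := fun x hx =>
    ⟨hx.1.1, mem_centralizer_iff.mpr fun y hy => mem_centralizer_singleton_iff.mp
      ((sup_le (fun z hz => mem_centralizer_singleton_iff.mpr (mem_centralizer_iff.mp hx.1.2 z hz))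
        (fun z hz => mem_centralizer_singleton_iff.mpr (mem_centralizer_iff.mp hx.2.2 z hz)) :
          B₁ ⊔ B₂ ≤ centralizer {x}) hy)⟩
  have hsup : C₁ ⊔ C₂ ≤ D := sup_le
    (le_inf inf_le_left (inf_le_right.trans (centralizer_le fun x hx => hx.1)))
    (le_inf inf_le_left (inf_le_right.trans (centralizer_le fun x hx => hx.2)))
  have k1 := CfsgLib.Solvable.card_sup_mul_card_inf hn
  have k2 := CfsgLib.Solvable.card_sup_mul_card_inf hCn
  have hs := hmax _ (sup_le h₁ h₂)
  have hi := hmax (B₁ ⊓ B₂) (inf_le_left.trans h₁)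
  have key : measure V A * measure V A ≤
      measure V A * (Nat.card ↥(B₁ ⊓ B₂) * Nat.card ↥(C₁ ⊔ C₂)) := by
    calc measure V A * measure V A
        = (Nat.card B₁ * Nat.card B₂) * (Nat.card C₁ * Nat.card C₂) := by
          nth_rewrite 1 [← e₁]; rw [← e₂, measure, measure, ← hC1, ← hC2]; ring
      _ = (Nat.card ↥(B₁ ⊔ B₂) * Nat.card ↥(C₁ ⊓ C₂)) *
            (Nat.card ↥(B₁ ⊓ B₂) * Nat.card ↥(C₁ ⊔ C₂)) := by rw [← k1, ← k2]; ring
      _ ≤ _ := Nat.mul_le_mul_right _
          ((Nat.mul_le_mul_left _ (card_le_of_le hinf)).trans hs)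
  have hmA : 0 < measure V A := Nat.mul_pos Nat.card_pos Nat.card_pos
  have key' := Nat.le_of_mul_le_mul_left key hmA
  have hle : Nat.card ↥(B₁ ⊓ B₂) * Nat.card ↥(C₁ ⊔ C₂) ≤ measure V (B₁ ⊓ B₂) :=
    Nat.mul_le_mul_left _ (card_le_of_le hsup)
  refine ⟨le_antisymm hi (key'.trans hle), (CfsgLib.Solvable.eq_of_le_of_card_le hsup ?_).symm⟩
  exact Nat.le_of_mul_le_mul_left (hi.trans key') Nat.card_pos

/-- Timmesfeld replacement for a set of elements. -/
theorem replacement_finset (s : Finset G) (hs : (s : Set G) ⊆ V) :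
    measure V (A ⊓ centralizer (commSet (s : Set G) A)) = measure V A ∧
    V ⊓ centralizer ((A ⊓ centralizer (commSet (s : Set G) A) : Subgroup G) : Set G) =
      closure (commSet (s : Set G) A) ⊔ (V ⊓ centralizer (A : Set G)) := by
  classical
  induction s using Finset.induction_on with
  | empty =>
    have e : commSet ((∅ : Finset G) : Set G) A = ∅ := by
      ext g; simp [commSet]
    have e2 : centralizer (∅ : Set G) = (⊤ : Subgroup G) :=
      top_unique fun x _ => mem_centralizer_iff.mpr fun y hy => hy.elim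
    rw [e, e2, inf_top_eq, Subgroup.closure_empty, bot_sup_eq]
    exact ⟨rfl, rfl⟩
  | insert u s hus ih =>
    rw [Finset.coe_insert] at hs ⊢
    obtain ⟨i1, i2⟩ := ih fun x hx => hs (Set.mem_insert_of_mem u hx)
    obtain ⟨u1, u2⟩ := replacement_singleton hV hAV hab hmax (hs (Set.mem_insert u _))
    have e : A ⊓ centralizer (commSet (insert u (s : Set G)) A) =
        (A ⊓ centralizer (commSet {u} A)) ⊓ (A ⊓ centralizer (commSet (s : Set G) A)) := by
      ext x
      rw [commSet_insert]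
      simp only [mem_inf, mem_centralizer_iff, Set.mem_union]
      exact ⟨fun h => ⟨⟨h.1, fun y hy => h.2 y (Or.inl hy)⟩, h.1, fun y hy => h.2 y (Or.inr hy)⟩,
        fun h => ⟨h.1.1, fun y hy => hy.elim (h.1.2 y) (h.2.2 y)⟩⟩
    have hge : A ⊓ centralizer (V : Set G) ≤ A ⊓ centralizer (commSet (s : Set G) A) := by
      refine inf_le_inf_left _ (centralizer_le ?_)
      rintro g ⟨v, hv, a, ha, rfl⟩
      exact commutator_mem_of_normalizer (hAV ha) (hs (Set.mem_insert_of_mem u hv))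
    obtain ⟨r1, r2⟩ := replacement_inf hV hAV hab hmax inf_le_left inf_le_left hge u1 i1
    rw [e]
    refine ⟨r1, ?_⟩
    rw [r2, u2, i2, commSet_insert, Subgroup.closure_union, sup_sup_sup_comm, sup_idem]

/-- Timmesfeld replacement. -/
theorem replacement {U : Subgroup G} (hU : U ≤ V) :
    measure V (A ⊓ centralizer ((⁅U, A⁆ : Subgroup G) : Set G)) = measure V A ∧
    V ⊓ centralizer ((A ⊓ centralizer ((⁅U, A⁆ : Subgroup G) : Set G) : Subgroup G) : Set G) =
      ⁅U, A⁆ ⊔ (V ⊓ centralizer (A : Set G)) := by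
  classical
  have := replacement_finset hV hAV hab hmax (Set.toFinite (U : Set G)).toFinset
    (by rw [Set.Finite.coe_toFinset]; exact hU)
  rwa [Set.Finite.coe_toFinset, ← centralizer_closure, closure_commSet] at this

end Replacement

theorem bestOffender_replacement [Finite G] [Fact p.Prime] {V A : Subgroup G}
    (hV : IsElementaryAbelian p V) (hAV : A ≤ normalizer (V : Set G))
    (hA : IsBestOffenderOn p V A) {U : Subgroup G} (hU : U ≤ V) :
    IsBestOffenderOn p V (A ⊓ centralizer ((⁅U, A⁆ : Subgroup G) : Set G)) ∧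
    V ⊓ centralizer ((A ⊓ centralizer ((⁅U, A⁆ : Subgroup G) : Set G) : Subgroup G) : Set G) =
      ⁅U, A⁆ ⊔ (V ⊓ centralizer (A : Set G)) ∧
    (⁅V, A⁆ ≠ ⊥ → ⁅V, A ⊓ centralizer ((⁅U, A⁆ : Subgroup G) : Set G)⁆ ≠ ⊥) := by
  obtain ⟨h1, h2⟩ := replacement hV hAV hA.2.1 hA.1 hU
  refine ⟨⟨fun B hB => (hA.1 B (hB.trans inf_le_left)).trans h1.ge,
    (commutator_mono inf_le_left inf_le_left).trans hA.2.1, fun a ha => hA.2.2 a ha.1⟩, h2, ?_⟩
  intro hne hbot
  apply hne
  have hWV : ⁅V, A⁆ ≤ V := commutator_le_of_normalizer hAV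
  have hVC : V ≤ ⁅V, A⁆ ⊔ (V ⊓ centralizer (A : Set G)) := by
    refine le_trans (le_inf le_rfl (commutator_eq_bot_iff_le_centralizer.mp hbot)) ?_
    rw [h2]
    exact sup_le_sup_right (commutator_mono hU le_rfl) _
  have hAW : A ≤ normalizer ((⁅V, A⁆ : Subgroup G) : Set G) := by
    intro a ha
    refine mem_normalizer_iff.mpr fun x => ?_
    have hc : ∀ b ∈ A, ∀ y ∈ ⁅V, A⁆, b * y * b⁻¹ ∈ ⁅V, A⁆ := fun b hb y hy => by
      induction hy using closure_induction with
      | mem y hy =>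
        obtain ⟨v, hv, c, hc, rfl⟩ := hy
        rw [show b * ⁅v, c⁆ * b⁻¹ = ⁅b * v * b⁻¹, b * c * b⁻¹⁆ by
          rw [commutatorElement_def, commutatorElement_def]; group]
        exact commutator_mem_commutator (conj_mem_of_mem_normalizer (hAV hb) hv)
          (A.mul_mem (A.mul_mem hb hc) (A.inv_mem hb))
      | one => simp
      | mul y z _ _ ihy ihz =>
        rw [show b * (y * z) * b⁻¹ = (b * y * b⁻¹) * (b * z * b⁻¹) by group]
        exact mul_mem ihy ihz
      | inv y _ ihy =>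
        rw [show b * y⁻¹ * b⁻¹ = (b * y * b⁻¹)⁻¹ by group]
        exact inv_mem ihy
    exact ⟨hc a ha x, fun hx => by simpa [mul_assoc] using hc a⁻¹ (A.inv_mem ha) _ hx⟩
  refine eq_bot_of_le_commutator hAW (elab_isPGroup (elab_mono hV hWV))
    (fun a ha => centralizer_le hWV (hA.2.2 a ha)) (commutator_le.mpr fun v hv a ha => ?_)
  obtain ⟨w, hw, c, hc, rfl⟩ : ∃ w ∈ ⁅V, A⁆, ∃ c ∈ V ⊓ centralizer (A : Set G), w * c = v :=
    (CfsgLib.Solvable.mem_sup_of_le_normalizer (fun w hw => mem_normalizer_iff.mpr fun z => by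
      constructor
      · intro hz; rwa [elab_commute hV (hWV hw) hz.1, mul_inv_cancel_right]
      · intro hz
        have hz' : z ∈ V := by
          simpa [mul_assoc] using V.mul_mem (V.mul_mem (V.inv_mem (hWV hw)) hz.1) (hWV hw)
        rwa [elab_commute hV (hWV hw) hz', mul_inv_cancel_right] at hz)).mp (hVC hv)
  have hca : a * c = c * a := mem_centralizer_iff.mp hc.2 a ha
  have e : ⁅w * c, a⁆ = ⁅w, a⁆ := by
    rw [commutatorElement_def, commutatorElement_def, mul_inv_rev, mul_assoc w c a, ← hca]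
    group
  rw [e]
  exact commutator_mem_commutator hw ha

/-- Largest elementary abelian subgroups are best offenders. -/
theorem maxE_bestOffender [Finite G] {V A : Subgroup G} (hV : IsElementaryAbelian p V)
    (hA : A ∈ maxElementaryAbelianSubgroups p G) : IsBestOffenderOn p V A := by
  have hcomm := elab_le_centralizer hA.1
  refine ⟨fun B hB => ?_, (commutator_eq_bot_iff_le_centralizer.mpr hcomm).le.trans bot_le,
    fun a ha => by rw [hA.1.2 a ha]; exact one_mem _⟩
  have hBe := elab_mono hA.1 hB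
  set C := V ⊓ centralizer (B : Set G)
  have hBC : B ≤ centralizer (C : Set G) := fun b hb =>
    mem_centralizer_iff.mpr fun c hc => (mem_centralizer_iff.mp hc.2 b hb).symm
  have hn : B ≤ normalizer (C : Set G) := hBC.trans (centralizer_le_normalizer _)
  have h1 := hA.2 _ (elab_sup hBe (elab_mono hV inf_le_left) hBC)
  have h2 : B ⊓ C ≤ V ⊓ centralizer (A : Set G) := fun x hx => ⟨hx.2.1, hcomm (hB hx.1)⟩
  rw [← CfsgLib.Solvable.card_sup_mul_card_inf hn]
  exact Nat.mul_le_mul h1 (card_le_of_le h2)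

/-- Thompson replacement for largest elementary abelian subgroups. -/
theorem maxE_replacement [Finite G] [Fact p.Prime] {V A : Subgroup G}
    (hV : IsElementaryAbelian p V) (hAV : A ≤ normalizer (V : Set G))
    (hA : A ∈ maxElementaryAbelianSubgroups p G) :
    ⁅V, A⁆ ⊔ (A ⊓ centralizer ((⁅V, A⁆ : Subgroup G) : Set G)) ∈ maxElementaryAbelianSubgroups p G ∧
    ⁅⁅V, ⁅V, A⁆ ⊔ (A ⊓ centralizer ((⁅V, A⁆ : Subgroup G) : Set G))⁆,
      ⁅V, A⁆ ⊔ (A ⊓ centralizer ((⁅V, A⁆ : Subgroup G) : Set G))⁆ = ⊥ ∧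
    (⁅V, A⁆ ≠ ⊥ → ⁅V, ⁅V, A⁆ ⊔ (A ⊓ centralizer ((⁅V, A⁆ : Subgroup G) : Set G))⁆ ≠ ⊥) := by
  have hbo := maxE_bestOffender hV hA
  obtain ⟨e1, e2⟩ := replacement hV hAV hbo.2.1 hbo.1 (le_refl V)
  obtain ⟨-, -, hne⟩ := bestOffender_replacement hV hAV hbo (le_refl V)
  set W := ⁅V, A⁆ with hW
  set B := A ⊓ centralizer (W : Set G) with hB
  have hWV : W ≤ V := commutator_le_of_normalizer hAV
  have hWe := elab_mono hV hWV
  have hWB : W ≤ centralizer (B : Set G) :=
    fun w hw => mem_centralizer_iff.mpr fun b hb => (mem_centralizer_iff.mp hb.2 w hw).symm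
  have hS := elab_sup hWe (elab_mono hA.1 inf_le_left) hWB
  have hAC : A ⊓ V = V ⊓ centralizer (A : Set G) := le_antisymm
    (fun x hx => ⟨hx.2, elab_le_centralizer hA.1 hx.1⟩)
    fun x hx => ⟨mem_of_commute_maxE hA (hV.2 x hx.1) (fun a ha => mem_centralizer_iff.mp hx.2 a ha),
      hx.1⟩
  have hinf : W ⊓ (V ⊓ centralizer (A : Set G)) = W ⊓ B := le_antisymm
    (le_inf inf_le_left fun x hx =>
      ⟨(hAC.ge hx.2).1, elab_le_centralizer hWe hx.1⟩)
    fun x hx => ⟨hx.1, hWV hx.1, elab_le_centralizer hA.1 hx.2.1⟩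
  have hWC : W ≤ normalizer ((V ⊓ centralizer (A : Set G) : Subgroup G) : Set G) := fun w hw =>
    centralizer_le_normalizer _ (mem_centralizer_iff.mpr fun c hc => elab_commute hV hc.1 (hWV hw))
  refine ⟨⟨hS, fun D hD => (hA.2 D hD).trans ?_⟩, ?_, fun h hbot => hne h ?_⟩
  · have k1 := CfsgLib.Solvable.card_sup_mul_card_inf (hWB.trans (centralizer_le_normalizer _))
    have k2 := CfsgLib.Solvable.card_sup_mul_card_inf hWC
    rw [hinf] at k2
    rw [measure, measure, e2] at e1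
    have hi : 0 < Nat.card ↥(W ⊓ B) := Nat.card_pos
    have key : Nat.card A * Nat.card ↥(V ⊓ centralizer (A : Set G)) * Nat.card ↥(W ⊓ B) =
        Nat.card ↥(W ⊔ B) * Nat.card ↥(V ⊓ centralizer (A : Set G)) * Nat.card ↥(W ⊓ B) := by
      calc Nat.card A * Nat.card ↥(V ⊓ centralizer (A : Set G)) * Nat.card ↥(W ⊓ B)
          = Nat.card B * (Nat.card ↥(W ⊔ (V ⊓ centralizer (A : Set G))) * Nat.card ↥(W ⊓ B)) := by
            rw [← mul_assoc, e1]
        _ = Nat.card ↥(V ⊓ centralizer (A : Set G)) * (Nat.card ↥(W ⊔ B) * Nat.card ↥(W ⊓ B)) := by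
            rw [k2, k1]; ring
        _ = _ := by ring
    exact (Nat.eq_of_mul_eq_mul_right Nat.card_pos (Nat.eq_of_mul_eq_mul_right hi key)).le
  · rw [commutator_eq_bot_iff_le_centralizer]
    have hstar : W ⊔ B ≤ centralizer (W : Set G) := sup_le (elab_le_centralizer hWe) inf_le_right
    refine le_trans (commutator_le.mpr fun v hv x hx => ?_) (le_centralizer_iff.mp hstar)
    obtain ⟨w, hw, b, hb, rfl⟩ :=
      (CfsgLib.Solvable.mem_sup_of_le_normalizer (hWB.trans (centralizer_le_normalizer _))).mp hx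
    have hvb : ⁅v, b⁆ ∈ W := commutator_mem_commutator hv hb.1
    have e : ⁅v, w * b⁆ = w * ⁅v, b⁆ * w⁻¹ := by
      rw [commutatorElement_def, commutatorElement_def, ← mul_assoc,
        elab_commute hV hv (hWV hw)]
      group
    rw [e]
    exact W.mul_mem (W.mul_mem hw hvb) (W.inv_mem hw)
  · exact le_bot_iff.mp (hbot ▸ commutator_mono le_rfl (le_sup_right (a := W)))

end CfsgLib.Offender
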