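/-
Sylow subgroups of normal subgroups, fixed points of Sylow subgroups, Thompson factorization.
-/
import Mathlib.GroupTheory.Sylow
import Mathlib.GroupTheory.QuotientGroup.Basic
import Cfsg.Agent.PLocal.Thompson
import Cfsg.Agent.Solvable.Fitting

set_option autoImplicit false

namespace CfsgLib.PLocalCore

open Subgroup Cfsg CfsgLib.Thompson
open scoped Pointwise

variable {G : Type*} [Group G] {p : ℕ}

theorem relIndex_dvd_index_of_normal_right [Finite G] (S K : Subgroup G) [K.Normal] :
    S.relIndex K ∣ S.index := by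
  have h1 := CfsgLib.Solvable.card_sup_mul_card_inf (le_normalizer_of_normal (H := K) : S ≤ _)
  have h2 : Nat.card ↥(S ⊓ K) * S.relIndex K = Nat.card K := by
    rw [← inf_relIndex_right, ← relIndex_bot_left, ← relIndex_bot_left]
    exact relIndex_mul_relIndex ⊥ _ K bot_le inf_le_right
  have h3 : Nat.card S * S.relIndex (S ⊔ K) = Nat.card ↥(S ⊔ K) := by
    rw [← relIndex_bot_left, ← relIndex_bot_left]
    exact relIndex_mul_relIndex ⊥ S _ bot_le le_sup_left
  rw [← h3, ← h2] at h1
  have h4 : S.relIndex (S ⊔ K) = S.relIndex K :=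
    Nat.eq_of_mul_eq_mul_left (Nat.mul_pos Nat.card_pos Nat.card_pos : 0 < Nat.card S * Nat.card ↥(S ⊓ K)) (by linarith)
  exact Dvd.intro _ (h4 ▸ relIndex_mul_index (H := S) le_sup_left)

/-- If `K / C` is a `p`-group (both normal), then `K = C (S ∩ K)` for every Sylow subgroup `S`. -/
theorem le_sup_sylow_inf [Finite G] [Fact p.Prime] {C K : Subgroup G} [K.Normal] (hCK : C ≤ K)
    {k : ℕ} (h : C.relIndex K = p ^ k) (S : Sylow p G) : K ≤ C ⊔ ((S : Subgroup G) ⊓ K) := by
  have h1 : (C ⊔ ((S : Subgroup G) ⊓ K)).relIndex K ∣ p ^ k :=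
    h ▸ relIndex_dvd_of_le_left K le_sup_left
  have h2 : ¬ p ∣ (C ⊔ ((S : Subgroup G) ⊓ K)).relIndex K := by
    intro hd
    have e : ((S : Subgroup G) ⊓ K).relIndex K ∣ (S : Subgroup G).index := by
      rw [inf_relIndex_right]
      exact relIndex_dvd_index_of_normal_right _ K
    exact S.not_dvd_index' (Subgroup.index_ne_zero_of_finite) ((hd.trans (relIndex_dvd_of_le_left K le_sup_right)).trans e)
  obtain ⟨j, -, hj⟩ := (Nat.dvd_prime_pow Fact.out).mp h1
  rw [hj] at h2
  rcases Nat.eq_zero_or_pos j with rfl | hpos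
  · rw [pow_zero, relIndex_eq_one] at hj
    exact hj
  · exact absurd (dvd_pow_self p (by omega)) h2

/-- Centralizers of normal subgroups absorb normal `p`-extensions when the subgroup is generated
by fixed points of Sylow subgroups. -/
theorem le_centralizer_of_fixed [Finite G] [Fact p.Prime] {ι : Sort*} (Z : ι → Subgroup G)
    (σ : ι → Sylow p G) (hZ : ∀ i, ((σ i : Subgroup G)) ≤ centralizer (Z i : Set G))
    {D : Subgroup G} [D.Normal] (hD : centralizer ((⨆ i, Z i : Subgroup G) : Set G) ≤ D) {k : ℕ}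
    (h : (centralizer ((⨆ i, Z i : Subgroup G) : Set G)).relIndex D = p ^ k) :
    D ≤ centralizer ((⨆ i, Z i : Subgroup G) : Set G) := by
  have key : ∀ i, D ≤ centralizer (Z i : Set G) := fun i =>
    (le_sup_sylow_inf hD h (σ i)).trans
      (sup_le (centralizer_le (SetLike.coe_subset_coe.mpr (le_iSup Z i))) (inf_le_left.trans (hZ i)))
  exact le_centralizer_iff.mp (iSup_le fun i => le_centralizer_iff.mp (key i))

theorem pCore_quotient_eq_bot_of_fixed [Finite G] [Fact p.Prime] (V : Subgroup G) [V.Normal]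
    (hgen : V = ⨆ S : Sylow p G, V ⊓ centralizer ((S : Subgroup G) : Set G)) :
    pCore p (G ⧸ centralizer (V : Set G)) = ⊥ := by
  set C := centralizer (V : Set G)
  set D := (pCore p (G ⧸ C)).comap (QuotientGroup.mk' C) with hD
  have hCD : C ≤ D := fun x hx => by
    rw [hD, mem_comap, show QuotientGroup.mk' C x = 1 from (QuotientGroup.eq_one_iff x).mpr hx]
    exact one_mem _
  obtain ⟨k, hk⟩ : ∃ k, C.relIndex D = p ^ k := by
    obtain ⟨k, hk⟩ := IsPGroup.iff_card.mp (CfsgLib.Solvable.isPGroup_pCore (G := G ⧸ C) p)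
    refine ⟨k, ?_⟩
    rw [show C = (⊥ : Subgroup (G ⧸ C)).comap (QuotientGroup.mk' C) by
      rw [MonoidHom.comap_bot, QuotientGroup.ker_mk'], hD, relIndex_comap,
      map_comap_eq_self_of_surjective (QuotientGroup.mk'_surjective C), relIndex_bot_left, hk]
  have hle : D ≤ C := by
    have hgen' : centralizer ((⨆ S : Sylow p G, V ⊓ centralizer ((S : Subgroup G) : Set G) :
        Subgroup G) : Set G) = C := by rw [← hgen]
    have := le_centralizer_of_fixed
      (Z := fun S : Sylow p G => V ⊓ centralizer ((S : Subgroup G) : Set G)) (σ := id)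
      (fun S => le_centralizer_iff.mp inf_le_right) (D := D) (hgen'.le.trans hCD) (k := k)
      (by rw [hgen', hk])
    exact this.trans hgen'.le
  rw [eq_bot_iff]
  intro x hx
  obtain ⟨g, rfl⟩ := QuotientGroup.mk'_surjective C x
  exact mem_bot.mpr ((QuotientGroup.eq_one_iff g).mpr (hle hx))

/-! ### The subgroup generated by the omega one centres of the Sylow subgroups -/

/-- `Ω₁(Z(S))` inside `G`. -/
def zSylow (p : ℕ) (S : Subgroup G) : Subgroup G :=
  omegaOne p (S ⊓ centralizer (S : Set G))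

theorem le_centralizer_zSylow (S : Subgroup G) : S ≤ centralizer (zSylow p S : Set G) :=
  le_centralizer_iff.mp ((omegaOne_le _).trans inf_le_right)

theorem map_centralizer (e : MulAut G) (S : Subgroup G) :
    (centralizer (S : Set G)).map e.toMonoidHom =
      centralizer ((S.map e.toMonoidHom : Subgroup G) : Set G) := by
  ext x
  simp only [mem_map_equiv, mem_centralizer_iff]
  constructor
  · rintro h y hy
    obtain ⟨s, hs, rfl⟩ := hy
    have := congrArg e (h s hs)
    simpa using this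
  · intro h s hs
    have := congrArg e.symm (h (e s) (mem_map_of_mem _ hs))
    simpa using this

theorem map_zSylow (e : MulAut G) (S : Subgroup G) :
    (zSylow p S).map e.toMonoidHom = zSylow p (S.map e.toMonoidHom) := by
  rw [zSylow, zSylow, map_omegaOne _ e.injective, Subgroup.map_inf _ _ _ e.injective, map_centralizer]

/-- The join of the `Ω₁(Z(S))`. -/
def zGen (p : ℕ) (G : Type*) [Group G] : Subgroup G :=
  ⨆ S : Sylow p G, zSylow p (S : Subgroup G)

instance zGen_normal : (zGen p G).Normal := by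
  refine ⟨fun x hx g => ?_⟩
  have hle : (zGen p G).map (MulAut.conj g).toMonoidHom ≤ zGen p G := by
    rw [zGen, Subgroup.map_iSup]
    refine iSup_le fun S => ?_
    rw [map_zSylow]
    exact le_iSup_of_le (g • S) (by rw [Sylow.coe_subgroup_smul]; rfl)
  exact hle ⟨x, hx, by simp⟩

theorem zGen_elab_of_charP [Finite G] [Fact p.Prime]
    (hc : centralizer (pCore p G : Set G) ≤ pCore p G) : IsElementaryAbelian p (zGen p G) := by
  have hle : ∀ S : Sylow p G, zSylow p (S : Subgroup G) ≤
      omegaOne p (pCore p G ⊓ centralizer (pCore p G : Set G)) := by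
    intro S
    have h1 : (S : Subgroup G) ⊓ centralizer ((S : Subgroup G) : Set G) ≤
        centralizer (pCore p G : Set G) :=
      inf_le_right.trans (centralizer_le (SetLike.coe_subset_coe.mpr (CfsgLib.Fitting.pCore_le_sylow S)))
    exact omegaOne_mono (le_inf (h1.trans hc) h1)
  exact elab_mono (elab_omegaOne (H := pCore p G ⊓ centralizer (pCore p G : Set G))
    fun x hx y hy => (mem_centralizer_iff.mp hx.2 y hy.1).symm) (iSup_le hle)

/-! ### Thompson factorization -/

theorem isThompsonFactorizable_iff_le_centralizer [Finite G] [Fact p.Prime]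
    (hO : pPrimeCore p G = ⊥) :
    IsThompsonFactorizable p G ↔ thompsonSubgroup p G ≤ centralizer (zGen p G : Set G) := by
  constructor
  · intro h
    rw [thompsonSubgroup_eq_iSup_sylow]
    refine iSup_le fun S => le_centralizer_iff.mp (iSup_le fun S' => le_centralizer_iff.mp ?_)
    obtain ⟨g, hg⟩ := MulAction.exists_smul_eq G S S'
    obtain ⟨x, hx, c, hc, n, hn, hgn⟩ := h S g⁻¹
    rw [hO, mem_bot] at hx
    rw [hx, one_mul] at hgn
    rw [← hg, Sylow.coe_subgroup_smul]
    change thompsonSubgroupOf p (S : Subgroup G) ≤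
      centralizer ((zSylow p ((S : Subgroup G).map (MulAut.conj g).toMonoidHom) : Subgroup G) : Set G)
    rw [← map_zSylow]
    intro j hj
    refine mem_centralizer_iff.mpr ?_
    rintro _ ⟨z, hz, rfl⟩
    have hj' : n * j * n⁻¹ ∈ thompsonSubgroupOf p (S : Subgroup G) := (mem_normalizer_iff.mp hn j).mp hj
    have hcomm := mem_centralizer_iff.mp (le_centralizer_zSylow (p := p) (S : Subgroup G)
      (thompsonSubgroupOf_le _ hj')) z hz
    have e : g = n⁻¹ * c⁻¹ := by rw [← inv_inv g, hgn, mul_inv_rev]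
    have hcz : z * c = c * z := mem_centralizer_iff.mp hc z hz
    change g * z * g⁻¹ * j = j * (g * z * g⁻¹)
    calc g * z * g⁻¹ * j = n⁻¹ * (c⁻¹ * z * c) * n * j := by rw [e]; group
      _ = n⁻¹ * z * n * j := by rw [mul_assoc c⁻¹, hcz, inv_mul_cancel_left]
      _ = n⁻¹ * (z * (n * j * n⁻¹)) * n := by group
      _ = n⁻¹ * ((n * j * n⁻¹) * z) * n := by rw [hcomm]
      _ = j * (n⁻¹ * z * n) := by group
      _ = j * (g * z * g⁻¹) := by
        congr 1
        rw [e]
        calc n⁻¹ * z * n = n⁻¹ * (c⁻¹ * (c * z)) * n := by rw [inv_mul_cancel_left]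
          _ = n⁻¹ * (c⁻¹ * z * c) * n := by rw [← hcz, mul_assoc c⁻¹]
          _ = _ := by group
  · intro h S g
    set C := centralizer (zGen p G : Set G)
    have hCS : ∀ D : Subgroup G, D = (S : Subgroup G) ⊓ C →
        thompsonSubgroupOf p (S : Subgroup G) ≤ thompsonSubgroupOf p D := by
      intro D hD
      obtain ⟨A, hA⟩ := exists_maxIn (p := p) (S : Subgroup G)
      have hmem : ∀ B ∈ maxIn p (S : Subgroup G), B ≤ D := fun B hB => by
        rw [hD]
        exact le_inf hB.1 ((le_sSup hB : B ≤ sSup (maxIn p (S : Subgroup G))).trans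
          ((thompsonSubgroupOf_eq (S : Subgroup G)).ge.trans (le_trans (le_iSup (fun S : Sylow p G =>
            thompsonSubgroupOf p (S : Subgroup G)) S) (thompsonSubgroup_eq_iSup_sylow (G := G) (p := p) ▸ h))))
      rw [thompsonSubgroupOf_eq, thompsonSubgroupOf_eq]
      exact sSup_le_sSup fun B hB => ⟨hmem B hB, hB.2.1, fun E hE hE' =>
        hB.2.2 E (hE.trans (hD.le.trans inf_le_left)) hE'⟩
    have hJ : thompsonSubgroupOf p ((S : Subgroup G) ⊓ C) = thompsonSubgroupOf p (S : Subgroup G) := by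
      refine le_antisymm ?_ (hCS _ rfl)
      obtain ⟨A, hA⟩ := exists_maxIn (p := p) (S : Subgroup G)
      refine thompsonSubgroupOf_mono inf_le_left hA (le_inf hA.1 ?_)
      refine (le_sSup hA : A ≤ sSup (maxIn p (S : Subgroup G))).trans ((thompsonSubgroupOf_eq (S : Subgroup G)).ge.trans ?_)
      exact (le_iSup (fun S : Sylow p G => thompsonSubgroupOf p (S : Subgroup G)) S).trans
        (thompsonSubgroup_eq_iSup_sylow (G := G) (p := p) ▸ h)
    have hpg : IsPGroup p (((S : Subgroup G) ⊓ C).subgroupOf C) :=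
      (S.2.to_le inf_le_left).of_equiv (subgroupOfEquivOfLe inf_le_right).symm
    have hidx : ¬ p ∣ (((S : Subgroup G) ⊓ C).subgroupOf C).index := by
      change ¬ p ∣ ((S : Subgroup G) ⊓ C).relIndex C
      rw [inf_relIndex_right]
      exact fun hd => S.not_dvd_index' Subgroup.index_ne_zero_of_finite
        (hd.trans (relIndex_dvd_index_of_normal_right _ C))
    have hfr := Sylow.normalizer_sup_eq_top (hpg.toSylow hidx)
    rw [show (hpg.toSylow hidx : Subgroup C) = ((S : Subgroup G) ⊓ C).subgroupOf C from rfl,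
      subgroupOf_map_subtype, inf_eq_left.mpr inf_le_right] at hfr
    have hg : g⁻¹ ∈ Subgroup.normalizer (((S : Subgroup G) ⊓ C : Subgroup G) : Set G) ⊔ C := hfr ▸ mem_top _
    obtain ⟨n, hn, c, hc, hgn⟩ :=
      (CfsgLib.Solvable.mem_sup_of_le_normalizer (le_normalizer_of_normal (H := C))).mp hg
    refine ⟨1, one_mem _, c⁻¹, ?_, n⁻¹, ?_, by rw [one_mul, ← mul_inv_rev, hgn, inv_inv]⟩
    · exact inv_mem (centralizer_le (SetLike.coe_subset_coe.mpr
        (le_iSup (fun S : Sylow p G => zSylow p (S : Subgroup G)) S)) hc)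
    · exact inv_mem (hJ ▸ normalizer_le_normalizer_thompsonSubgroupOf _ hn)

/-- Frattini argument: lifting normalizers of `p`-subgroups through normal `p'`-subgroups. -/
theorem exists_normalizer_lift [Finite G] [Fact p.Prime] {P O : Subgroup G} [O.Normal]
    (hP : IsPGroup p P) (hO : (Nat.card O).Coprime p) {g : G}
    (hg : ∀ x ∈ P, g * x * g⁻¹ ∈ P ⊔ O) :
    ∃ o ∈ O, o * g ∈ Subgroup.normalizer (P : Set G) := by
  set H := P ⊔ O
  set Q := P.map (MulAut.conj g).toMonoidHom with hQ
  have hQH : Q ≤ H := by rintro _ ⟨x, hx, rfl⟩; exact hg x hx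
  obtain ⟨j, hj⟩ := IsPGroup.iff_card.mp hP
  have hPO : P ⊓ O = ⊥ := by
    rw [← Subgroup.card_eq_one]
    refine Nat.eq_one_of_dvd_coprimes (?_ : (p ^ j).Coprime (Nat.card O)) (hj ▸ card_dvd_of_le inf_le_left) (card_dvd_of_le inf_le_right)
    exact (Nat.Coprime.pow_left _ hO.symm)
  have hcard : Nat.card H = Nat.card P * Nat.card O :=
    CfsgLib.Solvable.card_sup_of_disjoint (le_normalizer_of_normal (H := O)) hPO
  have mk : ∀ R : Subgroup G, R ≤ H → Nat.card R = Nat.card P → ∃ T : Sylow p H, (T : Subgroup H) = R.subgroupOf H := by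
    intro R hR hRc
    have hpg : IsPGroup p (R.subgroupOf H) :=
      IsPGroup.of_card (n := j) (by rw [Nat.card_congr (subgroupOfEquivOfLe hR).toEquiv, hRc, hj])
    have hidx : ¬ p ∣ (R.subgroupOf H).index := by
      have := (R.subgroupOf H).card_mul_index
      rw [Nat.card_congr (subgroupOfEquivOfLe hR).toEquiv, hRc, hcard] at this
      rw [Nat.eq_of_mul_eq_mul_left Nat.card_pos this]
      exact fun hd => (Fact.out : p.Prime).one_lt.ne'
        (Nat.dvd_one.mp (hO ▸ Nat.dvd_gcd hd dvd_rfl : p ∣ 1))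
    exact ⟨hpg.toSylow hidx, rfl⟩
  obtain ⟨T1, hT1⟩ := mk P le_sup_left rfl
  obtain ⟨T2, hT2⟩ := mk Q hQH (card_map_of_injective (MulAut.conj g).injective)
  obtain ⟨⟨h, hh⟩, hconj⟩ := MulAction.exists_smul_eq H T2 T1
  obtain ⟨a, ha, o, ho, rfl⟩ := (CfsgLib.Solvable.mem_sup_of_le_normalizer (le_normalizer_of_normal (H := O))).mp hh
  refine ⟨o, ho, ?_⟩
  have hmap : ∀ x ∈ P, (o * g) * x * (o * g)⁻¹ ∈ P := by
    intro x hx
    have h1 : (⟨g * x * g⁻¹, hg x hx⟩ : H) ∈ (T2 : Subgroup H) := by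
      rw [hT2]; exact mem_map_of_mem _ hx
    have h2 : (⟨a * o, hh⟩ : H) * ⟨g * x * g⁻¹, hg x hx⟩ * (⟨a * o, hh⟩ : H)⁻¹ ∈ (T1 : Subgroup H) := by
      rw [← hconj, Sylow.coe_subgroup_smul]
      exact ⟨_, h1, rfl⟩
    rw [hT1, mem_subgroupOf] at h2
    have := P.mul_mem (P.mul_mem (P.inv_mem ha) h2) ha
    simpa [mul_assoc] using this
  refine mem_normalizer_iff.mpr fun x => ⟨hmap x, fun hx => ?_⟩
  let F : P → P := fun s => ⟨(o * g) * s * (o * g)⁻¹, hmap s s.2⟩
  have hF : Function.Injective F := fun s t hst =>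
    Subtype.ext (mul_left_cancel (mul_right_cancel (congrArg Subtype.val hst)))
  obtain ⟨s, hs⟩ := Finite.surjective_of_injective hF ⟨_, hx⟩
  exact (mul_left_cancel (mul_right_cancel (congrArg Subtype.val hs))) ▸ s.2

end CfsgLib.PLocalCore
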