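import Mathlib
import Cfsg.Agent.Solvable.Basics

/-!
Wielandt: minimal normal subgroups normalise subnormal subgroups, the join of two subnormal
subgroups of a finite group is subnormal; subnormal `p`-subgroups lie in the `p`-core.
-/

set_option autoImplicit false
set_option linter.style.haveILetI false
open scoped Pointwise

namespace CfsgLib.SubnormalJoin

open Subgroup

variable {G : Type*} [Group G]

/-- A normal subgroup contains a minimal normal one. -/
theorem exists_minimal [Finite G] {N : Subgroup G} (hn : N.Normal) (hN : N ≠ ⊥) :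
    ∃ M : Subgroup G, M ≤ N ∧ M.Normal ∧ M ≠ ⊥ ∧
      ∀ K : Subgroup G, K.Normal → K ≠ ⊥ → K ≤ M → K = M := by
  obtain ⟨M, hM, hmin⟩ := Finite.exists_le_minimal
    (p := fun K : Subgroup G => K.Normal ∧ K ≠ ⊥) ⟨hn, hN⟩
  exact ⟨M, hM, hmin.1.1, hmin.1.2, fun K h1 h2 h3 => le_antisymm h3 (hmin.2 ⟨h1, h2⟩ h3)⟩

theorem minimal_le_normalizer [Finite G] {M H : Subgroup G} (hMn : M.Normal) (hM : M ≠ ⊥)
    (hmin : ∀ K : Subgroup G, K.Normal → K ≠ ⊥ → K ≤ M → K = M) (hH : H.IsSubnormal) :
    M ≤ normalizer (H : Set G) := by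
  obtain ⟨n, hn⟩ : ∃ n, Nat.card G = n := ⟨_, rfl⟩
  induction n using Nat.strong_induction_on generalizing G with
  | _ n ih =>
    subst hn
    rcases hH.lt_normal with rfl | ⟨N, hNn, hHN, hNlt⟩
    · intro x _
      rw [Subgroup.normalizer_eq_top]
      exact mem_top x
    haveI := hNn
    haveI := hMn
    by_cases hMN : M ⊓ N = ⊥
    · refine le_trans ?_ (centralizer_le_normalizer _)
      intro m hm
      rw [mem_centralizer_iff]
      intro h hh
      exact (commute_of_normal_of_disjoint M N hMn hNn (disjoint_iff.2 hMN) m h hm (hHN hh)).eq.symm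
    have hle : M ≤ N := by
      have := hmin (M ⊓ N) inferInstance hMN inf_le_left
      exact this ▸ inf_le_right
    have hlt : Nat.card N < Nat.card G := CfsgLib.Solvable.card_lt_of_ne_top hNlt.ne
    have hM' : M.subgroupOf N ≠ ⊥ := fun h =>
      hM (by rw [← map_subgroupOf_eq_of_le hle, h, Subgroup.map_bot])
    obtain ⟨K, hKM, hKn, hK, hKmin⟩ := exists_minimal (G := N) inferInstance hM'
    let R : Subgroup G := ⨅ g : G, normalizer ((MulAut.conj g • H : Subgroup G) : Set G)
    have hKR : K.map N.subtype ≤ R := le_iInf fun g => by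
      have hsn : (MulAut.conj g • H).IsSubnormal := hH.smul _
      have hgN : MulAut.conj g • H ≤ N := by
        rintro _ ⟨h, hh, rfl⟩
        exact hNn.conj_mem h (hHN hh) g
      have := Subgroup.map_mono (f := N.subtype)
        (ih _ hlt hKn hK hKmin (hsn.subgroupOf (K := N)) rfl)
      refine this.trans ((le_normalizer_map N.subtype).trans ?_)
      rw [map_subgroupOf_eq_of_le hgN]
    have hRn : R.Normal := ⟨fun x hx c => by
      simp only [R, mem_iInf] at hx ⊢
      intro g
      have := (mem_normalizer_iff.1 (hx (c⁻¹ * g)))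
      rw [mem_normalizer_iff]
      intro y
      have e : ∀ z : G, z ∈ MulAut.conj g • H ↔ c⁻¹ * z * c ∈ MulAut.conj (c⁻¹ * g) • H := by
        intro z
        simp only [mem_pointwise_smul_iff_inv_smul_mem, MulAut.smul_def]
        simp [mul_assoc]
      rw [e, e, this (c⁻¹ * y * c)]
      simp [mul_assoc]⟩
    haveI := hRn
    have hne : M ⊓ R ≠ ⊥ := by
      intro h
      refine hK ((Subgroup.map_eq_bot_iff_of_injective K N.subtype_injective).1 ?_)
      rw [eq_bot_iff, ← h]
      refine le_inf ?_ hKR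
      exact (map_mono hKM).trans (map_subgroupOf_eq_of_le hle).le
    have := hmin (M ⊓ R) inferInstance hne inf_le_left
    rw [inf_eq_left] at this
    refine this.trans ((iInf_le _ (1 : G)).trans ?_)
    simp

/-- Wielandt's join theorem for a finite group. -/
theorem isSubnormal_sup [Finite G] {A B : Subgroup G} (hA : A.IsSubnormal) (hB : B.IsSubnormal) :
    (A ⊔ B).IsSubnormal := by
  obtain ⟨n, hn⟩ : ∃ n, Nat.card G = n := ⟨_, rfl⟩
  induction n using Nat.strong_induction_on generalizing G with
  | _ n ih =>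
    subst hn
    by_cases htriv : (⊤ : Subgroup G) = ⊥
    · have : A ⊔ B = ⊤ := le_antisymm le_top (htriv.le.trans bot_le)
      rw [this]
      exact IsSubnormal.top
    obtain ⟨M, -, hMn, hM, hmin⟩ := exists_minimal (N := (⊤ : Subgroup G)) inferInstance htriv
    haveI := hMn
    have hlt : Nat.card (G ⧸ M) < Nat.card G := CfsgLib.Solvable.card_quotient_lt hM
    have hq := (ih _ hlt (hA.quotient (K := M)) (hB.quotient (K := M)) rfl).comap
      (QuotientGroup.mk' M)
    rw [← Subgroup.map_sup, comap_map_eq, QuotientGroup.ker_mk'] at hq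
    refine IsSubnormal.step _ _ le_sup_left hq (normal_subgroupOf_of_le_normalizer ?_)
    refine sup_le le_normalizer ?_
    have h1 := minimal_le_normalizer hMn hM hmin hA
    have h2 := minimal_le_normalizer hMn hM hmin hB
    intro m hm
    rw [mem_normalizer_iff_map_conj_eq, Subgroup.map_sup,
      mem_normalizer_iff_map_conj_eq.1 (h1 hm), mem_normalizer_iff_map_conj_eq.1 (h2 hm)]

/-- A subnormal `p`-subgroup lies in the `p`-core. -/
theorem le_pCore_of_isSubnormal [Finite G] {p : ℕ} [Fact p.Prime] {H : Subgroup G}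
    (hH : H.IsSubnormal) (hp : IsPGroup p H) : H ≤ Cfsg.pCore p G := by
  obtain ⟨n, hn⟩ : ∃ n, Nat.card G = n := ⟨_, rfl⟩
  induction n using Nat.strong_induction_on generalizing G with
  | _ n ih =>
    subst hn
    rcases hH.lt_normal with rfl | ⟨M, hMn, hHM, hMlt⟩
    · exact CfsgLib.Solvable.le_pCore p inferInstance hp
    haveI := hMn
    have hlt : Nat.card M < Nat.card G := CfsgLib.Solvable.card_lt_of_ne_top hMlt.ne
    have h1 := map_mono (f := M.subtype) (ih _ hlt (hH.subgroupOf (K := M))
      (hp.of_equiv (subgroupOfEquivOfLe hHM).symm) rfl)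
    rw [map_subgroupOf_eq_of_le hHM] at h1
    refine h1.trans (CfsgLib.Solvable.le_pCore p ⟨fun x hx g => ?_⟩
      ((CfsgLib.Solvable.isPGroup_pCore p).map _))
    obtain ⟨y, hy, rfl⟩ := hx
    have hle : (Cfsg.pCore p M).map (MulAut.conjNormal g : MulAut M).toMonoidHom ≤ Cfsg.pCore p M :=
      CfsgLib.Solvable.le_pCore p
        ((CfsgLib.Solvable.pCore_normal p).map _ (MulAut.conjNormal g : MulAut M).surjective)
        ((CfsgLib.Solvable.isPGroup_pCore p).map _)
    exact ⟨MulAut.conjNormal g y, hle ⟨y, hy, rfl⟩, rfl⟩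

end CfsgLib.SubnormalJoin
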