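import Mathlib
import Cfsg.Agent.ZJ.Constrained
import Cfsg.Agent.Solvable.Fitting
import Cfsg.Agent.LocalB.CharP

/-!
p-stability and the quotient by the p'-core.
-/

set_option autoImplicit false
set_option linter.style.haveILetI false
open scoped commutatorElement

namespace CfsgLib.PStableQuot

open Subgroup

variable {G : Type*} [Group G] [Finite G] {p : ℕ} [Fact p.Prime]

theorem pPrimePCore_eq_pCore (h : Cfsg.pPrimeCore p G = ⊥) :
    Cfsg.pPrimePCore p G = Cfsg.pCore p G := by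
  let π := QuotientGroup.mk' (Cfsg.pPrimeCore p G)
  have hinj : Function.Injective π := (MonoidHom.ker_eq_bot_iff π).1 (by rw [QuotientGroup.ker_mk', h])
  let e : G ≃* G ⧸ Cfsg.pPrimeCore p G :=
    MulEquiv.ofBijective π ⟨hinj, QuotientGroup.mk'_surjective _⟩
  ext x
  constructor
  · intro hx
    have := LocalB.map_pCore_mem p e.symm (y := e x) hx
    rwa [MulEquiv.symm_apply_apply] at this
  · intro hx
    exact LocalB.map_pCore_mem p e hx

/-- `N(P)/C(P)` does not change modulo the p'-core. -/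
theorem exists_autEquiv {P : Subgroup G} (hP : IsPGroup p P) :
    ∃ e : (↥(normalizer (P : Set G)) ⧸ (centralizer (P : Set G)).subgroupOf (normalizer (P : Set G))) ≃*
        (↥(normalizer ((P.map (QuotientGroup.mk' (Cfsg.pPrimeCore p G)) : Subgroup _) : Set (G ⧸ Cfsg.pPrimeCore p G))) ⧸
          (centralizer ((P.map (QuotientGroup.mk' (Cfsg.pPrimeCore p G)) : Subgroup _) : Set (G ⧸ Cfsg.pPrimeCore p G))).subgroupOf
            (normalizer ((P.map (QuotientGroup.mk' (Cfsg.pPrimeCore p G)) : Subgroup _) : Set (G ⧸ Cfsg.pPrimeCore p G)))),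
      ∀ (d : G) (hd : d ∈ normalizer (P : Set G))
        (hd' : QuotientGroup.mk' (Cfsg.pPrimeCore p G) d ∈
          normalizer ((P.map (QuotientGroup.mk' (Cfsg.pPrimeCore p G)) : Subgroup _) : Set (G ⧸ Cfsg.pPrimeCore p G))),
        e (QuotientGroup.mk' _ ⟨d, hd⟩) = QuotientGroup.mk' _ ⟨_, hd'⟩ := by
  set K := Cfsg.pPrimeCore p G
  set π := QuotientGroup.mk' K
  set Nb := normalizer ((P.map π : Subgroup _) : Set (G ⧸ K))
  set Cb := (centralizer ((P.map π : Subgroup _) : Set (G ⧸ K))).subgroupOf Nb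
  have hmem : ∀ d ∈ normalizer (P : Set G), π d ∈ Nb := fun d hd =>
    le_normalizer_map π ⟨d, hd, rfl⟩
  let ψ : ↥(normalizer (P : Set G)) →* ↥Nb :=
    (π.comp (normalizer (P : Set G)).subtype).codRestrict Nb fun d => hmem d d.2
  let φ := (QuotientGroup.mk' Cb).comp ψ
  have hsurj : Function.Surjective φ := by
    intro y
    obtain ⟨⟨y, hy⟩, rfl⟩ := QuotientGroup.mk'_surjective Cb y
    obtain ⟨g, rfl⟩ := QuotientGroup.mk'_surjective K y
    have hg : g ∈ normalizer ((P ⊔ K : Subgroup G) : Set G) := by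
      have hc : (P.map π).comap π = P ⊔ K := by rw [comap_map_eq, QuotientGroup.ker_mk']
      rw [← hc]
      exact le_normalizer_comap π hy
    obtain ⟨n, hn, hng⟩ := ZJ.exists_mul_mem_normalizer hP (Solvable.coprime_card_pPrimeCore p) hg
    refine ⟨⟨n * g, hng⟩, ?_⟩
    change QuotientGroup.mk' Cb (ψ ⟨n * g, hng⟩) = _
    congr 1
    apply Subtype.ext
    change π (n * g) = π g
    rw [map_mul, show π n = 1 from (QuotientGroup.eq_one_iff n).2 hn, one_mul]
  have hker : φ.ker = (centralizer (P : Set G)).subgroupOf (normalizer (P : Set G)) := by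
    ext d
    rw [MonoidHom.mem_ker, mem_subgroupOf]
    change QuotientGroup.mk' Cb (ψ d) = 1 ↔ _
    rw [QuotientGroup.mk'_apply, QuotientGroup.eq_one_iff, mem_subgroupOf]
    change π (d : G) ∈ centralizer ((P.map π : Subgroup _) : Set (G ⧸ K)) ↔ _
    constructor
    · intro h
      refine mem_centralizer_iff.2 fun x hx => ?_
      have h1 : x * (d : G) * x⁻¹ * (d : G)⁻¹ ∈ P := by
        rw [show x * (d : G) * x⁻¹ * (d : G)⁻¹ = x * ((d : G) * x⁻¹ * (d : G)⁻¹) by group]
        exact P.mul_mem hx ((mem_normalizer_iff.1 d.2 _).1 (P.inv_mem hx))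
      have h2 : x * (d : G) * x⁻¹ * (d : G)⁻¹ ∈ K := by
        rw [← QuotientGroup.eq_one_iff]
        change π (x * (d : G) * x⁻¹ * (d : G)⁻¹) = 1
        rw [map_mul, map_mul, map_mul, map_inv, map_inv, mem_centralizer_iff.1 h (π x) ⟨x, hx, rfl⟩,
          mul_inv_cancel_right, mul_inv_cancel]
      have h3 : x * (d : G) * x⁻¹ * (d : G)⁻¹ ∈ (⊥ : Subgroup G) :=
        ZJ.isPGroup_inf_coprime hP (Solvable.coprime_card_pPrimeCore p) ▸ ⟨h1, h2⟩
      rw [mem_bot, mul_inv_eq_one, mul_inv_eq_iff_eq_mul] at h3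
      exact h3
    · intro h
      refine mem_centralizer_iff.2 ?_
      rintro _ ⟨x, hx, rfl⟩
      rw [← map_mul, ← map_mul, mem_centralizer_iff.1 h x hx]
  refine ⟨(QuotientGroup.quotientMulEquivOfEq hker.symm).trans
    (QuotientGroup.quotientKerEquivOfSurjective φ hsurj), fun d hd hd' => ?_⟩
  rfl

theorem isPStable_iff (hO : Cfsg.pCore p G ≠ ⊥) :
    Cfsg.IsPStable p G ↔ Cfsg.IsPStable p (G ⧸ Cfsg.pPrimeCore p G) := by
  set K := Cfsg.pPrimeCore p G
  set π := QuotientGroup.mk' K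
  have hπ : Function.Surjective π := QuotientGroup.mk'_surjective K
  have hK0 : Cfsg.pPrimeCore p (G ⧸ K) = ⊥ := Fitting.pPrimeCore_quotient_eq_bot p
  have hpp := pPrimePCore_eq_pCore hK0
  constructor
  · intro hs
    refine ⟨hs.1, ?_, ?_⟩
    · intro h
      have hle : (Cfsg.pCore p G).map π ≤ Cfsg.pCore p (G ⧸ K) :=
        Solvable.le_pCore p ((Solvable.pCore_normal p).map π hπ) ((Solvable.isPGroup_pCore p).map π)
      rw [h, le_bot_iff, Subgroup.map_eq_bot_iff, QuotientGroup.ker_mk'] at hle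
      have := ZJ.isPGroup_inf_coprime (N := K) (Solvable.isPGroup_pCore p) (Solvable.coprime_card_pPrimeCore p)
      rw [inf_eq_left.2 hle] at this
      exact hO this
    intro Ab Pb hAb hPb hnorm hle hn hq
    rw [hK0, bot_sup_eq] at hn
    set M := Pb.comap π with hM
    haveI hMn : M.Normal := hn.comap π
    set H := (Pb ⊔ Ab).comap π
    have hPA : IsPGroup p ↥(Pb ⊔ Ab) := IsPGroup.to_sup_of_normal_left hPb hAb
    obtain ⟨T⟩ := (inferInstance : Nonempty (Sylow p H))
    let ψ : H →* ↥(Pb ⊔ Ab) := π.subgroupComap (Pb ⊔ Ab)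
    have hψ : Function.Surjective ψ := by
      rintro ⟨y, hy⟩
      obtain ⟨g, rfl⟩ := hπ y
      exact ⟨⟨g, hy⟩, rfl⟩
    have hTtop : ((T.mapSurjective hψ : Sylow p ↥(Pb ⊔ Ab)) : Subgroup ↥(Pb ⊔ Ab)) = ⊤ :=
      ((T.mapSurjective hψ).3 (Q := ⊤) (hPA.of_equiv topEquiv.symm) le_top).symm
    set T' := (T : Subgroup H).map H.subtype
    have hTmap : ∀ y ∈ Pb ⊔ Ab, ∃ t ∈ T', π t = y := by
      intro y hy
      have : (⟨y, hy⟩ : ↥(Pb ⊔ Ab)) ∈ ((T.mapSurjective hψ : Sylow p ↥(Pb ⊔ Ab)) : Subgroup ↥(Pb ⊔ Ab)) := by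
        rw [hTtop]; exact mem_top _
      obtain ⟨t, ht, hty⟩ := this
      exact ⟨t, ⟨t, ht, rfl⟩, congrArg Subtype.val hty⟩
    set P := T' ⊓ M
    set A := T' ⊓ Ab.comap π
    have hT' : IsPGroup p T' := T.2.map _
    have hPp : IsPGroup p P := hT'.to_le inf_le_left
    have hAp : IsPGroup p A := hT'.to_le inf_le_left
    have hAP : A ≤ normalizer (P : Set G) := by
      refine le_trans inf_le_left ?_
      intro t ht
      rw [mem_normalizer_iff]
      intro y
      exact and_congr ((mem_normalizer_iff.1 (le_normalizer ht)) y)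
        ⟨fun h => hMn.conj_mem y h t, fun h => by simpa [mul_assoc] using hMn.conj_mem _ h t⁻¹⟩
    have hPmap : P.map π = Pb := by
      refine le_antisymm (map_le_iff_le_comap.2 inf_le_right) fun y hy => ?_
      obtain ⟨t, ht, rfl⟩ := hTmap y (mem_sup_left hy)
      exact ⟨t, ⟨ht, hy⟩, rfl⟩
    have hAmap : A.map π = Ab := by
      refine le_antisymm (map_le_iff_le_comap.2 inf_le_right) fun y hy => ?_
      obtain ⟨t, ht, rfl⟩ := hTmap y (mem_sup_right hy)
      exact ⟨t, ⟨ht, hy⟩, rfl⟩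
    have hPpp : P ≤ Cfsg.pPrimePCore p G := fun x hx => by
      change π x ∈ Cfsg.pCore p (G ⧸ K)
      have h1 := hle (show π x ∈ Pb from hPmap ▸ mem_map_of_mem π hx)
      rwa [hpp] at h1
    have hKP : (K ⊔ P).Normal := by
      have : K ⊔ P = M := by
        rw [hM, ← hPmap, comap_map_eq, QuotientGroup.ker_mk', sup_comm]
      rw [this]
      exact hMn
    have hquad : ⁅⁅P, A⁆, A⁆ = ⊥ := by
      have hPP : ⁅⁅P, A⁆, A⁆ ≤ P := by
        have h1 : ⁅P, A⁆ ≤ P := by
          rw [commutator_le]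
          intro x hx y hy
          rw [commutatorElement_def, show x * y * x⁻¹ * y⁻¹ = x * (y * x⁻¹ * y⁻¹) by group]
          exact P.mul_mem hx ((mem_normalizer_iff.1 (hAP hy) _).1 (P.inv_mem hx))
        exact (commutator_mono h1 le_rfl).trans h1
      have hPK : ⁅⁅P, A⁆, A⁆ ≤ K := by
        have : (⁅⁅P, A⁆, A⁆).map π ≤ ⊥ := by
          rw [map_commutator, map_commutator, hPmap, hAmap, hq]
        rwa [map_le_iff_le_comap, MonoidHom.comap_bot, QuotientGroup.ker_mk'] at this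
      exact le_bot_iff.1 ((le_inf hPP hPK).trans
        (ZJ.isPGroup_inf_coprime hPp (Solvable.coprime_card_pPrimeCore p)).le)
    have hres := hs.2.2 A P hAp hPp (fun a ha x hx => (mem_normalizer_iff.1 (hAP ha) x).1 hx)
      hPpp hKP hquad
    obtain ⟨e, he⟩ := exists_autEquiv (p := p) hPp
    revert e
    rw [hPmap]
    intro e he
    rintro _ ⟨⟨y, hy⟩, hyA, rfl⟩
    have hyA' : y ∈ A.map π := hAmap ▸ hyA
    obtain ⟨a, ha, rfl⟩ := hyA'
    rw [← he a (hAP ha) hy]
    exact LocalB.map_pCore_mem p e (hres ⟨⟨a, hAP ha⟩, ha, rfl⟩)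
  · intro hs
    refine ⟨hs.1, hO, ?_⟩
    intro A P hA hP hnorm hle hn hq
    have hres := hs.2.2 (A.map π) (P.map π) (hA.map π) (hP.map π)
      (by
        rintro _ ⟨a, ha, rfl⟩ _ ⟨x, hx, rfl⟩
        exact ⟨a * x * a⁻¹, hnorm a ha x hx, by rw [map_mul, map_mul, map_inv]⟩)
      (by
        rw [hpp]
        rintro _ ⟨x, hx, rfl⟩
        exact hle hx)
      (by
        rw [hK0, bot_sup_eq]
        have : (K ⊔ P).map π = P.map π := by
          rw [Subgroup.map_sup, (Subgroup.map_eq_bot_iff K).2 (QuotientGroup.ker_mk' K).ge, bot_sup_eq]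
        rw [← this]
        exact hn.map π hπ)
      (by rw [← map_commutator, ← map_commutator, hq, Subgroup.map_bot])
    obtain ⟨e, he⟩ := exists_autEquiv (p := p) hP
    rintro _ ⟨⟨a, ha⟩, haA, rfl⟩
    have ha' := le_normalizer_map π ⟨a, ha, rfl⟩
    have h1 := LocalB.map_pCore_mem p e.symm
      (hres ⟨⟨π a, ha'⟩, ⟨a, haA, rfl⟩, rfl⟩)
    rwa [← he a ha ha', MulEquiv.symm_apply_apply] at h1

end CfsgLib.PStableQuot
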