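/-
The stable normal closure of Ω₁(Z(S)).
-/
import Cfsg.Agent.PLocal.Core
import Cfsg.Agent.PLocal.Offender

set_option autoImplicit false

namespace CfsgLib.StableClosure

open Subgroup Cfsg CfsgLib.Thompson
open scoped commutatorElement

universe u

variable {S : Type u} [Group S] {p : ℕ}

theorem centralizer_normal_of_normal {H : Type*} [Group H] (K : Subgroup H) [hK : K.Normal] :
    (centralizer (K : Set H)).Normal :=
  ⟨fun x hx g => mem_centralizer_iff.mpr fun k hk => by
    have := mem_centralizer_iff.mp hx _ (by simpa using hK.conj_mem k hk g⁻¹ : g⁻¹ * k * g ∈ K)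
    have := congrArg (fun t => g * t * g⁻¹) this
    simpa [mul_assoc] using this⟩

theorem omegaOne_normal {H : Type*} [Group H] (K : Subgroup H) [hK : K.Normal] :
    (omegaOne p K).Normal := by
  refine ⟨fun x hx g => ?_⟩
  have h : (omegaOne p K).map (MulAut.conj g).toMonoidHom ≤ omegaOne p K := by
    rw [map_omegaOne _ (MulAut.conj g).injective]
    refine omegaOne_mono ?_
    rintro _ ⟨k, hk, rfl⟩
    exact hK.conj_mem k hk g
  exact h ⟨x, hx, rfl⟩

theorem map_inf_centralizer {H H' : Type*} [Group H] [Group H'] (f : H →* H')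
    (hf : Function.Injective f) (J : Subgroup H) :
    (J ⊓ centralizer (J : Set H)).map f =
      J.map f ⊓ centralizer ((J.map f : Subgroup H') : Set H') := by
  ext y
  constructor
  · rintro ⟨x, ⟨hx, hxc⟩, rfl⟩
    refine ⟨mem_map_of_mem f hx, mem_centralizer_iff.mpr ?_⟩
    rintro _ ⟨z, hz, rfl⟩
    rw [← map_mul, ← map_mul, mem_centralizer_iff.mp hxc z hz]
  · rintro ⟨⟨x, hx, rfl⟩, hxc⟩
    refine mem_map_of_mem f ⟨hx, mem_centralizer_iff.mpr fun z hz => hf ?_⟩
    rw [map_mul, map_mul, mem_centralizer_iff.mp hxc _ (mem_map_of_mem f hz)]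

theorem map_omegaCenterThompson_normal {H : Type u} [Group H] {τ : S →* H}
    (hτ : IsStableEmbedding p τ) : ((omegaCenterThompson p S).map τ).Normal := by
  rw [omegaCenterThompson, map_omegaOne τ hτ.1, map_inf_centralizer τ hτ.1]
  have := hτ.2.2.2.2.1
  have := centralizer_normal_of_normal ((thompsonSubgroup p S).map τ)
  exact omegaOne_normal _

theorem omegaOne_center_le [Finite S] :
    omegaOne p (center S) ≤ omegaCenterThompson p S := by
  refine (closure_le _).mpr fun x hx => ?_
  have hc : x ∈ centralizer (thompsonSubgroup p S : Set S) :=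
    mem_centralizer_iff.mpr fun y _ => mem_center_iff.mp hx.1 y
  exact mem_omegaOne ⟨mem_thompsonSubgroup_of_centralizes hx.2 hc, hc⟩ hx.2

/-- The family whose infimum is the stable normal closure. -/
def family (p : ℕ) (S : Type u) [Group S] : Set (Subgroup S) :=
  {W : Subgroup S | omegaOne p (Subgroup.center S) ≤ W ∧
    ∀ (H : Type u) [Group H] (τ : S →* H), IsStableEmbedding p τ → (W.map τ).Normal}

theorem omegaCenterThompson_mem_family [Finite S] : omegaCenterThompson p S ∈ family p S :=
  ⟨omegaOne_center_le, fun _ _ _ hτ => map_omegaCenterThompson_normal hτ⟩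

theorem stableNormalClosure_le [Finite S] :
    stableNormalClosure p S ≤ omegaCenterThompson p S :=
  sInf_le omegaCenterThompson_mem_family

theorem omegaOne_center_le_stableNormalClosure :
    omegaOne p (center S) ≤ stableNormalClosure p S :=
  le_sInf fun _ hW => hW.1

theorem stableNormalClosure_map_normal [Finite S] {H : Type u} [Group H] {τ : S →* H}
    (hτ : IsStableEmbedding p τ) : ((stableNormalClosure p S).map τ).Normal := by
  have hne : Nonempty (family p S) := ⟨⟨_, omegaCenterThompson_mem_family⟩⟩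
  have e : stableNormalClosure p S = ⨅ W : family p S, (W : Subgroup S) := sInf_eq_iInf' _
  rw [e, Subgroup.map_iInf τ hτ.1]
  exact normal_iInf_normal fun W => W.2.2 H τ hτ

theorem omegaCenterThompson_map {S' : Type u} [Group S'] (η : S ≃* S') :
    (omegaCenterThompson p S).map η.toMonoidHom = omegaCenterThompson p S' := by
  rw [omegaCenterThompson, omegaCenterThompson, map_omegaOne _ η.injective,
    map_inf_centralizer _ η.injective, map_thompsonSubgroup]

theorem map_center_le {S' : Type u} [Group S'] (η : S ≃* S') :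
    (omegaOne p (center S)).map η.toMonoidHom = omegaOne p (center S') := by
  rw [map_omegaOne _ η.injective]
  congr 1
  ext y
  constructor
  · rintro ⟨x, hx, rfl⟩
    refine mem_center_iff.mpr fun z => ?_
    obtain ⟨z', rfl⟩ := η.surjective z
    change η z' * η x = η x * η z'
    rw [← map_mul, ← map_mul, mem_center_iff.mp hx z']
  · intro hy
    refine ⟨η.symm y, mem_center_iff.mpr fun z => η.injective ?_, η.apply_symm_apply y⟩
    rw [map_mul, map_mul, η.apply_symm_apply, mem_center_iff.mp hy]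

theorem isStableEmbedding_comp {S' H : Type u} [Group S'] [Group H] (η : S ≃* S') {τ : S' →* H}
    (hτ : IsStableEmbedding p τ) : IsStableEmbedding p (τ.comp η.toMonoidHom) := by
  obtain ⟨h1, h2, ⟨P, hP⟩, h4, h5, h6⟩ := hτ
  refine ⟨h1.comp η.injective, h2, ⟨P, ?_⟩, h4, ?_, ?_⟩
  · rw [hP, MonoidHom.range_comp, show η.toMonoidHom.range = ⊤ from MonoidHom.range_eq_top.mpr η.surjective, ← MonoidHom.range_eq_map]
  · rwa [← map_map, map_thompsonSubgroup]
  · intro V hV hle
    exact h6 V (hle.trans (by rw [← map_map, omegaCenterThompson_map]))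

theorem family_map {S' : Type u} [Group S'] (η : S ≃* S') {W : Subgroup S}
    (hW : W ∈ family p S) : W.map η.toMonoidHom ∈ family p S' := by
  refine ⟨map_center_le (p := p) η ▸ map_mono hW.1, fun H _ τ hτ => ?_⟩
  rw [map_map]
  exact hW.2 H _ (isStableEmbedding_comp η hτ)

theorem map_stableNormalClosure {S' : Type u} [Group S'] (η : S ≃* S') :
    (stableNormalClosure p S).map η.toMonoidHom = stableNormalClosure p S' := by
  refine le_antisymm (le_sInf fun W hW => ?_) ?_
  · rw [map_le_iff_le_comap]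
    refine (sInf_le (family_map η.symm hW) : stableNormalClosure p S ≤ _).trans ?_
    rintro _ ⟨y, hy, rfl⟩
    change η (η.symm y) ∈ W
    rwa [η.apply_symm_apply]
  · intro y hy
    refine ⟨η.symm y, ?_, η.apply_symm_apply y⟩
    refine mem_sInf.mpr fun W hW => ?_
    obtain ⟨x, hx, hxy⟩ := mem_sInf.mp hy _ (family_map η hW)
    rw [← hxy]
    simpa using hx

instance stableNormalClosure_characteristic : (stableNormalClosure p S).Characteristic :=
  characteristic_iff_map_eq.mpr fun e => map_stableNormalClosure e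

/-! ### Quadratically acting elements centralise the stable normal closure -/

theorem quadratic_iff {G : Type*} [Group G] (V : Subgroup G) (a : G) :
    ⁅⁅V, zpowers a⁆, zpowers a⁆ = ⊥ ↔ ∀ v ∈ V, ⁅v, a⁆ * a = a * ⁅v, a⁆ := by
  refine ⟨fun h v hv => CfsgLib.Offender.quadratic_fixed h hv (mem_zpowers a) (mem_zpowers a), fun h => ?_⟩
  rw [commutator_eq_bot_iff_le_centralizer]
  refine le_centralizer_iff.mp (zpowers_le.mpr ?_)
  let M : Subgroup G :=
    { carrier := {b | b ∈ centralizer ({a} : Set G) ∧ ∀ v ∈ V, ⁅v, b⁆ * a = a * ⁅v, b⁆}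
      one_mem' := ⟨one_mem _, fun v _ => by simp [commutatorElement_def]⟩
      mul_mem' := by
        rintro b c ⟨hb, hbv⟩ ⟨hc, hcv⟩
        refine ⟨mul_mem hb hc, fun v hv => ?_⟩
        have e : ⁅v, b * c⁆ = ⁅v, b⁆ * (b * ⁅v, c⁆ * b⁻¹) := by
          rw [commutatorElement_def, commutatorElement_def, commutatorElement_def]; group
        have hba : Commute b a := mem_centralizer_singleton_iff.mp hb
        rw [e]
        exact (show Commute _ a from hbv v hv).mul_left
          ((hba.mul_left (hcv v hv)).mul_left hba.inv_left)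
      inv_mem' := by
        rintro b ⟨hb, hbv⟩
        refine ⟨inv_mem hb, fun v hv => ?_⟩
        have e : ⁅v, b⁻¹⁆ = b⁻¹ * ⁅v, b⁆⁻¹ * b := by
          rw [commutatorElement_def, commutatorElement_def]; group
        have hba : Commute b a := mem_centralizer_singleton_iff.mp hb
        rw [e]
        exact (hba.inv_left.mul_left (show Commute _ a from hbv v hv).inv_left).mul_left hba }
  have hle : zpowers a ≤ M := zpowers_le.mpr ⟨mem_centralizer_singleton_iff.mpr rfl, h⟩
  have key : ⁅V, zpowers a⁆ ≤ centralizer {a} :=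
    commutator_le.mpr fun v hv b hb => mem_centralizer_singleton_iff.mpr ((hle hb).2 v hv)
  exact mem_centralizer_iff.mpr fun z hz => mem_centralizer_singleton_iff.mp (key hz)

theorem quadratic_imp_central [Finite S] [Fact p.Prime] (x : S)
    (hq : ⁅⁅stableNormalClosure p S, zpowers x⁆, zpowers x⁆ = ⊥) :
    ⁅stableNormalClosure p S, zpowers x⁆ = ⊥ := by
  set W := stableNormalClosure p S with hW
  set U := W ⊓ centralizer {q : S | ⁅⁅W, zpowers q⁆, zpowers q⁆ = ⊥} with hU
  have hUF : U ∈ family p S := by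
    refine ⟨le_inf omegaOne_center_le_stableNormalClosure fun z hz =>
      mem_centralizer_iff.mpr fun q _ => mem_center_iff.mp (omegaOne_le _ hz) q, ?_⟩
    intro H _ τ hτ
    have hfin : Finite H := hτ.2.1
    obtain ⟨P, hP⟩ := hτ.2.2.1
    have hVn := stableNormalClosure_map_normal hτ
    set V := W.map τ with hV
    have hst := hτ.2.2.2.2.2 V (map_mono stableNormalClosure_le)
    set C := centralizer (V : Set H) with hC
    set D := (pCore p (H ⧸ C)).comap (QuotientGroup.mk' C) with hD
    have hCD : C ≤ D := fun c hc => by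
      rw [hD, mem_comap, show QuotientGroup.mk' C c = 1 from (QuotientGroup.eq_one_iff c).mpr hc]
      exact one_mem _
    obtain ⟨k, hk⟩ : ∃ k, C.relIndex D = p ^ k := by
      obtain ⟨k, hk⟩ := IsPGroup.iff_card.mp (CfsgLib.Solvable.isPGroup_pCore (G := H ⧸ C) p)
      refine ⟨k, ?_⟩
      rw [show C = (⊥ : Subgroup (H ⧸ C)).comap (QuotientGroup.mk' C) by
        rw [MonoidHom.comap_bot, QuotientGroup.ker_mk'], hD, relIndex_comap,
        map_comap_eq_self_of_surjective (QuotientGroup.mk'_surjective C), relIndex_bot_left, hk]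
    have hDle := CfsgLib.PLocalCore.le_sup_sylow_inf hCD hk P
    refine ⟨?_⟩
    rintro _ ⟨u, hu, rfl⟩ h
    obtain ⟨w, hw, hwe⟩ := hVn.conj_mem _ (mem_map_of_mem τ hu.1) h
    refine ⟨w, ⟨hw, mem_centralizer_iff.mpr fun q hq => hτ.1 ?_⟩, hwe⟩
    have hqV : ⁅⁅V, zpowers (τ q)⁆, zpowers (τ q)⁆ = ⊥ := by
      rw [← MonoidHom.map_zpowers, hV, ← map_commutator, ← map_commutator, show ⁅⁅W, zpowers q⁆, zpowers q⁆ = ⊥ from hq, Subgroup.map_bot]
    -- the conjugate of `τ q` back by `h` acts as an element of the Sylow subgroup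
    set y := h⁻¹ * τ q * h with hy
    have hyD : y ∈ D := by
      have h0 : τ q ∈ D := hst _ hqV
      have hDn : D.Normal := inferInstance
      simpa [hy] using hDn.conj_mem _ h0 h⁻¹
    obtain ⟨c, hc, s, hs, hcs⟩ : ∃ c ∈ C, ∃ s ∈ (P : Subgroup H), c * s = y := by
      have h1 := hDle hyD
      rw [← SetLike.mem_coe, Subgroup.normal_mul] at h1
      obtain ⟨c, hc, s, hs, e⟩ := h1
      exact ⟨c, hc, s, hs.1, e⟩
    rw [hP] at hs
    obtain ⟨σ, rfl⟩ := hs
    have hact : ∀ v ∈ V, y * v * y⁻¹ = τ σ * v * (τ σ)⁻¹ := by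
      intro v hv
      have hv' := hVn.conj_mem v hv (τ σ)
      calc y * v * y⁻¹ = c * (τ σ * v * (τ σ)⁻¹) * c⁻¹ := by rw [← hcs]; group
        _ = _ := by rw [← mem_centralizer_iff.mp hc _ hv', mul_inv_cancel_right]
    have hyq : ∀ v ∈ V, ⁅v, y⁆ * y = y * ⁅v, y⁆ := by
      intro v hv
      have hv' : h * v * h⁻¹ ∈ V := hVn.conj_mem v hv h
      have e := (quadratic_iff V (τ q)).mp hqV _ hv'
      have e2 : ⁅v, y⁆ = h⁻¹ * ⁅h * v * h⁻¹, τ q⁆ * h := by
        rw [hy, commutatorElement_def, commutatorElement_def]; group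
      rw [e2, hy]
      calc h⁻¹ * ⁅h * v * h⁻¹, τ q⁆ * h * (h⁻¹ * τ q * h) = h⁻¹ * (⁅h * v * h⁻¹, τ q⁆ * τ q) * h := by group
        _ = h⁻¹ * (τ q * ⁅h * v * h⁻¹, τ q⁆) * h := by rw [e]
        _ = _ := by group
    have hσ : ⁅⁅W, zpowers σ⁆, zpowers σ⁆ = ⊥ := by
      rw [quadratic_iff]
      intro v hv
      apply hτ.1
      have hv' : τ v ∈ V := mem_map_of_mem τ hv
      have ecomm : ⁅τ v, y⁆ = ⁅τ v, τ σ⁆ := by
        rw [commutatorElement_def, commutatorElement_def,
          show τ v * y * (τ v)⁻¹ * y⁻¹ = τ v * (y * (τ v)⁻¹ * y⁻¹) by group,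
          hact _ (inv_mem hv')]
        group
      have hcomm_mem : ⁅τ v, y⁆ ∈ V := CfsgLib.Offender.commutator_mem_of_normalizer
        ((normalizer_eq_top (H := V)).symm ▸ mem_top y) hv'
      have e := hyq _ hv'
      rw [map_mul, map_mul, map_commutatorElement, ← ecomm]
      have e' : y * ⁅τ v, y⁆ * y⁻¹ = ⁅τ v, y⁆ := by rw [← e, mul_inv_cancel_right]
      rw [hact _ hcomm_mem, mul_inv_eq_iff_eq_mul] at e'
      exact e'.symm
    have hus : σ * u = u * σ := mem_centralizer_iff.mp hu.2 σ hσ
    have huc : c * τ u = τ u * c := (mem_centralizer_iff.mp hc _ (mem_map_of_mem τ hu.1)).symm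
    have huy : y * τ u = τ u * y := by
      rw [← hcs, mul_assoc, ← map_mul, hus, map_mul, ← mul_assoc, huc, mul_assoc]
    rw [map_mul, map_mul, hwe]
    calc τ q * (h * τ u * h⁻¹) = h * (y * τ u) * h⁻¹ := by rw [hy]; group
      _ = h * (τ u * y) * h⁻¹ := by rw [huy]
      _ = h * τ u * h⁻¹ * τ q := by rw [hy]; group
  have hle : W ≤ centralizer {q : S | ⁅⁅W, zpowers q⁆, zpowers q⁆ = ⊥} :=
    (sInf_le hUF : W ≤ U).trans inf_le_right
  rw [commutator_eq_bot_iff_le_centralizer]
  intro w hw
  refine mem_centralizer_iff.mpr fun b hb => ?_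
  have : zpowers x ≤ centralizer {w} := zpowers_le.mpr
    (mem_centralizer_singleton_iff.mpr (mem_centralizer_iff.mp (hle hw) x hq))
  exact mem_centralizer_singleton_iff.mp (this hb)

end CfsgLib.StableClosure
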