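/-
In an action-p-stable group with self-centralizing p-core, the stable normal closure W(S) is normal.
-/
import Cfsg.Agent.PLocal.StableClosure
import Cfsg.Agent.Solvable.CoprimeAct
import Cfsg.Agent.Solvable.Fitting

set_option autoImplicit false

namespace CfsgLib.StableNormal

open Subgroup Cfsg CfsgLib.Thompson CfsgLib.StableClosure
open scoped commutatorElement

universe u

variable {G : Type u} [Group G] [Finite G] {p : ℕ} [Fact p.Prime]

/-- The normalizer of `J(S)` is a stable embedding of `S`. -/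
theorem isStableEmbedding_normalizer (hst : IsActionPStable p G)
    (hc : centralizer (pCore p G : Set G) ≤ pCore p G) (S : Sylow p G)
    (hle : (S : Subgroup G) ≤ normalizer (thompsonSubgroupOf p (S : Subgroup G) : Set G)) :
    IsStableEmbedding p (inclusion hle) := by
  set N := normalizer (thompsonSubgroupOf p (S : Subgroup G) : Set G) with hN
  have hQN : pCore p G ≤ N := (CfsgLib.Fitting.pCore_le_sylow S).trans hle
  refine ⟨inclusion_injective hle, inferInstance, ⟨S.subtype hle, ?_⟩, ?_, ?_, ?_⟩
  · rw [Sylow.coe_subtype, inclusion_range]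
  · have hQ' : (pCore p G).subgroupOf N ≤ pCore p N :=
      CfsgLib.Solvable.le_pCore (p := p) (inferInstance : ((pCore p G).subgroupOf N).Normal)
        ((CfsgLib.Solvable.isPGroup_pCore (G := G) p).comap_subtype)
    intro c hcc
    refine hQ' (show (c : G) ∈ pCore p G from hc (mem_centralizer_iff.mpr fun y hy => ?_))
    exact congrArg Subtype.val (mem_centralizer_iff.mp hcc ⟨y, hQN hy⟩ (hQ' hy))
  · have e : (thompsonSubgroup p (S : Subgroup G)).map (inclusion hle) =
        (thompsonSubgroupOf p (S : Subgroup G)).subgroupOf N := by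
      rw [thompsonSubgroupOf, ← subtype_comp_inclusion hle, ← map_map, subgroupOf,
        comap_map_eq_self_of_injective N.subtype_injective]
    rw [e]
    exact normal_subgroupOf_of_le_normalizer le_rfl
  · intro V _ hV
    refine hst.2.2 S V ?_
    refine (map_mono hV).trans (le_of_eq ?_)
    rw [map_map, subtype_comp_inclusion]

theorem comap_pCore_facts (C : Subgroup G) [C.Normal] :
    C ≤ (pCore p (G ⧸ C)).comap (QuotientGroup.mk' C) ∧
      ∃ k, C.relIndex ((pCore p (G ⧸ C)).comap (QuotientGroup.mk' C)) = p ^ k := by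
  refine ⟨fun c hc => ?_, ?_⟩
  · rw [mem_comap, show QuotientGroup.mk' C c = 1 from (QuotientGroup.eq_one_iff c).mpr hc]
    exact one_mem _
  · obtain ⟨k, hk⟩ := IsPGroup.iff_card.mp (CfsgLib.Solvable.isPGroup_pCore (G := G ⧸ C) p)
    refine ⟨k, ?_⟩
    have e : ((⊥ : Subgroup (G ⧸ C)).comap (QuotientGroup.mk' C)).relIndex
        ((pCore p (G ⧸ C)).comap (QuotientGroup.mk' C)) = p ^ k := by
      rw [relIndex_comap, map_comap_eq_self_of_surjective (QuotientGroup.mk'_surjective _),
        relIndex_bot_left, hk]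
    rwa [MonoidHom.comap_bot, QuotientGroup.ker_mk'] at e

/-- A normal subgroup stabilized modulo a `p`-stable section lies in the `p`-core. -/
theorem mem_pCore_of_section (hst : IsActionPStable p G)
    (hc : centralizer (pCore p G : Set G) ≤ pCore p G) {w : G}
    (hw : ⁅⁅pCore p G, zpowers w⁆, zpowers w⁆ = ⊥) : w ∈ pCore p G := by
  set Q := pCore p G with hQ
  set Φ := (frattini ↥Q).map Q.subtype with hΦ
  obtain ⟨D, hDn, hCD, ⟨k, hk⟩, hwD⟩ := hst.2.1 w (le_trans hw.le bot_le)
  set C := sectionKernel Q Φ with hC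
  have hQp : IsPGroup p Q := CfsgLib.Solvable.isPGroup_pCore p
  have hCp : IsPGroup p C := by
    intro x
    obtain ⟨a, b, hb, hab⟩ := Nat.exists_eq_pow_mul_and_not_dvd (orderOf_pos (x : G)).ne' p
      (Fact.out (p := p.Prime)).ne_one
    refine ⟨a, Subtype.ext ?_⟩
    set y : G := (x : G) ^ p ^ a with hy
    have hyo : orderOf y = b := by
      rw [hy, orderOf_pow, hab, Nat.gcd_eq_right (dvd_mul_right _ _),
        Nat.mul_div_cancel_left _ (pow_pos (Fact.out (p := p.Prime)).pos a)]
    have hyC : y ∈ C := pow_mem x.2 _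
    have hA : zpowers y ≤ centralizer (Q : Set G) := by
      refine CfsgLib.CoprimeAct.trivial_on_frattini_quotient
        ((le_top).trans_eq (normalizer_eq_top (H := Q)).symm) ?_ fun c hc' q hq => ?_
      · obtain ⟨j, hj⟩ := IsPGroup.iff_card.mp (hQp.to_subgroup (frattini Q))
        rw [hj, Nat.card_zpowers, hyo]
        exact Nat.Coprime.pow_right _ ((Nat.coprime_comm).mp
          ((Fact.out (p := p.Prime)).coprime_iff_not_dvd.mpr hb))
      · have hcC : c ∈ C := (zpowers_le.mpr hyC) hc'
        rw [hC, sectionKernel, mem_comap, mem_centralizer_iff] at hcC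
        have e := hcC _ (mem_map_of_mem _ hq)
        rw [← QuotientGroup.eq_one_iff (N := Φ)]
        show QuotientGroup.mk' Φ (c * q * c⁻¹ * q⁻¹) = 1
        rw [map_mul, map_mul, map_mul, map_inv, map_inv, ← e]
        group
    have hyQ : y ∈ Q := hc (hA (mem_zpowers y))
    obtain ⟨j, hj⟩ := IsPGroup.iff_orderOf.mp hQp ⟨y, hyQ⟩
    rw [← Subgroup.orderOf_coe] at hj
    have hb1 : b = 1 := by
      rcases Nat.eq_zero_or_pos j with rfl | hpos
      · rw [← hyo]; simpa using hj
      · exact absurd (hyo ▸ hj ▸ dvd_pow_self p hpos.ne') hb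
    show (x : G) ^ p ^ a = 1
    rw [← hy, ← orderOf_eq_one_iff, hyo, hb1]
  have hDp : IsPGroup p D := by
    obtain ⟨j, hj⟩ := IsPGroup.iff_card.mp hCp
    refine IsPGroup.of_card (n := j + k) ?_
    rw [← relIndex_bot_left, ← relIndex_mul_relIndex ⊥ C D bot_le hCD, relIndex_bot_left, hj, hk,
      pow_add]
  exact CfsgLib.Solvable.le_pCore (p := p) hDn hDp hwD

theorem thompsonSubgroupOf_eq_of_between {S P : Subgroup G}
    (h1 : thompsonSubgroupOf p S ≤ P) (h2 : P ≤ S) :
    thompsonSubgroupOf p P = thompsonSubgroupOf p S := by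
  obtain ⟨A, hA⟩ := exists_maxIn (p := p) S
  have hJ : ∀ B ∈ maxIn p S, B ≤ P := fun B hB =>
    le_trans (by rw [thompsonSubgroupOf_eq]; exact le_sSup hB) h1
  have e : maxIn p P = maxIn p S := by
    ext B
    refine ⟨fun h => ⟨h.1.trans h2, h.2.1, fun D hD hD' => (hA.2.2 D hD hD').trans (h.2.2 A (hJ A hA) hA.2.1)⟩,
      fun h => ⟨hJ B h, h.2.1, fun D hD hD' => h.2.2 D (hD.trans h2) hD'⟩⟩
  rw [thompsonSubgroupOf_eq, thompsonSubgroupOf_eq, e]

/-- `W(S)` is normal. -/
theorem stableNormalClosure_normal (hst : IsActionPStable p G)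
    (hc : centralizer (pCore p G : Set G) ≤ pCore p G) (S : Sylow p G) :
    ((stableNormalClosure p ↥(S : Subgroup G)).map (S : Subgroup G).subtype).Normal := by
  set W₀ := stableNormalClosure p ↥(S : Subgroup G) with hW₀
  set W := W₀.map (S : Subgroup G).subtype with hW
  set N := normalizer (thompsonSubgroupOf p (S : Subgroup G) : Set G) with hN
  set Q := pCore p G with hQ
  have hSN : (S : Subgroup G) ≤ N :=
    le_normalizer.trans (normalizer_le_normalizer_thompsonSubgroupOf _)
  have hWS : W ≤ (S : Subgroup G) := map_subtype_le _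
  have hQS : ∀ T : Sylow p G, Q ≤ (T : Subgroup G) := CfsgLib.Fitting.pCore_le_sylow
  have hWN : N ≤ normalizer (W : Set G) := by
    have hn := stableNormalClosure_map_normal (isStableEmbedding_normalizer hst hc S hSN)
    refine Subgroup.le_normalizer_iff.mpr fun g hg w hw => ?_
    obtain ⟨w₀, hw₀, rfl⟩ := hw
    obtain ⟨v, hv, e⟩ := hn.conj_mem _ (mem_map_of_mem (inclusion hSN) hw₀) ⟨g, hg⟩
    exact ⟨v, hv, congrArg Subtype.val e⟩
  have hWe : IsElementaryAbelian p W := by
    refine elab_map _ (elab_mono (elab_omegaOne ?_) stableNormalClosure_le)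
    intro x hx y hy
    exact mem_centralizer_iff.mp hy.2 x hx.1
  have hWQ : W ≤ Q := by
    intro w hw
    refine mem_pCore_of_section hst hc (le_bot_iff.mp ?_)
    have h1 : ⁅Q, zpowers w⁆ ≤ W := by
      refine le_trans (commutator_mono le_rfl (zpowers_le.mpr hw)) ?_
      exact
        commutator_le.mpr fun q hq v hv => by
          rw [commutatorElement_def]
          exact mul_mem ((mem_normalizer_iff.mp ((hWN.trans' hSN) (hQS S hq)) v).mp hv) (inv_mem hv)
    refine le_trans (commutator_mono h1 (zpowers_le.mpr hw)) (le_of_eq ?_)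
    exact commutator_eq_bot_iff_le_centralizer.mpr (elab_le_centralizer hWe)
  -- quadratic elements of `S` on `W` centralise it
  have hkey : ∀ s ∈ (S : Subgroup G), (∀ v ∈ W, ⁅v, s⁆ * s = s * ⁅v, s⁆) → ∀ v ∈ W, Commute s v := by
    rintro s hs hq _ ⟨v, hv, rfl⟩
    have h0 : ⁅⁅W₀, zpowers (⟨s, hs⟩ : (S : Subgroup G))⁆, zpowers (⟨s, hs⟩ : (S : Subgroup G))⁆ = ⊥ := by
      refine (quadratic_iff _ _).mpr fun u hu => Subtype.ext ?_
      exact hq _ (mem_map_of_mem _ hu)
    have h1 := commutator_eq_bot_iff_le_centralizer.mp (quadratic_imp_central _ h0) hv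
    exact (congrArg Subtype.val (mem_centralizer_iff.mp h1 ⟨s, hs⟩ (mem_zpowers _)) :)
  -- the normal closure is elementary abelian
  set V := normalClosure (W : Set G) with hV
  have hVQ : V ≤ Q := normalClosure_le_normal hWQ
  have hVe : IsElementaryAbelian p V := by
    have hconj : ∀ g : G, ∀ w ∈ W, ∀ v ∈ W, Commute (g * w * g⁻¹) v := by
      intro g w hw v hv
      have hyQ : g * w * g⁻¹ ∈ Q := (inferInstance : Q.Normal).conj_mem w (hWQ hw) g
      refine hkey _ (hQS S hyQ) (fun u hu => ?_) v hv
      have huQ : g⁻¹ * u * g ∈ Q := by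
        simpa using (inferInstance : Q.Normal).conj_mem u (hWQ hu) g⁻¹
      have h1 : g⁻¹ * u * g * w * (g⁻¹ * u * g)⁻¹ ∈ W :=
        (mem_normalizer_iff.mp ((hWN.trans' hSN) (hQS S huQ)) w).mp hw
      have h2 : Commute (g⁻¹ * u * g * w * (g⁻¹ * u * g)⁻¹ * w⁻¹) w :=
        elab_commute hWe (mul_mem h1 (inv_mem hw)) hw
      have h3 := h2.map (MulAut.conj g).toMonoidHom
      convert h3.eq using 1 <;>
        simp only [MulEquiv.coe_toMonoidHom, MulAut.conj_apply, commutatorElement_def] <;> group
    have hgen : ∀ x ∈ Group.conjugatesOfSet (W : Set G), ∀ y ∈ Group.conjugatesOfSet (W : Set G),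
        x * y = y * x := by
      intro x hx y hy
      obtain ⟨w, hw, hwx⟩ := Group.mem_conjugatesOfSet_iff.mp hx
      obtain ⟨v, hv, hvy⟩ := Group.mem_conjugatesOfSet_iff.mp hy
      obtain ⟨g, rfl⟩ := isConj_iff.mp hwx
      obtain ⟨h, rfl⟩ := isConj_iff.mp hvy
      have h3 := (hconj (h⁻¹ * g) w hw v hv).map (MulAut.conj h).toMonoidHom
      convert h3.eq using 1 <;> simp only [MulEquiv.coe_toMonoidHom, MulAut.conj_apply] <;> group
    have hcomm := isMulCommutative_closure hgen
    refine ⟨hcomm, fun x hx => ?_⟩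
    induction hx using closure_induction with
    | mem y hy =>
      obtain ⟨w, hw, hwy⟩ := Group.mem_conjugatesOfSet_iff.mp hy
      obtain ⟨g, rfl⟩ := isConj_iff.mp hwy
      rw [conj_pow, hWe.2 w hw, mul_one, mul_inv_cancel]
    | one => simp
    | mul y z hy hz ihy ihz =>
      have : Commute y z := setLike_mul_comm hy hz
      rw [this.mul_pow, ihy, ihz, one_mul]
    | inv y _ ih => rw [inv_pow, ih, inv_one]
  haveI hVn : V.Normal := normalClosure_normal
  have hWV : W ≤ V := subset_normalClosure
  set C := centralizer (V : Set G) with hC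
  haveI hCn : C.Normal := centralizer_normal_of_normal V
  obtain ⟨hCD, k, hk⟩ := comap_pCore_facts (p := p) C
  have hDle := CfsgLib.PLocalCore.le_sup_sylow_inf hCD hk S
  -- quadratic elements centralise `V`
  have hquad : ∀ a : G, (∀ v ∈ V, ⁅v, a⁆ * a = a * ⁅v, a⁆) → a ∈ C := by
    intro a ha
    have hVC : V ≤ centralizer ({a} : Set G) := by
      rw [hV]
      refine closure_le _ |>.mpr fun x hx => ?_
      obtain ⟨w, hw, hwx⟩ := Group.mem_conjugatesOfSet_iff.mp hx
      obtain ⟨g, rfl⟩ := isConj_iff.mp hwx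
      rw [SetLike.mem_coe, mem_centralizer_singleton_iff]
      set y := g⁻¹ * a * g with hy
      have hyq : ∀ v ∈ V, ⁅v, y⁆ * y = y * ⁅v, y⁆ := fun v hv => by
        have e := ha _ (hVn.conj_mem v hv g)
        have e' := congrArg (fun t => g⁻¹ * t * g) e
        simp only [hy, commutatorElement_def] at e' ⊢
        convert e' using 1 <;> group
      have hyD : y ∈ (pCore p (G ⧸ C)).comap (QuotientGroup.mk' C) :=
        hst.1 V hVe y ((quadratic_iff V y).mpr hyq)
      have h1 := hDle hyD
      rw [← SetLike.mem_coe, Subgroup.normal_mul] at h1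
      obtain ⟨c, hc', σ, hσ, hcσ⟩ := h1
      have hact : ∀ v ∈ V, y * v * y⁻¹ = σ * v * σ⁻¹ := by
        intro v hv
        have hv' := hVn.conj_mem v hv σ
        calc y * v * y⁻¹ = c * (σ * v * σ⁻¹) * c⁻¹ := by rw [← hcσ]; group
          _ = _ := by rw [← mem_centralizer_iff.mp hc' _ hv', mul_inv_cancel_right]
      have hσW : ∀ v ∈ W, Commute σ v := by
        refine hkey σ hσ.1 fun v hv => ?_
        have hv' := hWV hv
        have ecomm : ⁅v, σ⁆ = ⁅v, y⁆ := by
          rw [commutatorElement_def, commutatorElement_def,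
            show v * y * v⁻¹ * y⁻¹ = v * (y * v⁻¹ * y⁻¹) by group, hact _ (inv_mem hv')]
          group
        have hmem : ⁅v, y⁆ ∈ V :=
          CfsgLib.Offender.commutator_mem_of_normalizer ((normalizer_eq_top (H := V)).symm ▸ mem_top y) hv'
        have e' : y * ⁅v, y⁆ * y⁻¹ = ⁅v, y⁆ := by rw [← hyq v hv', mul_inv_cancel_right]
        rw [hact _ hmem, mul_inv_eq_iff_eq_mul] at e'
        rw [ecomm]
        exact e'.symm
      have hwy : y * w = w * y := by
        have := hact w (hWV hw)
        rw [(hσW w hw).eq, mul_inv_cancel_right] at this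
        exact mul_inv_eq_iff_eq_mul.mp this
      calc g * w * g⁻¹ * a = g * (w * y) * g⁻¹ := by rw [hy]; group
        _ = g * (y * w) * g⁻¹ := by rw [hwy]
        _ = a * (g * w * g⁻¹) := by rw [hy]; group
    exact mem_centralizer_iff.mpr fun v hv => mem_centralizer_singleton_iff.mp (hVC hv)
  -- the Thompson subgroup centralises `V`
  have hVS : V ≤ (S : Subgroup G) := hVQ.trans (hQS S)
  have hJC : thompsonSubgroupOf p (S : Subgroup G) ≤ C := by
    rw [thompsonSubgroupOf, map_le_iff_le_comap]
    refine sSup_le fun A hA => ?_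
    set V' := V.subgroupOf (S : Subgroup G) with hV'
    have hV'e : IsElementaryAbelian p V' := elab_subgroupOf hVe _
    haveI : V'.Normal := inferInstance
    obtain ⟨h1, h2, h3⟩ := CfsgLib.Offender.maxE_replacement hV'e
      ((le_top).trans_eq (normalizer_eq_top (H := V')).symm) hA
    have hbot : ⁅V', A⁆ = ⊥ := by
      by_contra hne
      refine h3 hne ?_
      rw [commutator_eq_bot_iff_le_centralizer]
      intro v hv
      rw [mem_centralizer_iff]
      intro b hb
      have hbC : (b : G) ∈ C := by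
        refine hquad _ fun u hu => ?_
        exact (congrArg Subtype.val (CfsgLib.Offender.quadratic_fixed h2
          (show (⟨u, hVS hu⟩ : (S : Subgroup G)) ∈ V' from hu) hb hb) :)
      exact Subtype.ext (mem_centralizer_iff.mp hbC _ hv).symm
    intro a ha
    rw [mem_comap, hC, mem_centralizer_iff]
    intro v hv
    exact (congrArg Subtype.val (mem_centralizer_iff.mp
      (commutator_eq_bot_iff_le_centralizer.mp hbot (show (⟨v, hVS hv⟩ : (S : Subgroup G)) ∈ V' from hv))
      a ha) :).symm
  -- Frattini argument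
  set P := (S : Subgroup G) ⊓ C with hP
  obtain ⟨T, hT⟩ : ∃ T : Sylow p C, (T : Subgroup C) = P.subgroupOf C := by
    have hp : IsPGroup p (P.subgroupOf C) :=
      ((S.2.to_le (inf_le_left : P ≤ (S : Subgroup G)))).comap_subtype
    refine ⟨hp.toSylow ?_, rfl⟩
    intro hd
    have e : P.relIndex C ∣ (S : Subgroup G).index := by
      rw [hP, inf_relIndex_right]
      exact CfsgLib.PLocalCore.relIndex_dvd_index_of_normal_right _ C
    exact S.not_dvd_index' index_ne_zero_of_finite (hd.trans e)
  have htop := Sylow.normalizer_sup_eq_top T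
  have hPT : (T : Subgroup C).map C.subtype = P := by
    rw [hT, subgroupOf_map_subtype, inf_of_le_left inf_le_right]
  rw [← normalizer_eq_top_iff, eq_top_iff, ← htop]
  refine sup_le ?_ ?_
  · refine le_trans ?_ hWN
    have hJP : thompsonSubgroupOf p P = thompsonSubgroupOf p (S : Subgroup G) :=
      thompsonSubgroupOf_eq_of_between (le_inf (thompsonSubgroupOf_le _) hJC) inf_le_left
    have := normalizer_le_normalizer_thompsonSubgroupOf (p := p) P
    rw [hJP] at this
    intro g hg
    refine this ?_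
    rw [← hPT]
    exact hg
  · intro c hc'
    refine centralizer_le_normalizer _ (mem_centralizer_iff.mpr fun w hw => ?_)
    exact mem_centralizer_iff.mp hc' w (hWV hw)

end CfsgLib.StableNormal
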