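/-
Groups without a subgroup mapping onto SL₂(p) are p-stable in the action sense.
-/
import Cfsg.Agent.PLocal.StableNormal
import Cfsg.Agent.ZJ.PStable
import Cfsg.Agent.Solvable.PGroupBasic

set_option autoImplicit false

namespace CfsgLib.ActionStable

open Subgroup Cfsg CfsgLib.Thompson
open scoped commutatorElement

variable {G : Type*} [Group G] {p : ℕ}

/-- No subgroup of `G` maps onto `SL₂(p)`. -/
def SL2Free (p : ℕ) (G : Type*) [Group G] : Prop :=
  ∀ (K : Subgroup G) (f : K →* Matrix.SpecialLinearGroup (Fin 2) (ZMod p)), ¬ Function.Surjective f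

theorem SL2Free.subgroup (h : SL2Free p G) (H : Subgroup G) : SL2Free p H := fun K f hf =>
  h (K.map H.subtype) (f.comp (K.equivMapOfInjective H.subtype H.subtype_injective).symm.toMonoidHom)
    (hf.comp (MulEquiv.surjective _))

theorem SL2Free.quotient (h : SL2Free p G) (N : Subgroup G) [N.Normal] : SL2Free p (G ⧸ N) :=
  fun K f hf => by
    refine h (K.comap (QuotientGroup.mk' N)) (f.comp ((QuotientGroup.mk' N).subgroupComap K)) ?_
    refine hf.comp fun y => ?_
    obtain ⟨x, hx⟩ := QuotientGroup.mk'_surjective N y.1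
    refine ⟨⟨x, ?_⟩, Subtype.ext hx⟩
    rw [mem_comap, hx]
    exact y.2

variable [Finite G] [Fact p.Prime]

theorem isPStableOn_of_sl2free (hp : p ≠ 2) (hfree : SL2Free p G) (V : Subgroup G) [V.Normal]
    (hV : IsElementaryAbelian p V) : IsPStableOn p V := by
  intro a ha
  refine (CfsgLib.ZJ.pcoreMod_iff _ a).mp ?_
  by_contra h
  have hn : ¬ CfsgLib.ZJ.PCoreMod p ((centralizer (V : Set G)).subgroupOf ⊤)
      (⟨a, mem_top a⟩ : (⊤ : Subgroup G)) := by
    rintro ⟨D, hD, haD, hDp⟩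
    refine h ⟨D.map (⊤ : Subgroup G).subtype, hD.map _ fun x => ⟨⟨x, mem_top x⟩, rfl⟩,
      ⟨_, haD, rfl⟩, ?_⟩
    rintro _ ⟨x, hx, rfl⟩
    obtain ⟨k, hk⟩ := hDp x hx
    exact ⟨k, mem_subgroupOf.mp hk⟩
  obtain ⟨K0, -, ⟨f, hf⟩, -⟩ := CfsgLib.ZJ.sections_of_quadratic hp hV ⊤
    ((le_top).trans_eq (normalizer_eq_top (H := V)).symm) (⟨a, mem_top a⟩ : (⊤ : Subgroup G)) ha hn
  exact hfree K0 f hf

theorem elab_map_frattini_quotient (Q : Subgroup G) [Q.Normal] (hQ : IsPGroup p Q) :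
    IsElementaryAbelian p (Q.map (QuotientGroup.mk' ((frattini ↥Q).map Q.subtype))) := by
  obtain ⟨hc, hpw⟩ := CfsgLib.PGroupBasic.commutator_pow_le_frattini hQ
  refine ⟨⟨⟨fun x y => ?_⟩⟩, ?_⟩
  · obtain ⟨_, a, ha, rfl⟩ := x
    obtain ⟨_, b, hb, rfl⟩ := y
    apply Subtype.ext
    show QuotientGroup.mk' _ a * QuotientGroup.mk' _ b = QuotientGroup.mk' _ b * QuotientGroup.mk' _ a
    rw [← map_mul, ← map_mul, QuotientGroup.mk'_apply, QuotientGroup.mk'_apply, QuotientGroup.eq]
    refine ⟨⁅(⟨b, hb⟩ : Q)⁻¹, (⟨a, ha⟩ : Q)⁻¹⁆, hc (commutator_mem_commutator (mem_top _) (mem_top _)), ?_⟩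
    simp [commutatorElement_def, mul_assoc]
  · rintro _ ⟨a, ha, rfl⟩
    rw [← map_pow]
    exact (QuotientGroup.eq_one_iff _).mpr ⟨(⟨a, ha⟩ : Q) ^ p, hpw _, by simp⟩

theorem isActionPStable_of_sl2free (hp : p ≠ 2) (hfree : SL2Free p G) : IsActionPStable p G := by
  refine ⟨fun V _ hV => isPStableOn_of_sl2free hp hfree V hV, ?_, ?_⟩
  · intro a ha
    set Q := pCore p G with hQ
    set Φ := (frattini ↥Q).map Q.subtype with hΦ
    set π := QuotientGroup.mk' Φ with hπ
    haveI : (Q.map π).Normal := (inferInstance : Q.Normal).map π (QuotientGroup.mk'_surjective Φ)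
    have hV : IsElementaryAbelian p (Q.map π) :=
      elab_map_frattini_quotient Q (CfsgLib.Solvable.isPGroup_pCore p)
    have hq : ⁅⁅Q.map π, zpowers (π a)⁆, zpowers (π a)⁆ = ⊥ := by
      rw [← MonoidHom.map_zpowers, ← map_commutator, ← map_commutator, Subgroup.map_eq_bot_iff,
        hπ, QuotientGroup.ker_mk']
      exact ha
    have h := isPStableOn_of_sl2free hp (hfree.quotient Φ) (Q.map π) hV (π a) hq
    obtain ⟨hle, k, hk⟩ := CfsgLib.StableNormal.comap_pCore_facts (p := p)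
      (centralizer ((Q.map π : Subgroup (G ⧸ Φ)) : Set (G ⧸ Φ)))
    refine ⟨_, ((inferInstance : (pCore p ((G ⧸ Φ) ⧸ centralizer ((Q.map π : Subgroup (G ⧸ Φ)) : Set
      (G ⧸ Φ)))).Normal).comap (QuotientGroup.mk' _)).comap π, comap_mono hle, ⟨k, ?_⟩, h⟩
    rw [sectionKernel, relIndex_comap, map_comap_eq_self_of_surjective (QuotientGroup.mk'_surjective Φ)]
    exact hk
  · intro S V _ hV
    refine isPStableOn_of_sl2free hp (hfree.subgroup _) V ?_
    have he : IsElementaryAbelian p ((omegaCenterThompson p ↥(S : Subgroup G)).map (S : Subgroup G).subtype) := by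
      refine elab_map _ (elab_omegaOne ?_)
      intro x hx y hy
      exact mem_centralizer_iff.mp hy.2 x hx.1
    rw [← comap_map_eq_self_of_injective (normalizer (thompsonSubgroupOf p (S : Subgroup G) : Set G)).subtype_injective V]
    exact elab_subgroupOf (elab_mono he hV) _

end CfsgLib.ActionStable
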