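/-
Best offenders in a faithful group with self-centralizing p'-core.
-/
import Cfsg.Agent.PLocal.Offender
import Cfsg.Agent.Signalizer.Basic
import Cfsg.Agent.LocalB.CharP
import Cfsg.Agent.Solvable.Basics

set_option autoImplicit false

namespace CfsgLib.FFOffender

open Subgroup Cfsg CfsgLib.Thompson
open scoped commutatorElement

variable {G : Type*} [Group G] [Finite G] {p : ℕ} [Fact p.Prime]

/-- `C_V(A)`. -/
abbrev cv (V A : Subgroup G) : Subgroup G := V ⊓ centralizer (A : Set G)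

theorem card_eq_mul {B A : Subgroup G} (h : B ≤ A) :
    B.relIndex A * Nat.card B = Nat.card A := by
  rw [← relIndex_bot_left, ← relIndex_bot_left, mul_comm]
  exact relIndex_mul_relIndex _ _ _ bot_le h

theorem relIndex_eq_or {A B : Subgroup G} (hA : IsPGroup p A) (hB : B ≤ A)
    (h : B.relIndex A ≤ p) : B = A ∨ B.relIndex A = p := by
  obtain ⟨k, hk⟩ := IsPGroup.iff_card.mp hA
  obtain ⟨i, -, hi⟩ := (Nat.dvd_prime_pow (Fact.out : p.Prime)).1
    (hk ▸ Dvd.intro _ (card_eq_mul hB) : B.relIndex A ∣ p ^ k)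
  rcases Nat.eq_zero_or_pos i with rfl | hpos
  · exact Or.inl (le_antisymm hB (relIndex_eq_one.mp hi))
  · refine Or.inr (le_antisymm h (hi ▸ ?_))
    exact Nat.le_self_pow hpos.ne' p

variable {V K : Subgroup G}

theorem cv_lt {A B : Subgroup G} (hV : IsPGroup p V) (hA : IsElementaryAbelian p A)
    (hAV : A ≤ normalizer (V : Set G)) (hKV : K ≤ normalizer (V : Set G))
    (hKf : K ⊓ centralizer (V : Set G) = ⊥) (hAK : A ≤ normalizer (K : Set G))
    (hKp : (Nat.card K).Coprime p) (hB : B ≤ A)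
    (h : ¬ K ⊓ centralizer (B : Set G) ≤ centralizer (A : Set G)) : cv V A < cv V B := by
  refine lt_of_le_of_ne (inf_le_inf_left _ (centralizer_le hB)) fun e => h ?_
  intro k hk
  rw [mem_centralizer_iff]
  intro a ha
  set x := k * a * k⁻¹ * a⁻¹ with hx
  have hxK : x ∈ K := by
    rw [hx, show k * a * k⁻¹ * a⁻¹ = k * (a * k⁻¹ * a⁻¹) by group]
    exact mul_mem hk.1 ((mem_normalizer_iff.mp (hAK ha) k⁻¹).mp (inv_mem hk.1))
  have hBa : ∀ π ∈ B, Commute π a := fun π hπ => elab_commute hA (hB hπ) ha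
  have hBk : ∀ π ∈ B, Commute π k := fun π hπ => mem_centralizer_iff.mp hk.2 π hπ
  have h1 : ∀ π ∈ B, Commute π x := fun π hπ =>
    (((hBk π hπ).mul_right (hBa π hπ)).mul_right (hBk π hπ).inv_right).mul_right (hBa π hπ).inv_right
  have h2 : ∀ r ∈ V, (∀ π ∈ B, π * r = r * π) → Commute x r := by
    intro r hr hfix
    have hrA : ∀ s ∈ V, (∀ π ∈ B, π * s = s * π) → Commute a s := fun s hs hs' => by
      have : s ∈ cv V A := e ▸ ⟨hs, mem_centralizer_iff.mpr hs'⟩
      exact mem_centralizer_iff.mp this.2 a ha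
    have hr' : k⁻¹ * r * k ∈ V := (mem_normalizer_iff''.mp (hKV hk.1) r).mp hr
    have h3 : Commute a (k⁻¹ * r * k) := hrA _ hr' fun π hπ =>
      (((hBk π hπ).inv_right.mul_right (hfix π hπ)).mul_right (hBk π hπ)).eq
    have h4 := (hrA r hr hfix).inv_left
    have h5 : Commute (k * a * k⁻¹) r := by
      show k * a * k⁻¹ * r = r * (k * a * k⁻¹)
      calc k * a * k⁻¹ * r = k * (a * (k⁻¹ * r * k)) * k⁻¹ := by group
        _ = k * (k⁻¹ * r * k * a) * k⁻¹ := by rw [h3.eq]
        _ = r * (k * a * k⁻¹) := by group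
    exact h5.mul_left h4
  have hxV : x ∈ centralizer (V : Set G) := mem_centralizer_iff.mpr fun r hr =>
    (CfsgLib.LocalB.commute_of_pxq (elab_isPGroup (elab_mono hA hB)) hV (hB.trans hAV)
      (hKp.coprime_dvd_left (K.orderOf_dvd_natCard hxK)) (hKV hxK) h1 h2 r hr).eq.symm
  have hx1 : x = 1 := mem_bot.mp (hKf ▸ ⟨hxK, hxV⟩)
  rw [hx, mul_inv_eq_one, mul_inv_eq_iff_eq_mul] at hx1
  exact hx1.symm

theorem exists_active {A : Subgroup G} (hA : IsElementaryAbelian p A)
    (hAK : A ≤ normalizer (K : Set G)) (hKp : (Nat.card K).Coprime p) {a : G} (ha : a ∈ A)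
    (haK : a ∉ centralizer (K : Set G)) :
    ∃ B ≤ A, B.relIndex A = p ∧ a ∉ B ∧ ¬ K ⊓ centralizer (B : Set G) ≤ centralizer (A : Set G) := by
  by_contra hcon
  push Not at hcon
  refine haK (mem_centralizer_iff.mpr fun k hk => mem_centralizer_singleton_iff.mp ?_)
  refine CfsgLib.Signalizer.le_of_forall_hyperplane hA hAK
    ((Fact.out : p.Prime).coprime_iff_not_dvd.mp hKp.symm) (Y := centralizer ({a} : Set G))
    (fun B hB hi => ?_) hk
  by_cases haB : a ∈ B
  · exact inf_le_right.trans (centralizer_le (Set.singleton_subset_iff.mpr haB))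
  rcases relIndex_eq_or (elab_isPGroup hA) hB hi with rfl | hi'
  · exact absurd ha haB
  · exact (hcon B hB hi' haB).trans (centralizer_le (Set.singleton_subset_iff.mpr ha))

theorem mul_le_card_cv {A B : Subgroup G} (hV : IsPGroup p V) (h : cv V A < cv V B) :
    p * Nat.card (cv V A) ≤ Nat.card (cv V B) := by
  obtain ⟨i, hi⟩ := IsPGroup.iff_card.mp (hV.to_le (inf_le_left : cv V A ≤ V))
  obtain ⟨j, hj⟩ := IsPGroup.iff_card.mp (hV.to_le (inf_le_left : cv V B ≤ V))
  have hne : ¬ j ≤ i := fun hji => h.ne (CfsgLib.Solvable.eq_of_le_of_card_le h.le (by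
    rw [hi, hj]; exact Nat.pow_le_pow_right (Fact.out : p.Prime).pos hji))
  rw [hi, hj, ← pow_succ']
  exact Nat.pow_le_pow_right (Fact.out : p.Prime).pos (by omega)

/-- `|A| |C_V(A)| ≤ |V|` for elementary abelian `A` faithful on the p'-group `K`. -/
theorem card_mul_le {A : Subgroup G} (hV : IsPGroup p V) (hKV : K ≤ normalizer (V : Set G))
    (hKf : K ⊓ centralizer (V : Set G) = ⊥) (hKp : (Nat.card K).Coprime p)
    (hA : IsElementaryAbelian p A) (hAV : A ≤ normalizer (V : Set G))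
    (hAK : A ≤ normalizer (K : Set G)) (hAf : A ⊓ centralizer (K : Set G) = ⊥) :
    Nat.card A * Nat.card (cv V A) ≤ Nat.card V := by
  induction hn : Nat.card A using Nat.strong_induction_on generalizing A with
  | _ n ih =>
    subst hn
    by_cases hA1 : A = ⊥
    · subst hA1
      rw [card_bot, one_mul]
      exact Subgroup.card_le_of_le inf_le_left
    obtain ⟨a, ha, ha1⟩ := A.ne_bot_iff_exists_ne_one.mp hA1 |> fun ⟨x, hx⟩ =>
      (⟨x.1, x.2, fun e => hx (Subtype.ext e)⟩ : ∃ a, a ∈ A ∧ a ≠ 1)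
    obtain ⟨B, hB, hi, -, hact⟩ := exists_active hA hAK hKp ha
      (fun hc => ha1 (mem_bot.mp (hAf ▸ ⟨ha, hc⟩)))
    have hlt := mul_le_card_cv hV (cv_lt hV hA hAV hKV hKf hAK hKp hB hact)
    have hc := card_eq_mul hB
    rw [hi] at hc
    have hBA : Nat.card B < Nat.card A := by
      rw [← hc]
      exact lt_mul_of_one_lt_left Nat.card_pos (Fact.out : p.Prime).one_lt
    have := ih _ hBA (elab_mono hA hB) (hB.trans hAV) (hB.trans hAK)
      (le_bot_iff.mp ((inf_le_inf_right _ hB).trans hAf.le)) rfl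
    calc Nat.card A * Nat.card (cv V A) = Nat.card B * (p * Nat.card (cv V A)) := by rw [← hc]; ring
      _ ≤ Nat.card B * Nat.card (cv V B) := Nat.mul_le_mul_left _ hlt
      _ ≤ _ := this

/-- A faithful group with self-centralizing p'-core, on an elementary abelian p-group. -/
structure Setting (p : ℕ) (V H : Subgroup G) : Prop where
  elab_V : IsElementaryAbelian p V
  le_norm : H ≤ normalizer (V : Set G)
  faith : H ⊓ centralizer (V : Set G) = ⊥
  self : centralizer (pPrimeCore p ↥H : Set ↥H) ≤ pPrimeCore p ↥H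

/-- Minimal best offenders acting nontrivially. -/
def IsMin (p : ℕ) (V A : Subgroup G) : Prop :=
  IsBestOffenderOn p V A ∧ ⁅V, A⁆ ≠ ⊥ ∧
    ∀ B : Subgroup G, B ≤ A → IsBestOffenderOn p V B → ⁅V, B⁆ ≠ ⊥ → B = A

variable {H A : Subgroup G} (S : Setting p V H)
include S

theorem Setting.comm_ne_bot (hAH : A ≤ H) (hA1 : A ≠ ⊥) : ⁅V, A⁆ ≠ ⊥ := by
  intro h
  rw [commutator_comm, commutator_eq_bot_iff_le_centralizer] at h
  exact hA1 (le_bot_iff.mp ((le_inf hAH h).trans S.faith.le))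

theorem Setting.elab_of (hAH : A ≤ H) (hA : IsBestOffenderOn p V A) : IsElementaryAbelian p A := by
  refine ⟨⟨⟨fun x y => Subtype.ext ?_⟩⟩, fun a ha => ?_⟩
  · have h : ⁅(x : G), (y : G)⁆ ∈ H ⊓ centralizer (V : Set G) :=
      ⟨(commutator_le_self A |>.trans hAH) (commutator_mem_commutator x.2 y.2),
        hA.2.1 (commutator_mem_commutator x.2 y.2)⟩
    rw [S.faith, mem_bot] at h
    exact commutatorElement_eq_one_iff_mul_comm.mp h
  · exact mem_bot.mp (S.faith ▸ ⟨pow_mem (hAH ha) p, hA.2.2 a ha⟩)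

theorem Setting.core_inf : (pPrimeCore p ↥H).map H.subtype ⊓ centralizer (V : Set G) = ⊥ :=
  le_bot_iff.mp ((inf_le_inf_right _ (map_subtype_le _)).trans S.faith.le)

theorem core_coprime : (Nat.card ↥((pPrimeCore p ↥H).map H.subtype)).Coprime p := by
  rw [card_map_of_injective H.subtype_injective]
  exact CfsgLib.Solvable.coprime_card_pPrimeCore p

omit S in
theorem le_normalizer_core (hAH : A ≤ H) :
    A ≤ normalizer (((pPrimeCore p ↥H).map H.subtype : Subgroup G) : Set G) :=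
  hAH.trans (le_trans (by
    rw [normalizer_eq_top_iff.2 (CfsgLib.Solvable.pPrimeCore_normal p), ← MonoidHom.range_eq_map,
      range_subtype]) (le_normalizer_map H.subtype))

theorem Setting.inf_centralizer_core (hAH : A ≤ H) (hA : IsElementaryAbelian p A) :
    A ⊓ centralizer (((pPrimeCore p ↥H).map H.subtype : Subgroup G) : Set G) = ⊥ := by
  rw [eq_bot_iff_forall]
  rintro a ⟨ha, hc⟩
  have h1 : (⟨a, hAH ha⟩ : H) ∈ pPrimeCore p ↥H := S.self (mem_centralizer_iff.mpr fun k hk =>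
    Subtype.ext (mem_centralizer_iff.mp hc _ (mem_map_of_mem H.subtype hk)))
  refine orderOf_eq_one_iff.mp (Nat.eq_one_of_dvd_coprimes (core_coprime (p := p) S)
    (orderOf_dvd_natCard _ (mem_map_of_mem H.subtype h1)) (orderOf_dvd_of_pow_eq_one (hA.2 a ha)))

theorem Setting.card_le (hAH : A ≤ H) (hA : IsElementaryAbelian p A) :
    Nat.card A * Nat.card (cv V A) ≤ Nat.card V :=
  card_mul_le (elab_isPGroup S.elab_V) ((map_subtype_le _).trans S.le_norm) S.core_inf
    (core_coprime (p := p) S) hA (hAH.trans S.le_norm) (le_normalizer_core hAH)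
    (S.inf_centralizer_core hAH hA)

theorem Setting.card_eq (hAH : A ≤ H) (hA : IsBestOffenderOn p V A) :
    Nat.card A * Nat.card (cv V A) = Nat.card V := by
  refine le_antisymm (S.card_le hAH (S.elab_of hAH hA)) ?_
  have h := hA.1 ⊥ bot_le
  rwa [card_bot, one_mul, coe_bot, inf_eq_left.mpr] at h
  intro v _
  exact mem_centralizer_iff.mpr fun z hz => by rw [Set.mem_singleton_iff.mp hz]; simp

theorem Setting.best_of_eq (hAH : A ≤ H) (hA : IsElementaryAbelian p A)
    (h : Nat.card V ≤ Nat.card A * Nat.card (cv V A)) : IsBestOffenderOn p V A := by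
  refine ⟨fun C hC => (S.card_le (hC.trans hAH) (elab_mono hA hC)).trans h, ?_, fun a ha => ?_⟩
  · rw [show ⁅A, A⁆ = ⊥ from commutator_eq_bot_iff_le_centralizer.mpr (elab_le_centralizer hA)]
    exact bot_le
  · rw [hA.2 a ha]
    exact one_mem _

theorem Setting.exists_hyper (hAH : A ≤ H) (hA : IsBestOffenderOn p V A) {a : G} (ha : a ∈ A)
    (ha1 : a ≠ 1) : ∃ B ≤ A, B.relIndex A = p ∧ a ∉ B ∧ IsBestOffenderOn p V B := by
  have he := S.elab_of hAH hA
  obtain ⟨B, hB, hi, haB, hact⟩ := exists_active he (le_normalizer_core hAH)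
    (core_coprime (p := p) S) ha
    (fun hc => ha1 (mem_bot.mp (S.inf_centralizer_core hAH he ▸ ⟨ha, hc⟩)))
  refine ⟨B, hB, hi, haB, S.best_of_eq (hB.trans hAH) (elab_mono he hB) ?_⟩
  have hlt := mul_le_card_cv (elab_isPGroup S.elab_V) (cv_lt (elab_isPGroup S.elab_V) he
    (hAH.trans S.le_norm) ((map_subtype_le _).trans S.le_norm) S.core_inf
    (le_normalizer_core hAH) (core_coprime (p := p) S) hB hact)
  have hc := card_eq_mul hB
  rw [hi] at hc
  calc Nat.card V = Nat.card A * Nat.card (cv V A) := (S.card_eq hAH hA).symm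
    _ = Nat.card B * (p * Nat.card (cv V A)) := by rw [← hc]; ring
    _ ≤ _ := Nat.mul_le_mul_left _ hlt

theorem Setting.min_card (hAH : A ≤ H) (hA : IsMin p V A) :
    Nat.card A = p ∧ (cv V A).relIndex V = p := by
  have hA1 : A ≠ ⊥ := fun h => hA.2.1 (by rw [h, commutator_bot_right])
  obtain ⟨a, ha⟩ := A.ne_bot_iff_exists_ne_one.mp hA1
  obtain ⟨B, hB, hi, haB, hBb⟩ := S.exists_hyper hAH hA.1 a.2 fun e => ha (Subtype.ext e)
  have hB1 : B = ⊥ := by
    by_contra hB1
    exact haB ((hA.2.2 B hB hBb (S.comm_ne_bot (hB.trans hAH) hB1)).symm ▸ a.2)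
  have hc : Nat.card A = p := by rw [← card_eq_mul hB, hi, hB1, card_bot, mul_one]
  refine ⟨hc, Nat.eq_of_mul_eq_mul_right (Nat.card_pos (α := ↥(cv V A))) ?_⟩
  rw [card_eq_mul (inf_le_left : cv V A ≤ V), ← S.card_eq hAH hA.1, hc]

theorem Setting.isMin_of_card (hAH : A ≤ H) (hA : IsBestOffenderOn p V A)
    (hc : Nat.card A = p) : IsMin p V A := by
  have hA1 : A ≠ ⊥ := fun h => by
    rw [h, card_bot] at hc
    exact (Fact.out : p.Prime).one_lt.ne hc
  refine ⟨hA, S.comm_ne_bot hAH hA1, fun B hB _ hne => ?_⟩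
  rcases (Nat.dvd_prime (Fact.out : p.Prime)).mp (hc ▸ card_dvd_of_le hB) with h | h
  · exact absurd (by rw [eq_bot_of_card_eq B h, commutator_bot_right]) hne
  · exact CfsgLib.Solvable.eq_of_le_of_card_le hB (by rw [h, hc])

theorem Setting.decompose (hAH : A ≤ H) (hA : IsBestOffenderOn p V A) (hA1 : A ≠ ⊥) :
    ∃ (k : ℕ) (B : Fin k → Subgroup G), (∀ i, B i ≤ A ∧ IsMin p V (B i)) ∧ iSupIndep B ∧
      ⨆ i, B i = A := by
  induction hn : Nat.card A using Nat.strong_induction_on generalizing A with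
  | _ n ih =>
    subst hn
    by_cases hc : Nat.card A = p
    · refine ⟨1, fun _ => A, fun _ => ⟨le_rfl, S.isMin_of_card hAH hA hc⟩, fun i => ?_,
        iSup_const⟩
      rw [disjoint_iff, iSup₂_eq_bot.mpr fun j hj => absurd (Subsingleton.elim j i) hj, inf_bot_eq]
    have he := S.elab_of hAH hA
    obtain ⟨a, ha⟩ := A.ne_bot_iff_exists_ne_one.mp hA1
    obtain ⟨B, hB, hi, -, hBb⟩ := S.exists_hyper hAH hA a.2 fun e => ha (Subtype.ext e)
    have hcA := card_eq_mul hB
    rw [hi] at hcA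
    have hB1 : B ≠ ⊥ := fun h => hc (by rw [← hcA, h, card_bot, mul_one])
    obtain ⟨b, hb⟩ := B.ne_bot_iff_exists_ne_one.mp hB1
    obtain ⟨B', hB', hi', hbB', hB'b⟩ := S.exists_hyper hAH hA (hB b.2) fun e => hb (Subtype.ext e)
    have hcA' := card_eq_mul hB'
    rw [hi'] at hcA'
    have hlt : Nat.card B < Nat.card A := by
      rw [← hcA]
      exact lt_mul_of_one_lt_left Nat.card_pos (Fact.out : p.Prime).one_lt
    have hBB' : Nat.card B' = Nat.card B :=
      Nat.eq_of_mul_eq_mul_left (Fact.out : p.Prime).pos (hcA'.trans hcA.symm)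
    have hB'1 : B' ≠ ⊥ := fun h => hB1 (eq_bot_of_card_eq B (by rw [← hBB', h, card_bot]))
    obtain ⟨k', f', hf', -, hs'⟩ := ih _ (hBB' ▸ hlt) (hB'.trans hAH) hB'b hB'1 rfl
    obtain ⟨j, hj⟩ : ∃ j, ¬ f' j ≤ B := by
      by_contra h
      push Not at h
      have hle : B' ≤ B := hs' ▸ iSup_le h
      exact hbB' (CfsgLib.Solvable.eq_of_le_of_card_le hle hBB'.ge ▸ b.2)
    obtain ⟨k, f, hf, hind, hs⟩ := ih _ hlt (hB.trans hAH) hBb hB1 rfl
    set C := f' j with hC
    have hCA : C ≤ A := (hf' j).1.trans hB'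
    have hCc : Nat.card C = p := (S.min_card (hCA.trans hAH) (hf' j).2).1
    have hCB : C ⊓ B = ⊥ := by
      rcases (Nat.dvd_prime (Fact.out : p.Prime)).mp
        (hCc ▸ card_dvd_of_le (inf_le_left : C ⊓ B ≤ C)) with h | h
      · exact eq_bot_of_card_eq _ h
      · exact absurd (inf_eq_left.mp
          (CfsgLib.Solvable.eq_of_le_of_card_le inf_le_left (by rw [h, hCc]))) hj
    have hnorm : ∀ D : Subgroup G, D ≤ A → C ≤ normalizer (D : Set G) := fun D hD =>
      ((hCA.trans (elab_le_centralizer he)).trans (centralizer_le hD)).trans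
        (centralizer_le_normalizer _)
    refine ⟨k + 1, Fin.cons C f, ?_, ?_, ?_⟩
    · refine Fin.cases ⟨hCA, (hf' j).2⟩ (fun i => ?_)
      simpa using ⟨(hf i).1.trans hB, (hf i).2⟩
    · refine Fin.cases ?_ (fun i => ?_)
      · rw [disjoint_iff, eq_bot_iff, Fin.cons_zero, ← hCB]
        refine inf_le_inf_left _ (iSup₂_le (Fin.cases (fun h => absurd rfl h) fun i _ => ?_))
        simpa using (hf i).1
      · rw [disjoint_iff, eq_bot_iff_forall]
        rintro x ⟨hx, hx'⟩
        rw [Fin.cons_succ] at hx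
        have hle : (⨆ l ≠ i.succ, (Fin.cons C f : Fin (k + 1) → Subgroup G) l) ≤
            C ⊔ ⨆ l ≠ i, f l := by
          refine iSup₂_le (Fin.cases (fun _ => by simp) fun l hl => ?_)
          rw [Fin.cons_succ]
          exact le_sup_of_le_right (le_biSup f fun e => hl (congrArg Fin.succ e))
        set D := ⨆ l ≠ i, f l
        have hD : D ≤ B := iSup₂_le fun l _ => (hf l).1
        have hxCD := hle hx'
        rw [← SetLike.mem_coe, coe_mul_of_left_le_normalizer_right _ _ (hnorm D (hD.trans hB))]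
          at hxCD
        obtain ⟨c, hc', d, hd, rfl⟩ := hxCD
        have hc1 : c = 1 := mem_bot.mp (hCB ▸ ⟨hc', by
          simpa using mul_mem ((hf i).1 hx) (inv_mem (hD hd))⟩)
        subst hc1
        exact mem_bot.mp ((disjoint_iff.mp (hind i)) ▸ ⟨hx, by simpa using hd⟩)
    · refine CfsgLib.Solvable.eq_of_le_of_card_le
        (iSup_le (Fin.cases (by simpa using hCA) fun i => by simpa using (hf i).1.trans hB)) ?_
      rw [← hcA, ← hCc, ← CfsgLib.Solvable.card_sup_of_disjoint (hnorm B hB) hCB]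
      refine Subgroup.card_le_of_le (sup_le ?_ (hs ▸ iSup_le fun i => ?_))
      · simpa using le_iSup (Fin.cons C f : Fin (k + 1) → Subgroup G) 0
      · simpa using le_iSup (Fin.cons C f : Fin (k + 1) → Subgroup G) i.succ

end CfsgLib.FFOffender
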