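/-
Transvections in a faithful linear group with a p'-core: each spans an SL₂(p) on a plane.
-/
import Cfsg.Agent.ZJ.QdSection

set_option autoImplicit false
set_option linter.unusedSectionVars false

namespace CfsgLib.FFPlane

open CfsgLib.ZJ Submodule

variable {Γ : Type*} [Group Γ] [Finite Γ] {p : ℕ} [Fact p.Prime] {M : Type*} [AddCommGroup M]
  [Module (ZMod p) M] [Finite M]

/-- `a` acts as the transvection with centre `u` and functional `f`. -/
structure IsTV (ρ : Γ →* Module.End (ZMod p) M) (a : Γ) (u : M) (f : M →ₗ[ZMod p] ZMod p) :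
    Prop where
  ne : u ≠ 0
  surj : ∃ v, f v = 1
  self : f u = 0
  eq : ∀ v, ρ a v = v + f v • u

variable {ρ : Γ →* Module.End (ZMod p) M}

theorem cancel (g : Γ) (v : M) : ρ g (ρ g⁻¹ v) = v := by
  rw [← Module.End.mul_apply, ← map_mul, mul_inv_cancel, map_one, Module.End.one_apply]

theorem cancel' (g : Γ) (v : M) : ρ g⁻¹ (ρ g v) = v := by
  simpa using cancel (ρ := ρ) g⁻¹ v

theorem mul_act (g h : Γ) (v : M) : ρ (g * h) v = ρ g (ρ h v) := by
  rw [map_mul, Module.End.mul_apply]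

theorem IsTV.conj {a : Γ} {u : M} {f : M →ₗ[ZMod p] ZMod p} (h : IsTV ρ a u f) (g : Γ) :
    IsTV ρ (g * a * g⁻¹) (ρ g u) (f ∘ₗ ρ g⁻¹) := by
  refine ⟨fun h0 => h.ne ?_, ?_, ?_, fun v => ?_⟩
  · rw [← cancel' (ρ := ρ) g u, h0, map_zero]
  · obtain ⟨v, hv⟩ := h.surj
    exact ⟨ρ g v, by rw [LinearMap.comp_apply, cancel', hv]⟩
  · rw [LinearMap.comp_apply, cancel', h.self]
  · rw [mul_act, mul_act, h.eq, map_add, map_smul, cancel]
    rfl

theorem IsTV.apply_self {a : Γ} {u : M} {f : M →ₗ[ZMod p] ZMod p} (h : IsTV ρ a u f) :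
    ρ a u = u := by
  rw [h.eq, h.self, zero_smul, add_zero]

theorem IsTV.pow_eq {a : Γ} {u : M} {f : M →ₗ[ZMod p] ZMod p} (h : IsTV ρ a u f) (j : ℕ) (v : M) :
    ρ (a ^ j) v = v + ((j : ZMod p) * f v) • u := by
  induction j with
  | zero => simp
  | succ j ih =>
    rw [pow_succ', mul_act, ih, map_add, map_smul, h.apply_self, h.eq]
    push_cast
    module

theorem IsTV.inv_eq {a : Γ} {u : M} {f : M →ₗ[ZMod p] ZMod p} (h : IsTV ρ a u f) (v : M) :
    ρ a⁻¹ v = v - f v • u := by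
  have e : ρ a (v - f v • u) = v := by
    rw [map_sub, map_smul, h.apply_self, h.eq, add_sub_cancel_right]
  conv_lhs => rw [← e]
  rw [cancel']

theorem IsTV.center_mem {a : Γ} {u u' : M} {f f' : M →ₗ[ZMod p] ZMod p} (h : IsTV ρ a u f)
    (h' : IsTV ρ a u' f') : u' ∈ span (ZMod p) {u} := by
  obtain ⟨v, hv⟩ := h'.surj
  have e := (h.eq v).symm.trans (h'.eq v)
  rw [hv, one_smul, add_right_inj] at e
  exact mem_span_singleton.mpr ⟨_, e⟩

variable (hinj : ∀ g : Γ, ρ g = 1 → g = 1) {K : Subgroup Γ} [K.Normal]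
  (hK : (Nat.card K).Coprime p)

include hinj in
theorem eq_of_act {g h : Γ} (e : ∀ v, ρ g v = ρ h v) : g = h := by
  have h1 : ρ (g⁻¹ * h) = 1 := LinearMap.ext fun v => by
    rw [mul_act, ← e, cancel', Module.End.one_apply]
  exact inv_mul_eq_one.mp (hinj _ h1)

include hinj hK in
/-- Distinct transvections in the same coset of the p'-core move each other's centres. -/
theorem pair {a b : Γ} {ua ub : M} {fa fb : M →ₗ[ZMod p] ZMod p} (ha : IsTV ρ a ua fa)
    (hb : IsTV ρ b ub fb) (hab : a * b⁻¹ ∈ K) (hne : a ≠ b) : fa ub ≠ 0 ∧ fb ua ≠ 0 := by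
  suffices key : ∀ {a b : Γ} {ua ub : M} {fa fb : M →ₗ[ZMod p] ZMod p}, IsTV ρ a ua fa →
      IsTV ρ b ub fb → a * b⁻¹ ∈ K → fb ua = 0 → a = b by
    refine ⟨fun h0 => hne (key hb ha ?_ h0).symm, fun h0 => hne (key ha hb hab h0)⟩
    simpa using inv_mem hab
  intro a b ua ub fa fb ha hb hab h0
  have hx : ∀ v, ρ (a * b⁻¹) v = v + ((fa v - fb v * fa ub) • ua - fb v • ub) := by
    intro v
    rw [mul_act, hb.inv_eq, map_sub, map_smul, ha.eq, ha.eq]
    module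
  set N := ρ (a * b⁻¹) - 1 with hN
  have hNv : ∀ v, N v = (fa v - fb v * fa ub) • ua - fb v • ub := fun v => by
    rw [hN, LinearMap.sub_apply, hx, Module.End.one_apply, add_sub_cancel_left]
  have hN1 : N ua = 0 := by simp [hNv, ha.self, h0]
  have hN2 : N ub = fa ub • ua := by simp [hNv, hb.self]
  have hN3 : N ^ 3 = 0 := LinearMap.ext fun v => by
    rw [pow_succ, pow_two, Module.End.mul_apply, Module.End.mul_apply, hNv v]
    simp only [map_sub, map_smul, hN1, hN2, smul_zero, zero_sub, map_neg, neg_zero,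
      LinearMap.zero_apply]
  haveI : Nontrivial M := ⟨⟨ua, 0, ha.ne⟩⟩
  haveI : CharP (Module.End (ZMod p) M) p :=
    charP_of_injective_algebraMap (RingHom.injective (algebraMap (ZMod p) (Module.End (ZMod p) M))) p
  have h3 : 3 ≤ p ^ 2 := le_trans (by norm_num) (Nat.pow_le_pow_left (Fact.out : p.Prime).two_le 2)
  have hpow : ρ ((a * b⁻¹) ^ p ^ 2) = 1 := by
    rw [map_pow, show ρ (a * b⁻¹) = N + 1 by rw [hN, sub_add_cancel],
      add_pow_char_pow_of_commute _ _ (Commute.one_right N), one_pow]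
    rw [show N ^ p ^ 2 = N ^ 3 * N ^ (p ^ 2 - 3) by rw [← pow_add, Nat.add_sub_cancel' h3], hN3,
      zero_mul, zero_add]
  have h1 := orderOf_dvd_of_pow_eq_one (hinj _ hpow)
  have h2 : orderOf (a * b⁻¹) = 1 := Nat.eq_one_of_dvd_coprimes
    ((hK.pow_right 2)) (K.orderOf_dvd_natCard hab) h1
  exact mul_inv_eq_one.mp (orderOf_eq_one_iff.mp h2)

/-- A transvection together with a conjugate under the p'-core not equal to it. -/
structure Frame (ρ : Γ →* Module.End (ZMod p) M) (K : Subgroup Γ) where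
  a : Γ
  k : Γ
  ua : M
  fa : M →ₗ[ZMod p] ZMod p
  tv : IsTV ρ a ua fa
  hk : k ∈ K
  ne : k * a * k⁻¹ ≠ a

variable (F : Frame ρ K)

/-- The conjugate. -/
def Frame.b : Γ := F.k * F.a * F.k⁻¹
/-- Its centre. -/
def Frame.ub : M := ρ F.k F.ua
/-- Its functional. -/
def Frame.fb : M →ₗ[ZMod p] ZMod p := F.fa ∘ₗ ρ F.k⁻¹
/-- The plane. -/
def Frame.W : Submodule (ZMod p) M := span (ZMod p) {F.ua, F.ub}
/-- The fixed complement. -/
def Frame.C : Submodule (ZMod p) M := LinearMap.ker F.fa ⊓ LinearMap.ker F.fb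
/-- The group generated by the pair. -/
def Frame.L : Subgroup Γ := Subgroup.closure {F.a, F.b}

theorem Frame.tvb : IsTV ρ F.b F.ub F.fb := F.tv.conj F.k

theorem coset_conj {a k : Γ} (hk : k ∈ K) : k * a * k⁻¹ * a⁻¹ ∈ K := by
  rw [show k * a * k⁻¹ * a⁻¹ = k * (a * k⁻¹ * a⁻¹) by group]
  exact mul_mem hk ((inferInstance : K.Normal).conj_mem _ (inv_mem hk) a)

theorem Frame.hab : F.a * F.b⁻¹ ∈ K := by
  have h := inv_mem (coset_conj (a := F.a) F.hk)
  simpa [Frame.b, mul_assoc] using h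

theorem Frame.ua_mem : F.ua ∈ F.W := subset_span (by simp)

theorem Frame.ub_mem : F.ub ∈ F.W := subset_span (by simp)

theorem Frame.mem_C {v : M} : v ∈ F.C ↔ F.fa v = 0 ∧ F.fb v = 0 := Iff.rfl

theorem Frame.a_mem : F.a ∈ F.L := Subgroup.subset_closure (by simp)

theorem Frame.b_mem : F.b ∈ F.L := Subgroup.subset_closure (by simp)

include hinj hK in
theorem Frame.fa_ub : F.fa F.ub ≠ 0 := (pair hinj hK F.tv F.tvb F.hab (Ne.symm F.ne)).1

include hinj hK in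
theorem Frame.fb_ua : F.fb F.ua ≠ 0 := (pair hinj hK F.tv F.tvb F.hab (Ne.symm F.ne)).2

/-- Second basis vector of the plane. -/
noncomputable def Frame.e2 : M := (F.fa F.ub)⁻¹ • F.ub

include hinj hK in
theorem Frame.fa_e2 : F.fa F.e2 = 1 := by
  rw [Frame.e2, map_smul, smul_eq_mul, inv_mul_cancel₀ (F.fa_ub hinj hK)]

include hinj hK in
theorem Frame.ind (s t : ZMod p) (h : s • F.ua + t • F.e2 = 0) : s = 0 ∧ t = 0 := by
  have ht : t = 0 := by
    have := congrArg F.fa h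
    simpa [F.tv.self, F.fa_e2 hinj hK] using this
  refine ⟨?_, ht⟩
  rw [ht, zero_smul, add_zero, smul_eq_zero] at h
  exact h.resolve_right F.tv.ne

include hinj hK in
theorem Frame.decomp (v : M) : ∃ s t : ZMod p, v - (s • F.ua + t • F.e2) ∈ F.C := by
  refine ⟨F.fb v * (F.fb F.ua)⁻¹, F.fa v, F.mem_C.mpr ⟨?_, ?_⟩⟩
  · simp [F.tv.self, F.fa_e2 hinj hK]
  · simp [Frame.e2, F.tvb.self, F.fb_ua hinj hK]

theorem Frame.e2_mem : F.e2 ∈ F.W := F.W.smul_mem _ F.ub_mem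

include hinj hK in
theorem Frame.mem_W {v : M} (hv : v ∈ F.W) : ∃ s t : ZMod p, v = s • F.ua + t • F.e2 := by
  obtain ⟨s, t, rfl⟩ := mem_span_pair.mp hv
  refine ⟨s, t * F.fa F.ub, ?_⟩
  rw [Frame.e2, smul_smul, mul_assoc, mul_inv_cancel₀ (F.fa_ub hinj hK), mul_one]

include hinj hK in
theorem Frame.W_inf_C {v : M} (h1 : v ∈ F.W) (h2 : v ∈ F.C) : v = 0 := by
  obtain ⟨s, t, rfl⟩ := F.mem_W hinj hK h1
  obtain ⟨e1, e2⟩ := F.mem_C.mp h2
  have ht : t = 0 := by simpa [F.tv.self, F.fa_e2 hinj hK] using e1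
  rw [ht, zero_smul, add_zero] at e2 ⊢
  rw [map_smul, smul_eq_mul, mul_eq_zero] at e2
  rw [e2.resolve_right (F.fb_ua hinj hK), zero_smul]

theorem Frame.L_act {g : Γ} (hg : g ∈ F.L) :
    (∀ v, ρ g v - v ∈ F.W) ∧ ∀ v ∈ F.C, ρ g v = v := by
  induction hg using Subgroup.closure_induction with
  | mem x hx =>
    rcases hx with rfl | rfl
    · exact ⟨fun v => by rw [F.tv.eq, add_sub_cancel_left]; exact F.W.smul_mem _ F.ua_mem,
        fun v hv => by rw [F.tv.eq, (F.mem_C.mp hv).1, zero_smul, add_zero]⟩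
    · exact ⟨fun v => by rw [F.tvb.eq, add_sub_cancel_left]; exact F.W.smul_mem _ F.ub_mem,
        fun v hv => by rw [F.tvb.eq, (F.mem_C.mp hv).2, zero_smul, add_zero]⟩
  | one => simp
  | mul x y _ _ hx hy =>
    refine ⟨fun v => ?_, fun v hv => by rw [mul_act, hy.2 v hv, hx.2 v hv]⟩
    rw [mul_act, ← sub_add_sub_cancel _ (ρ y v)]
    exact add_mem (hx.1 _) (hy.1 v)
  | inv x _ hx =>
    refine ⟨fun v => ?_, fun v hv => ?_⟩
    · have := F.W.neg_mem (hx.1 (ρ x⁻¹ v))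
      rwa [cancel, neg_sub] at this
    · conv_lhs => rw [← hx.2 v hv]
      exact cancel' x v

include hinj hK in
theorem Frame.L_eq_one {g : Γ} (hg : g ∈ F.L) (hW : ∀ v ∈ F.W, ρ g v = v) : g = 1 := by
  refine hinj g (LinearMap.ext fun v => ?_)
  obtain ⟨s, t, hc⟩ := F.decomp hinj hK v
  have h1 := (F.L_act hg).2 _ hc
  have h2 := hW _ (add_mem (F.W.smul_mem s F.ua_mem) (F.W.smul_mem t F.e2_mem))
  rw [map_sub, h2, sub_left_inj] at h1
  exact h1

include hinj hK in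
theorem Frame.exists_equiv : ∃ φ : F.L ≃* SL2 (ZMod p),
    ∀ g : F.L, PlaneMat ρ F.ua F.e2 (g : Γ) (φ g) := by
  set μ := F.fb F.ua * F.fa F.ub with hμdef
  have hμ : μ ≠ 0 := mul_ne_zero (F.fb_ua hinj hK) (F.fa_ub hinj hK)
  have hae : ρ F.a F.e2 = F.e2 + F.ua := by rw [F.tv.eq, F.fa_e2 hinj hK, one_smul]
  have hbe : ρ F.b F.e2 = F.e2 := by rw [Frame.e2, map_smul, F.tvb.apply_self]
  have hbu : ρ F.b F.ua = F.ua + μ • F.e2 := by
    rw [F.tvb.eq, hμdef, Frame.e2, smul_smul, mul_assoc, mul_inv_cancel₀ (F.fa_ub hinj hK), mul_one]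
  have hma : PlaneMat ρ F.ua F.e2 F.a (upper 1) := by
    simp [PlaneMat, F.tv.apply_self, hae, add_comm]
  have hmb : PlaneMat ρ F.ua F.e2 F.b (lower μ) := by simp [PlaneMat, hbe, hbu]
  obtain ⟨φ, hφ⟩ := exists_plane_hom ρ F.ua F.e2 (F.ind hinj hK) {F.a, F.b} (by
    rintro x (rfl | rfl)
    exacts [⟨_, hma⟩, ⟨_, hmb⟩])
  have hsurj : Function.Surjective φ := by
    rw [← MonoidHom.range_eq_top]
    have hl : lower μ ∈ φ.range :=
      ⟨⟨F.b, F.b_mem⟩, planeMat_unique ρ F.ua F.e2 (F.ind hinj hK) (hφ _) hmb⟩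
    refine sl2_zmod_generated _
      ⟨⟨F.a, F.a_mem⟩, planeMat_unique ρ F.ua F.e2 (F.ind hinj hK) (hφ _) hma⟩ ?_
    have := φ.range.pow_mem hl (μ⁻¹).val
    rwa [lower_pow, ZMod.natCast_zmod_val, inv_mul_cancel₀ hμ] at this
  have hin : Function.Injective φ := by
    rw [injective_iff_map_eq_one]
    intro g hg
    apply Subtype.ext
    obtain ⟨g1, g2⟩ := hφ g
    refine F.L_eq_one hinj hK g.2 fun v hv => ?_
    obtain ⟨s, t, rfl⟩ := F.mem_W hinj hK hv
    rw [map_add, map_smul, map_smul, g1, g2, hg]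
    simp
  exact ⟨MulEquiv.ofBijective φ ⟨hin, hsurj⟩, hφ⟩

include hinj hK in
theorem Frame.tv_mem_L {c : Γ} {u : M} {f : M →ₗ[ZMod p] ZMod p} (hc : IsTV ρ c u f)
    (hu : u ∈ F.W) (hf : ∀ v ∈ F.C, f v = 0) : c ∈ F.L := by
  obtain ⟨φ, hφ⟩ := F.exists_equiv hinj hK
  obtain ⟨s, t, hst⟩ := F.mem_W hinj hK hu
  let m : SL2 (ZMod p) := ⟨!![1 + f F.ua * s, f F.e2 * s; f F.ua * t, 1 + f F.e2 * t], by
    have h0 : s * f F.ua + t * f F.e2 = 0 := by
      simpa [hst] using hc.self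
    simp [Matrix.det_fin_two]
    linear_combination h0⟩
  obtain ⟨g1, g2⟩ := hφ (φ.symm m)
  rw [φ.apply_symm_apply] at g1 g2
  have hd1 : ρ (φ.symm m : Γ) F.ua = ρ c F.ua := by
    rw [g1, hc.eq, hst]
    simp [m]
    module
  have hd2 : ρ (φ.symm m : Γ) F.e2 = ρ c F.e2 := by
    rw [g2, hc.eq, hst]
    simp [m]
    module
  have e : c = (φ.symm m : Γ) := by
    refine eq_of_act hinj fun v => ?_
    obtain ⟨x, y, hxy⟩ := F.decomp hinj hK v
    have h1 := (F.L_act (φ.symm m).2).2 _ hxy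
    have h2 : ρ c (v - (x • F.ua + y • F.e2)) = v - (x • F.ua + y • F.e2) := by
      rw [hc.eq, hf _ hxy, zero_smul, add_zero]
    rw [map_sub, map_add, map_smul, map_smul, hd1, hd2] at h1
    rw [map_sub, map_add, map_smul, map_smul, ← h1] at h2
    exact sub_left_inj.mp h2
  rw [e]
  exact (φ.symm m).2

include hinj hK in
/-- Transvections in the coset `aK` stay in the plane. -/
theorem Frame.coset {c : Γ} {u : M} {f : M →ₗ[ZMod p] ZMod p} (hc : IsTV ρ c u f)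
    (hca : F.a * c⁻¹ ∈ K) : u ∈ F.W ∧ ∀ v ∈ F.C, f v = 0 := by
  by_cases hca' : F.a = c
  · subst hca'
    refine ⟨?_, fun v hv => ?_⟩
    · obtain ⟨s, rfl⟩ := mem_span_singleton.mp (F.tv.center_mem hc)
      exact F.W.smul_mem _ F.ua_mem
    · have := (hc.eq v).symm.trans (F.tv.eq v)
      rw [(F.mem_C.mp hv).1, zero_smul, add_right_inj, smul_eq_zero] at this
      exact this.resolve_right hc.ne
  obtain ⟨hne1, hne2⟩ := pair hinj hK F.tv hc hca hca'
  -- the conjugates of `b` under powers of `a`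
  have hconj : ∀ j : ℕ, IsTV ρ (F.a ^ j * F.b * (F.a ^ j)⁻¹) (ρ (F.a ^ j) F.ub)
      (F.fb ∘ₗ ρ (F.a ^ j)⁻¹) := fun j => F.tvb.conj _
  have hcos : ∀ j : ℕ, F.a ^ j * F.b * (F.a ^ j)⁻¹ * c⁻¹ ∈ K := by
    intro j
    rw [show F.a ^ j * F.b * (F.a ^ j)⁻¹ * c⁻¹ =
      F.a ^ j * (F.a * F.b⁻¹)⁻¹ * (F.a ^ j)⁻¹ * (F.a * c⁻¹) by group]
    exact mul_mem ((inferInstance : K.Normal).conj_mem _ (inv_mem F.hab) _) hca
  have hcentre : ∀ j : ℕ, ρ (F.a ^ j) F.ub ∈ F.W := fun j => by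
    rw [F.tv.pow_eq]
    exact add_mem F.ub_mem (F.W.smul_mem _ F.ua_mem)
  have hu : u ∈ F.W := by
    -- some conjugate of `b` has its centre on the hyperplane of `c`
    set j := (-(f F.ub) * (F.fa F.ub * f F.ua)⁻¹).val
    have hj : f (ρ (F.a ^ j) F.ub) = 0 := by
      rw [F.tv.pow_eq, ZMod.natCast_zmod_val, map_add, map_smul, smul_eq_mul]
      have := F.fa_ub hinj hK
      field_simp
      ring
    have e : F.a ^ j * F.b * (F.a ^ j)⁻¹ = c :=
      by_contra fun h => (pair hinj hK (hconj j) hc (hcos j) h).2 hj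
    obtain ⟨s, rfl⟩ := mem_span_singleton.mp ((hconj j).center_mem (e ▸ hc))
    exact F.W.smul_mem _ (hcentre j)
  refine ⟨hu, fun v hv => ?_⟩
  -- some conjugate of `b` has the centre of `c` on its hyperplane
  set j := (F.fb u * (F.fa u * F.fb F.ua)⁻¹).val
  have hinvj : ∀ w, ρ (F.a ^ j)⁻¹ w = w - ((j : ZMod p) * F.fa w) • F.ua := by
    intro w
    have e : ρ (F.a ^ j) (w - ((j : ZMod p) * F.fa w) • F.ua) = w := by
      rw [F.tv.pow_eq]
      simp [F.tv.self]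
    conv_lhs => rw [← e]
    rw [cancel']
  have hj : (F.fb ∘ₗ ρ (F.a ^ j)⁻¹) u = 0 := by
    rw [LinearMap.comp_apply, hinvj, map_sub, map_smul, smul_eq_mul, ZMod.natCast_zmod_val]
    have := F.fb_ua hinj hK
    field_simp
    ring
  have e : F.a ^ j * F.b * (F.a ^ j)⁻¹ = c :=
    by_contra fun h => (pair hinj hK (hconj j) hc (hcos j) h).1 hj
  have h1 := (hconj j).eq v
  rw [e, hc.eq, LinearMap.comp_apply, hinvj, (F.mem_C.mp hv).1, mul_zero, zero_smul, sub_zero,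
    (F.mem_C.mp hv).2, zero_smul, add_right_inj, smul_eq_zero] at h1
  exact h1.resolve_right hc.ne

theorem coset_mul {a k g : Γ} (hk : k ∈ K) (h : k * a * k⁻¹ * g⁻¹ ∈ K) : a * g⁻¹ ∈ K := by
  have := mul_mem (inv_mem (coset_conj (a := a) hk)) h
  simpa [mul_assoc] using this

include hinj hK in
theorem Frame.act_K {k : Γ} (hk : k ∈ K) :
    (∀ v ∈ F.W, ρ k v ∈ F.W) ∧ ∀ v ∈ F.C, ρ k v ∈ F.C := by
  have hcc : ∀ x ∈ K, F.a * (x * F.a * x⁻¹)⁻¹ ∈ K := fun x hx =>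
    coset_mul hx (by simp)
  refine ⟨fun v hv => ?_, fun v hv => F.mem_C.mpr ⟨?_, ?_⟩⟩
  · obtain ⟨s, t, rfl⟩ := mem_span_pair.mp hv
    rw [map_add, map_smul, map_smul, Frame.ub, ← mul_act]
    exact add_mem (F.W.smul_mem _ (F.coset hinj hK (F.tv.conj k) (hcc k hk)).1)
      (F.W.smul_mem _ (F.coset hinj hK (F.tv.conj _) (hcc _ (mul_mem hk F.hk))).1)
  · have := (F.coset hinj hK (F.tv.conj k⁻¹) (hcc _ (inv_mem hk))).2 v hv
    simpa using this
  · have := (F.coset hinj hK (F.tv.conj (F.k⁻¹ * k)⁻¹)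
      (hcc _ (inv_mem (mul_mem (inv_mem F.hk) hk)))).2 v hv
    rw [Frame.fb, LinearMap.comp_apply, ← mul_act]
    simpa using this

include hinj hK in
theorem Frame.conj_mem_L {k : Γ} (hk : k ∈ K) : k * F.a * k⁻¹ ∈ F.L := by
  obtain ⟨h1, h2⟩ := F.coset hinj hK (F.tv.conj k) (coset_mul (a := F.a) hk (by simp))
  exact F.tv_mem_L hinj hK (F.tv.conj k) h1 h2

include hinj hK in
theorem Frame.no_line {z : M} (hz : z ∈ F.W) (hz0 : z ≠ 0)
    (h : ∀ k ∈ K, ρ k z ∈ span (ZMod p) {z}) : False := by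
  obtain ⟨s, t, rfl⟩ := mem_span_pair.mp hz
  by_cases ht : t = 0
  · subst ht
    rw [zero_smul, add_zero] at hz0 h
    have hs : s ≠ 0 := fun h0 => hz0 (by rw [h0, zero_smul])
    obtain ⟨c, hc⟩ := mem_span_singleton.mp (h _ F.hk)
    rw [map_smul, smul_smul] at hc
    have := congrArg F.fa hc
    simp [F.tv.self] at this
    exact (this.resolve_left hs) |> F.fa_ub hinj hK
  · set j := (-s * (t * F.fa F.ub)⁻¹).val
    have hj : ρ (F.a ^ j) (s • F.ua + t • F.ub) = t • F.ub := by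
      rw [F.tv.pow_eq, ZMod.natCast_zmod_val, map_add, map_smul, map_smul, F.tv.self, smul_zero,
        zero_add, smul_eq_mul]
      have := F.fa_ub hinj hK
      rw [show -s * (t * F.fa F.ub)⁻¹ * (t * F.fa F.ub) = -s by field_simp]
      module
    have h1 := h _ ((inferInstance : K.Normal).conj_mem _ (inv_mem F.hk) (F.a ^ j)⁻¹)
    obtain ⟨c, hc⟩ := mem_span_singleton.mp h1
    rw [inv_inv, mul_act, mul_act, hj, map_smul, show ρ F.k⁻¹ F.ub = F.ua from cancel' _ _] at hc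
    have h2 := congrArg (ρ (F.a ^ j)) hc
    rw [map_smul, hj, cancel, smul_smul] at h2
    have := congrArg F.fa h2
    simp [F.tv.self] at this
    rcases this with hc0 | h0
    · rcases hc0 with hc0 | h0
      · rw [hc0, zero_mul, zero_smul] at h2
        exact smul_ne_zero ht F.tv.ne h2.symm
      · exact ht h0
    · exact F.fa_ub hinj hK h0

include hinj hK in
theorem Frame.fix {v : M} (h : ρ (F.b * F.a⁻¹) v = v) : v ∈ F.C := by
  rw [mul_act] at h
  set w := ρ F.a⁻¹ v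
  have hv : ρ F.a w = v := cancel _ _
  rw [← hv, F.tvb.eq, F.tv.eq, add_right_inj] at h
  have h1 : F.fb w = 0 := by
    have := congrArg F.fa h
    simpa [F.tv.self, F.fa_ub hinj hK] using this
  have h2 : F.fa w = 0 := by
    rw [h1, zero_smul, eq_comm, smul_eq_zero] at h
    exact h.resolve_right F.tv.ne
  rw [← hv, F.tv.eq, h2, zero_smul, add_zero]
  exact F.mem_C.mpr ⟨h2, h1⟩

include hinj hK in
theorem Frame.finrank_W : Module.finrank (ZMod p) F.W = 2 := by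
  have hl : LinearIndependent (ZMod p) ![F.ua, F.e2] :=
    LinearIndependent.pair_iff.mpr (F.ind hinj hK)
  have e : F.W = span (ZMod p) (Set.range ![F.ua, F.e2]) := by
    rw [Matrix.range_cons, Matrix.range_cons, Matrix.range_empty, Set.union_empty,
      Set.singleton_union]
    refine le_antisymm (fun v hv => ?_) (span_le.mpr ?_)
    · obtain ⟨s, t, rfl⟩ := F.mem_W hinj hK hv
      exact mem_span_pair.mpr ⟨s, t, rfl⟩
    · rintro _ (rfl | rfl)
      exacts [F.ua_mem, F.e2_mem]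
  rw [e, finrank_span_eq_card hl, Fintype.card_fin]

include hinj hK in
theorem plane_cases (F F' : Frame ρ K) : F.W = F'.W ∨ F.W ⊓ F'.W = ⊥ := by
  by_contra h
  push Not at h
  obtain ⟨hne, h0⟩ := h
  have h1 : Module.finrank (ZMod p) ↥(F.W ⊓ F'.W) = 1 := by
    have hle := Submodule.finrank_mono (inf_le_left : F.W ⊓ F'.W ≤ F.W)
    rw [F.finrank_W hinj hK] at hle
    have hpos : Module.finrank (ZMod p) ↥(F.W ⊓ F'.W) ≠ 0 := fun e =>
      h0 (Submodule.finrank_eq_zero.mp e)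
    by_contra h1
    have e2 : F.W ⊓ F'.W = F.W :=
      Submodule.eq_of_le_of_finrank_eq inf_le_left (by rw [F.finrank_W hinj hK]; omega)
    exact hne (Submodule.eq_of_le_of_finrank_eq (inf_eq_left.mp e2)
      (by rw [F.finrank_W hinj hK, F'.finrank_W hinj hK]))
  obtain ⟨⟨z, hz⟩, hz0, hzs⟩ := finrank_eq_one_iff'.mp h1
  refine F.no_line hinj hK hz.1 (fun e => hz0 (Subtype.ext e)) fun k hk => ?_
  obtain ⟨c, hc⟩ := hzs ⟨ρ k z, (F.act_K hinj hK hk).1 _ hz.1, (F'.act_K hinj hK hk).1 _ hz.2⟩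
  exact mem_span_singleton.mpr ⟨c, congrArg Subtype.val hc⟩

include hinj hK in
theorem plane_le_C (F F' : Frame ρ K) (h : F.W ⊓ F'.W = ⊥) : F'.W ≤ F.C := by
  intro v hv
  refine F.fix hinj hK ?_
  have hk : F.b * F.a⁻¹ ∈ K := coset_conj F.hk
  have h1 := (F.L_act (mul_mem F.b_mem (inv_mem F.a_mem))).1 v
  exact sub_eq_zero.mp ((Submodule.mem_bot (R := ZMod p)).mp
    (h ▸ ⟨h1, sub_mem ((F'.act_K hinj hK hk).1 _ hv) hv⟩))

include hinj hK in
theorem comp_le_C (F F' : Frame ρ K) (h : F.W = F'.W) : F'.C ≤ F.C := by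
  intro v hv
  refine F.fix hinj hK ?_
  have hk : F.b * F.a⁻¹ ∈ K := coset_conj F.hk
  have h1 := (F.L_act (mul_mem F.b_mem (inv_mem F.a_mem))).1 v
  exact sub_eq_zero.mp (F'.W_inf_C hinj hK (h ▸ h1) (sub_mem ((F'.act_K hinj hK hk).2 _ hv) hv))

/-- The part of `Γ` living on the fixed complement of the frame. -/
def Frame.Away (g : Γ) : Prop :=
  (∀ l ∈ F.L, g * l = l * g) ∧ (∀ w ∈ F.W, ρ g w = w) ∧ ∀ v, ρ g v - v ∈ F.C

include hinj hK in
theorem trichotomy (F F' : Frame ρ K) :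
    (F'.a ∈ F.L ∧ F.W = F'.W) ∨ (F.Away F'.a ∧ F'.W ≤ F.C ∧ F.W ≤ F'.C) := by
  rcases plane_cases hinj hK F F' with h | h
  · exact Or.inl ⟨F.tv_mem_L hinj hK F'.tv (h ▸ F'.ua_mem)
      fun v hv => (F'.mem_C.mp (comp_le_C hinj hK F' F h.symm hv)).1, h⟩
  · have h1 := plane_le_C hinj hK F F' h
    have h2 := plane_le_C hinj hK F' F (by rwa [inf_comm])
    have hW : ∀ w ∈ F.W, ρ F'.a w = w := fun w hw => by
      rw [F'.tv.eq, (F'.mem_C.mp (h2 hw)).1, zero_smul, add_zero]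
    refine Or.inr ⟨⟨fun l hl => eq_of_act hinj fun v => ?_, hW, fun v => ?_⟩, h1, h2⟩
    · obtain ⟨hl1, hl2⟩ := F.L_act hl
      rw [mul_act, mul_act, F'.tv.eq, F'.tv.eq v, map_add, map_smul, hl2 _ (h1 F'.ua_mem)]
      have : F'.fa (ρ l v) = F'.fa v := by
        have := (F'.mem_C.mp (h2 (hl1 v))).1
        rwa [map_sub, sub_eq_zero] at this
      rw [this]
    · rw [F'.tv.eq, add_sub_cancel_left]
      exact F.C.smul_mem _ (h1 F'.ua_mem)

end CfsgLib.FFPlane
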