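/-
Failure of factorization: the direct decomposition into copies of SL₂(p).
-/
import Cfsg.Agent.PLocal.FFOffender
import Cfsg.Agent.PLocal.FFPlane
import Cfsg.Agent.ZJ.SL2Facts
import Cfsg.Agent.ZJ.ConjModule

set_option autoImplicit false
set_option linter.unusedSectionVars false

namespace CfsgLib.FFStructure

open Subgroup Cfsg CfsgLib.ZJ CfsgLib.FFOffender CfsgLib.FFPlane
open scoped commutatorElement

variable {G : Type*} [Group G] [Finite G] {p : ℕ} [Fact p.Prime] {V H : Subgroup G}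

instance finiteElab (hV : IsElementaryAbelian p V) : Finite (ElabMod V hV) :=
  inferInstanceAs (Finite (Additive V))

section toSub

variable (hV : IsElementaryAbelian p V)

/-- An element of the module as an element of the group. -/
def coeV (x : ElabMod V hV) : G := (ofVec hV x : G)

theorem coeV_add (x y : ElabMod V hV) : coeV hV (x + y) = coeV hV x * coeV hV y := rfl

theorem coeV_neg (x : ElabMod V hV) : coeV hV (-x) = (coeV hV x)⁻¹ := rfl

theorem coeV_zero : coeV hV (0 : ElabMod V hV) = 1 := rfl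

theorem coeV_mem (x : ElabMod V hV) : coeV hV x ∈ V := (ofVec hV x).2

theorem coeV_inj {x y : ElabMod V hV} (h : coeV hV x = coeV hV y) : x = y :=
  ofVec_injective hV (Subtype.ext h)

theorem exists_coeV {v : G} (hv : v ∈ V) : ∃ x, coeV hV x = v := ⟨toVec hV ⟨v, hv⟩, rfl⟩

/-- The subgroup of a submodule. -/
def toSub (N : Submodule (ZMod p) (ElabMod V hV)) : Subgroup G where
  carrier := {g | ∃ x ∈ N, coeV hV x = g}
  one_mem' := ⟨0, N.zero_mem, rfl⟩
  mul_mem' := by
    rintro _ _ ⟨x, hx, rfl⟩ ⟨y, hy, rfl⟩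
    exact ⟨x + y, N.add_mem hx hy, rfl⟩
  inv_mem' := by
    rintro _ ⟨x, hx, rfl⟩
    exact ⟨-x, N.neg_mem hx, rfl⟩

/-- The submodule of a subgroup. -/
def ofSub (D : Subgroup G) : Submodule (ZMod p) (ElabMod V hV) where
  carrier := {x | coeV hV x ∈ D}
  zero_mem' := one_mem D
  add_mem' := fun {x y} hx hy => show coeV hV (x + y) ∈ D from D.mul_mem hx hy
  smul_mem' := fun c x hx => by
    rw [← ZMod.natCast_zmod_val c, Nat.cast_smul_eq_nsmul]
    induction c.val with
    | zero => simp only [zero_smul, Set.mem_setOf_eq, coeV_zero]; exact one_mem D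
    | succ n ih => rw [succ_nsmul]; exact (D.mul_mem ih hx : coeV hV (n • x + x) ∈ D)

theorem mem_toSub {N : Submodule (ZMod p) (ElabMod V hV)} {x : ElabMod V hV} :
    coeV hV x ∈ toSub hV N ↔ x ∈ N :=
  ⟨fun ⟨_, hy, e⟩ => coeV_inj hV e ▸ hy, fun h => ⟨x, h, rfl⟩⟩

theorem toSub_le {N : Submodule (ZMod p) (ElabMod V hV)} {D : Subgroup G}
    (h : N ≤ ofSub hV D) : toSub hV N ≤ D := by
  rintro _ ⟨x, hx, rfl⟩
  exact (show coeV hV x ∈ D from h hx)

theorem toSub_mono {N N' : Submodule (ZMod p) (ElabMod V hV)} (h : N ≤ N') :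
    toSub hV N ≤ toSub hV N' := fun _ ⟨x, hx, e⟩ => ⟨x, h hx, e⟩

theorem toSub_le_V (N : Submodule (ZMod p) (ElabMod V hV)) : toSub hV N ≤ V := by
  rintro _ ⟨x, -, rfl⟩
  exact coeV_mem hV x

theorem toSub_top : toSub hV (⊤ : Submodule (ZMod p) (ElabMod V hV)) = V :=
  le_antisymm (toSub_le_V hV _) fun v hv => by
    obtain ⟨x, rfl⟩ := exists_coeV hV hv
    exact ⟨x, Submodule.mem_top, rfl⟩

theorem toSub_inf_eq_bot {N N' : Submodule (ZMod p) (ElabMod V hV)}
    (h : ∀ x ∈ N, x ∈ N' → x = 0) : toSub hV N ⊓ toSub hV N' = ⊥ := by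
  rw [eq_bot_iff_forall]
  rintro _ ⟨⟨x, hx, rfl⟩, hx'⟩
  rw [h x hx ((mem_toSub hV).mp hx'), coeV_zero]

theorem card_toSub (N : Submodule (ZMod p) (ElabMod V hV)) :
    Nat.card (toSub hV N) = p ^ Module.finrank (ZMod p) N := by
  have e := Module.natCard_eq_pow_finrank (K := ZMod p) (V := N)
  rw [Nat.card_zmod] at e
  rw [← e]
  refine (Nat.card_eq_of_bijective (fun x : N => (⟨coeV hV x, x.1, x.2, rfl⟩ : toSub hV N))
    ⟨fun x y h => Subtype.ext (coeV_inj hV (congrArg (fun z : toSub hV N => (z : G)) h)), ?_⟩).symm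
  rintro ⟨_, x, hx, rfl⟩
  exact ⟨⟨x, hx⟩, rfl⟩

end toSub

variable (S : Setting p V H)

/-- The action of `H` on `V`. -/
def act : ↥H →* Module.End (ZMod p) (ElabMod V S.elab_V) :=
  (conjEnd S.elab_V).comp (inclusion S.le_norm)

theorem coeV_act (h : H) (x : ElabMod V S.elab_V) :
    coeV S.elab_V (act S h x) = (h : G) * coeV S.elab_V x * (h : G)⁻¹ :=
  ofVec_conjEnd S.elab_V (inclusion S.le_norm h) x

theorem act_inj (g : H) (h : act S g = 1) : g = 1 := by
  have h1 : (g : G) ∈ centralizer (V : Set G) :=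
    (conjEnd_eq_one_iff S.elab_V (inclusion S.le_norm g)).mp h
  exact Subtype.ext (mem_bot.mp (S.faith ▸ ⟨g.2, h1⟩))

theorem act_fix_iff (h : H) (x : ElabMod V S.elab_V) :
    act S h x = x ↔ Commute (h : G) (coeV S.elab_V x) := by
  refine ⟨fun e => ?_, fun e => coeV_inj S.elab_V ?_⟩
  · have := coeV_act S h x
    rw [e, eq_mul_inv_iff_mul_eq] at this
    exact this.symm
  · rw [coeV_act, e.eq, mul_inv_cancel_right]

theorem bracket_eq (h : H) (x : ElabMod V S.elab_V) :
    ⁅coeV S.elab_V x, (h : G)⁆ = coeV S.elab_V (x - act S h x) := by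
  rw [sub_eq_add_neg, coeV_add, coeV_neg, coeV_act, commutatorElement_def]
  group

/-- The p'-core of `H`. -/
abbrev Core (p : ℕ) (H : Subgroup G) : Subgroup ↥H := pPrimeCore p ↥H

theorem core_cop : (Nat.card (Core p H)).Coprime p := CfsgLib.Solvable.coprime_card_pPrimeCore p

instance core_normal : (Core p H).Normal := CfsgLib.Solvable.pPrimeCore_normal p

theorem exists_tv {A : Subgroup G} (hAH : A ≤ H) (hA : IsMin p V A) {a : H} (ha : (a : G) ∈ A)
    (ha1 : a ≠ 1) : A = zpowers (a : G) ∧ ∃ u f, IsTV (act S) a u f := by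
  obtain ⟨hc, hi⟩ := S.min_card hAH hA
  have hgen : A = zpowers (a : G) := by
    refine (CfsgLib.Solvable.eq_of_le_of_card_le (zpowers_le.mpr ha) ?_).symm
    have hd := A.orderOf_dvd_natCard ha
    rw [hc] at hd
    rw [Nat.card_zpowers, hc]
    rcases (Nat.dvd_prime (Fact.out : p.Prime)).mp hd with h | h
    · exact absurd (Subtype.ext (orderOf_eq_one_iff.mp h)) ha1
    · exact h.ge
  refine ⟨hgen, ?_⟩
  set M := ElabMod V S.elab_V
  set g : Module.End (ZMod p) M := act S a - 1 with hg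
  have hgv : ∀ x, g x = act S a x - x := fun x => rfl
  have hker : toSub S.elab_V (LinearMap.ker g) = V ⊓ centralizer (A : Set G) := by
    ext v
    constructor
    · rintro ⟨x, hx, rfl⟩
      refine ⟨coeV_mem _ x, ?_⟩
      rw [hgen]
      refine mem_centralizer_iff.mpr ?_
      intro z hz
      obtain ⟨j, rfl⟩ := hz
      rw [LinearMap.mem_ker, hgv, sub_eq_zero, act_fix_iff] at hx
      exact (hx.zpow_left j).eq
    · rintro ⟨hv, hc'⟩
      obtain ⟨x, rfl⟩ := exists_coeV S.elab_V hv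
      refine ⟨x, ?_, rfl⟩
      rw [LinearMap.mem_ker, hgv, sub_eq_zero, act_fix_iff]
      exact mem_centralizer_iff.mp hc' a ha
  have hfr : Module.finrank (ZMod p) (LinearMap.ker g) + 1 = Module.finrank (ZMod p) M := by
    have h1 := card_eq_mul (inf_le_left : cv V A ≤ V)
    rw [hi, ← hker, card_toSub, ← pow_succ'] at h1
    have h2 := card_toSub S.elab_V (⊤ : Submodule (ZMod p) M)
    rw [toSub_top, finrank_top] at h2
    exact Nat.pow_right_injective (Fact.out : p.Prime).two_le (h1.trans h2)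
  have hr : Module.finrank (ZMod p) (LinearMap.range g) = 1 := by
    have := LinearMap.finrank_range_add_finrank_ker g
    omega
  obtain ⟨⟨u, v₀, hu⟩, hu0, hspan⟩ := finrank_eq_one_iff'.mp hr
  have hu1 : u ≠ 0 := fun h => hu0 (Subtype.ext h)
  have hmem : ∀ x, g x ∈ Submodule.span (ZMod p) {u} := fun x => by
    obtain ⟨c, hc'⟩ := hspan ⟨g x, LinearMap.mem_range_self g x⟩
    exact Submodule.mem_span_singleton.mpr ⟨c, congrArg Subtype.val hc'⟩
  set f : M →ₗ[ZMod p] ZMod p :=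
    (LinearEquiv.coord (ZMod p) M u hu1).toLinearMap ∘ₗ g.codRestrict _ hmem with hf
  have hfv : ∀ x, f x • u = g x := fun x =>
    LinearEquiv.coord_apply_smul (ZMod p) M u hu1 ⟨g x, hmem x⟩
  refine ⟨u, f, hu1, ⟨v₀, ?_⟩, ?_, fun x => ?_⟩
  · have := hfv v₀
    rw [hu] at this
    exact smul_left_injective (ZMod p) hu1 (this.trans (one_smul _ u).symm)
  · haveI : Nontrivial M := ⟨⟨u, 0, hu1⟩⟩
    haveI : CharP (Module.End (ZMod p) M) p :=
      charP_of_injective_algebraMap (RingHom.injective (algebraMap (ZMod p) (Module.End (ZMod p) M))) p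
    have hap : act S a ^ p = 1 := by
      rw [← map_pow, show a ^ p = 1 from Subtype.ext (by simpa using (S.elab_of hAH hA.1).2 _ ha),
        map_one]
    have hgp : g ^ p = 0 := by
      have := add_pow_char_of_commute (p := p) (Commute.one_right g)
      rw [show g + 1 = act S a from sub_add_cancel _ _, hap, one_pow, right_eq_add] at this
      exact this
    have hiter : ∀ n : ℕ, (g ^ n) u = f u ^ n • u := by
      intro n
      induction n with
      | zero => simp
      | succ n ih =>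
        rw [pow_succ', Module.End.mul_apply, ih, map_smul, ← hfv, smul_smul, ← pow_succ]
    have h0 := hiter p
    rw [hgp, LinearMap.zero_apply, eq_comm, smul_eq_zero] at h0
    exact eq_zero_of_pow_eq_zero (h0.resolve_right hu1)
  · rw [hfv, hgv, add_sub_cancel]

theorem exists_frame {A : Subgroup G} (hAH : A ≤ H) (hA : IsMin p V A) :
    ∃ F : Frame (act S) (Core p H), A = zpowers ((F.a : H) : G) := by
  have hA1 : A ≠ ⊥ := fun h => hA.2.1 (by rw [h, commutator_bot_right])
  obtain ⟨⟨a, ha⟩, ha'⟩ := A.ne_bot_iff_exists_ne_one.mp hA1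
  have ha1 : (⟨a, hAH ha⟩ : H) ≠ 1 := fun h => ha' (Subtype.ext (congrArg (fun z : H => (z : G)) h))
  obtain ⟨hgen, u, f, htv⟩ := exists_tv S hAH hA (a := ⟨a, hAH ha⟩) ha ha1
  obtain ⟨k, hk, hne⟩ : ∃ k ∈ Core p H, k * ⟨a, hAH ha⟩ * k⁻¹ ≠ (⟨a, hAH ha⟩ : H) := by
    by_contra h
    push Not at h
    have : (a : G) ∈ A ⊓ centralizer (((pPrimeCore p ↥H).map H.subtype : Subgroup G) : Set G) := by
      refine ⟨ha, mem_centralizer_iff.mpr ?_⟩
      rintro _ ⟨k, hk, rfl⟩
      exact congrArg Subtype.val (mul_inv_eq_iff_eq_mul.mp (h k hk))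
    rw [S.inf_centralizer_core hAH (S.elab_of hAH hA.1), mem_bot] at this
    exact ha1 (Subtype.ext this)
  exact ⟨⟨⟨a, hAH ha⟩, k, u, f, htv, hk, hne⟩, hgen⟩

theorem exists_frame_at {A : Subgroup G} (hAH : A ≤ H) (hA : IsMin p V A) {x : G}
    (hx : x ∈ (pPrimeCore p ↥H).map H.subtype) (hxA : x ∉ centralizer (A : Set G)) :
    ∃ F : Frame (act S) (Core p H), A = zpowers ((F.a : H) : G) ∧ ((F.k : H) : G) = x := by
  obtain ⟨F, hF⟩ := exists_frame S hAH hA
  obtain ⟨k, hk, rfl⟩ := hx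
  refine ⟨⟨F.a, k, F.ua, F.fa, F.tv, hk, fun e => hxA ?_⟩, hF, rfl⟩
  rw [hF, mem_centralizer_iff]
  rintro _ ⟨j, rfl⟩
  exact ((show Commute ((F.a : H) : G) (k : G) from
    congrArg Subtype.val (mul_inv_eq_iff_eq_mul.mp e).symm).zpow_left j).eq

variable {S} (F : Frame (act S) (Core p H))

/-- The group of the frame, in `G`. -/
def LG : Subgroup G := F.L.map H.subtype

theorem LG_le : LG F ≤ H := map_subtype_le _

theorem commutator_LG : ⁅V, LG F⁆ = toSub S.elab_V F.W := by
  refine le_antisymm (commutator_le.mpr ?_) (toSub_le _ (Submodule.span_le.mpr ?_))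
  · rintro v hv _ ⟨l, hl, rfl⟩
    obtain ⟨x, rfl⟩ := exists_coeV S.elab_V hv
    rw [coe_subtype, bracket_eq S, mem_toSub, ← neg_sub]
    exact F.W.neg_mem ((F.L_act hl).1 x)
  · have key : ∀ (c : H) (w : ElabMod V S.elab_V) (f : ElabMod V S.elab_V →ₗ[ZMod p] ZMod p),
        IsTV (act S) c w f → c ∈ F.L → coeV S.elab_V w ∈ ⁅V, LG F⁆ := by
      intro c w f h hc
      obtain ⟨v, hv⟩ := h.surj
      have := commutator_mem_commutator (coeV_mem S.elab_V (-v)) (mem_map_of_mem H.subtype hc)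
      rwa [coe_subtype, bracket_eq S, h.eq, map_neg, hv, sub_add_cancel_left, neg_smul, one_smul,
        neg_neg] at this
    rintro x (rfl | rfl) <;> show coeV S.elab_V _ ∈ ⁅V, LG F⁆
    · exact key _ _ _ F.tv F.a_mem
    · exact key _ _ _ F.tvb F.b_mem

theorem cv_LG : cv V (LG F) = toSub S.elab_V F.C := by
  ext v
  constructor
  · rintro ⟨hv, hc⟩
    obtain ⟨x, rfl⟩ := exists_coeV S.elab_V hv
    have hfix : ∀ l ∈ F.L, act S l x = x := fun l hl =>
      (act_fix_iff S l x).mpr (mem_centralizer_iff.mp hc _ (mem_map_of_mem H.subtype hl))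
    refine ⟨x, F.mem_C.mpr ⟨?_, ?_⟩, rfl⟩
    · have := hfix _ F.a_mem
      rw [F.tv.eq, add_eq_left, smul_eq_zero] at this
      exact this.resolve_right F.tv.ne
    · have := hfix _ F.b_mem
      rw [F.tvb.eq, add_eq_left, smul_eq_zero] at this
      exact this.resolve_right F.tvb.ne
  · rintro ⟨x, hx, rfl⟩
    refine ⟨coeV_mem _ x, mem_centralizer_iff.mpr ?_⟩
    rintro _ ⟨l, hl, rfl⟩
    exact (act_fix_iff S l x).mp ((F.L_act hl).2 x hx)

theorem card_plane : Nat.card ↥(⁅V, LG F⁆) = p ^ 2 := by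
  rw [commutator_LG, card_toSub, F.finrank_W (act_inj S) core_cop]

theorem plane_inf : ⁅V, LG F⁆ ⊓ cv V (LG F) = ⊥ := by
  rw [commutator_LG, cv_LG]
  exact toSub_inf_eq_bot _ fun x => F.W_inf_C (act_inj S) core_cop

theorem plane_sup : ⁅V, LG F⁆ ⊔ cv V (LG F) = V := by
  refine le_antisymm (sup_le (commutator_LG F ▸ toSub_le_V _ _) inf_le_left) fun v hv => ?_
  obtain ⟨x, rfl⟩ := exists_coeV S.elab_V hv
  obtain ⟨s, t, hc⟩ := F.decomp (act_inj S) core_cop x
  rw [← add_sub_cancel (s • F.ua + t • F.e2) x, coeV_add, commutator_LG, cv_LG]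
  exact mul_mem_sup ((mem_toSub _).mpr (add_mem (F.W.smul_mem s F.ua_mem) (F.W.smul_mem t F.e2_mem)))
    ((mem_toSub _).mpr hc)

theorem nonempty_sl2 : Nonempty (↥(LG F) ≃* Matrix.SpecialLinearGroup (Fin 2) (ZMod p)) := by
  obtain ⟨φ, -⟩ := F.exists_equiv (act_inj S) core_cop
  exact ⟨(F.L.equivMapOfInjective H.subtype H.subtype_injective).symm.trans φ⟩

theorem mem_centralizer_plane (h : H) :
    (h : G) ∈ centralizer ((toSub S.elab_V F.W : Subgroup G) : Set G) ↔
      ∀ w ∈ F.W, act S h w = w := by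
  refine ⟨fun hh w hw => (act_fix_iff S h w).mpr ?_, fun hh => mem_centralizer_iff.mpr ?_⟩
  · exact (mem_centralizer_iff.mp hh _ ((mem_toSub _).mpr hw)).symm
  · rintro _ ⟨w, hw, rfl⟩
    exact ((act_fix_iff S h w).mp (hh w hw)).eq.symm

theorem LG_inf_centralizer :
    LG F ⊓ centralizer ((⁅V, LG F⁆ : Subgroup G) : Set G) = ⊥ := by
  rw [commutator_LG, eq_bot_iff_forall]
  rintro _ ⟨⟨l, hl, rfl⟩, hc⟩
  rw [F.L_eq_one (act_inj S) core_cop hl ((mem_centralizer_plane F l).mp hc), map_one]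

theorem sup_conj_eq {A : Subgroup G} (hA : A = zpowers ((F.a : H) : G)) :
    A ⊔ A.map (MulAut.conj ((F.k : H) : G)).toMonoidHom = LG F := by
  rw [hA, MonoidHom.map_zpowers, LG, Frame.L, MonoidHom.map_closure, Set.image_pair,
    Set.insert_eq, Subgroup.closure_union, zpowers_eq_closure, zpowers_eq_closure]
  rfl

theorem comm_core_sup {A : Subgroup G} (hA : A = zpowers ((F.a : H) : G)) :
    ⁅(pPrimeCore p ↥H).map H.subtype, A⁆ ⊔ A = LG F := by
  refine le_antisymm (sup_le (commutator_le.mpr ?_) ?_) ?_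
  · rintro _ ⟨k, hk, rfl⟩ z hz
    rw [hA] at hz
    obtain ⟨j, rfl⟩ := mem_zpowers_iff.mp hz
    refine ⟨(k * F.a * k⁻¹) ^ j * (F.a ^ j)⁻¹,
      mul_mem (zpow_mem (F.conj_mem_L (act_inj S) core_cop hk) j)
        (inv_mem (zpow_mem F.a_mem j)), ?_⟩
    rw [conj_zpow, commutatorElement_def]
    simp
  · rw [hA, zpowers_le]
    exact mem_map_of_mem _ F.a_mem
  · rw [LG, map_le_iff_le_comap, Frame.L, closure_le]
    rintro _ (rfl | rfl)
    · exact mem_sup_right (hA ▸ mem_zpowers _)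
    · rw [SetLike.mem_coe, mem_comap,
        show H.subtype F.b = ⁅((F.k : H) : G), ((F.a : H) : G)⁆ * ((F.a : H) : G) by
          simp [Frame.b, commutatorElement_def]]
      exact mul_mem (mem_sup_left (commutator_mem_commutator (mem_map_of_mem H.subtype F.hk)
        (hA ▸ mem_zpowers _))) (mem_sup_right (hA ▸ mem_zpowers _))

theorem core_section :
    ((Core p H).subgroupOf F.L).Normal ∧ ∀ x : F.L, x ^ p ∈ (Core p H).subgroupOf F.L := by
  have hn : ((Core p H).subgroupOf F.L).Normal := Normal.subgroupOf inferInstance _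
  refine ⟨hn, fun x => mem_subgroupOf.mpr ((QuotientGroup.eq_one_iff _).mp ?_)⟩
  rw [SubmonoidClass.coe_pow, QuotientGroup.mk_pow]
  have hle : F.L ≤ (zpowers (F.a : H ⧸ Core p H)).comap (QuotientGroup.mk' (Core p H)) := by
    rw [Frame.L, closure_le]
    rintro _ (rfl | rfl)
    · exact mem_zpowers _
    · rw [SetLike.mem_coe, mem_comap, show F.b = (F.b * F.a⁻¹) * F.a by group, map_mul,
        show QuotientGroup.mk' (Core p H) (F.b * F.a⁻¹) = 1 from
          (QuotientGroup.eq_one_iff _).mpr (coset_conj F.hk), one_mul]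
      exact mem_zpowers _
  obtain ⟨j, hj⟩ := mem_zpowers_iff.mp (hle x.2)
  rw [QuotientGroup.mk'_apply] at hj
  have hap : (F.a : H) ^ p = 1 := by
    refine act_inj S _ (LinearMap.ext fun v => ?_)
    rw [F.tv.pow_eq, ZMod.natCast_self, zero_mul, zero_smul, add_zero, Module.End.one_apply]
  rw [← hj, ← zpow_natCast, zpow_comm, zpow_natCast, ← QuotientGroup.mk_pow, hap,
    QuotientGroup.mk_one, one_zpow]

theorem card_section :
    (Nat.card ↥((Core p H).subgroupOf F.L)).Coprime p :=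
  core_cop.coprime_dvd_left (card_comap_dvd_of_injective _ _ F.L.subtype_injective)

include F in
theorem two_or_three : p = 2 ∨ p = 3 := by
  by_cases hp : p = 2
  · exact Or.inl hp
  refine Or.inr ?_
  obtain ⟨φ, -⟩ := F.exists_equiv (act_inj S) core_cop
  obtain ⟨hn, hpow⟩ := core_section F
  refine eq_three_of_chain hp (H := F.L) ![⊥, (Core p H).subgroupOf F.L, ⊤] rfl rfl
    (fun i => ?_) (fun i => ?_) ⊤ (φ.toMonoidHom.comp (topEquiv : (⊤ : Subgroup F.L) ≃* F.L).toMonoidHom)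
    (φ.surjective.comp (topEquiv : (⊤ : Subgroup F.L) ≃* F.L).surjective)
  · fin_cases i
    · exact normal_bot
    · exact hn
    · exact normal_top
  · fin_cases i
    · refine ⟨Nat.card ↥((Core p H).subgroupOf F.L), fun x hx => ?_, Or.inr (card_section F)⟩
      exact mem_bot.mpr (orderOf_dvd_iff_pow_eq_one.mp (orderOf_dvd_natCard _ hx))
    · exact ⟨p, fun x _ => hpow x, Or.inl ⟨1, (pow_one p).symm⟩⟩

/-- The stabilizer in `H` of the fixed complement, trivial on the plane and commuting with `L`. -/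
def away : Subgroup ↥H where
  carrier := {g | F.Away g}
  one_mem' := ⟨fun l _ => by simp, fun w _ => by simp, fun v => by simp⟩
  mul_mem' := by
    rintro g h ⟨g1, g2, g3⟩ ⟨h1, h2, h3⟩
    refine ⟨fun l hl => by rw [mul_assoc, h1 l hl, ← mul_assoc, g1 l hl, mul_assoc],
      fun w hw => by rw [mul_act, h2 w hw, g2 w hw], fun v => ?_⟩
    rw [mul_act, ← sub_add_sub_cancel _ (act S h v)]
    exact add_mem (g3 _) (h3 v)
  inv_mem' := by
    rintro g ⟨g1, g2, g3⟩
    refine ⟨fun l hl => ?_, fun w hw => ?_, fun v => ?_⟩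
    · exact ((show Commute g l from g1 l hl).inv_left).eq
    · conv_lhs => rw [← g2 w hw]
      exact cancel' g w
    · have := F.C.neg_mem (g3 (act S g⁻¹ v))
      rwa [cancel, neg_sub] at this

/-- Generation of `H` by the transvections. -/
theorem eq_top_of_frames (hS3 : H = ⨆ A : {A : Subgroup G // A ≤ H ∧ IsBestOffenderOn p V A},
    (A : Subgroup G)) (D : Subgroup ↥H) (h : ∀ F' : Frame (act S) (Core p H), F'.a ∈ D) :
    D = ⊤ := by
  refine map_injective H.subtype_injective (le_antisymm ?_ ?_)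
  · exact map_mono le_top
  rw [← MonoidHom.range_eq_map, range_subtype]
  conv_lhs => rw [hS3]
  refine iSup_le fun ⟨A, hAH, hA⟩ => ?_
  by_cases hA1 : A = ⊥
  · exact hA1 ▸ bot_le
  obtain ⟨k, B, hB, -, hs⟩ := S.decompose hAH hA hA1
  refine hs.symm.le.trans (iSup_le fun i => ?_)
  obtain ⟨F', hF'⟩ := exists_frame S ((hB i).1.trans hAH) (hB i).2
  rw [hF', zpowers_le]
  exact mem_map_of_mem _ (h F')

variable (hS3 : H = ⨆ A : {A : Subgroup G // A ≤ H ∧ IsBestOffenderOn p V A}, (A : Subgroup G))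
include hS3

theorem L_sup_away : F.L ⊔ away F = ⊤ :=
  eq_top_of_frames hS3 _ fun F' =>
    (trichotomy (act_inj S) core_cop F F').elim (fun h => mem_sup_left h.1)
      (fun h => mem_sup_right h.1)

theorem L_normal : F.L.Normal := by
  rw [← normalizer_eq_top_iff, eq_top_iff, ← L_sup_away F hS3]
  refine sup_le le_normalizer fun g hg => centralizer_le_normalizer _ ?_
  exact mem_centralizer_iff.mpr fun l hl => (hg.1 l hl).symm

theorem mem_away_iff (g : H) : g ∈ away F ↔ ∀ w ∈ F.W, act S g w = w := by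
  refine ⟨fun h => h.2.1, fun h => ?_⟩
  haveI := L_normal F hS3
  obtain ⟨l, hl, s, hs, rfl⟩ := mem_sup_of_normal_left.mp (L_sup_away F hS3 ▸ mem_top g)
  have hl1 : l = 1 := F.L_eq_one (act_inj S) core_cop hl fun w hw => by
    have := h w hw
    rwa [mul_act, hs.2.1 w hw] at this
  rwa [hl1, one_mul]

theorem H_le_normalizer : H ≤ normalizer ((LG F : Subgroup G) : Set G) := by
  haveI := L_normal F hS3
  refine le_trans ?_ (le_normalizer_map H.subtype)
  rw [normalizer_eq_top, ← MonoidHom.range_eq_map, range_subtype]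

theorem away_eq : (away F).map H.subtype =
    H ⊓ centralizer ((⁅V, LG F⁆ : Subgroup G) : Set G) := by
  rw [commutator_LG]
  ext x
  constructor
  · rintro ⟨g, hg, rfl⟩
    exact ⟨g.2, (mem_centralizer_plane F g).mpr hg.2.1⟩
  · rintro ⟨hx, hc⟩
    exact ⟨⟨x, hx⟩, (mem_away_iff F hS3 _).mpr ((mem_centralizer_plane F ⟨x, hx⟩).mp hc), rfl⟩

theorem away_facts :
    ⁅LG F, (away F).map H.subtype⁆ = ⊥ ∧ LG F ⊓ (away F).map H.subtype = ⊥ ∧
      LG F ⊔ (away F).map H.subtype = H ∧ ⁅V, (away F).map H.subtype⁆ ≤ cv V (LG F) := by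
  refine ⟨?_, ?_, ?_, ?_⟩
  · rw [eq_bot_iff, commutator_le]
    rintro _ ⟨l, hl, rfl⟩ _ ⟨g, hg, rfl⟩
    rw [mem_bot, commutatorElement_eq_one_iff_mul_comm, ← map_mul, ← map_mul, hg.1 l hl]
  · rw [eq_bot_iff_forall]
    rintro _ ⟨⟨l, hl, rfl⟩, ⟨g, hg, e⟩⟩
    obtain rfl := H.subtype_injective e
    rw [F.L_eq_one (act_inj S) core_cop hl hg.2.1, map_one]
  · rw [LG, ← Subgroup.map_sup, L_sup_away F hS3, ← MonoidHom.range_eq_map, range_subtype]
  · rw [cv_LG, commutator_le]
    rintro v hv _ ⟨g, hg, rfl⟩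
    obtain ⟨x, rfl⟩ := exists_coeV S.elab_V hv
    rw [coe_subtype, bracket_eq S, mem_toSub, ← neg_sub]
    exact F.C.neg_mem (hg.2.2 x)

theorem frame_cases (F' : Frame (act S) (Core p H)) :
    LG F' = LG F ∨ ((∀ g ∈ F'.L, g ∈ away F) ∧ F'.W ≤ F.C) := by
  rcases trichotomy (act_inj S) core_cop F F' with ⟨ha, -⟩ | ⟨-, h1, h2⟩
  · left
    haveI := L_normal F hS3
    have hle : F'.L ≤ F.L := by
      rw [Frame.L, closure_le]
      rintro _ (rfl | rfl)
      · exact ha
      · exact (inferInstance : F.L.Normal).conj_mem _ ha _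
    obtain ⟨φ, -⟩ := F.exists_equiv (act_inj S) core_cop
    obtain ⟨φ', -⟩ := F'.exists_equiv (act_inj S) core_cop
    rw [LG, LG, CfsgLib.Solvable.eq_of_le_of_card_le hle
      (Nat.card_congr (φ.trans φ'.symm).toEquiv).le]
  · exact Or.inr ⟨fun g hg => (mem_away_iff F hS3 g).mpr fun w hw => (F'.L_act hg).2 w (h2 hw), h1⟩

end CfsgLib.FFStructure
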