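/-
Consequences of the decomposition: commutators and the global structure.
-/
import Cfsg.Agent.PLocal.FFStructure
import Cfsg.Agent.ZJ.SL2Count

set_option autoImplicit false

namespace CfsgLib.FFStructure

open Subgroup Cfsg CfsgLib.ZJ CfsgLib.FFOffender CfsgLib.FFPlane
open scoped commutatorElement

variable {G : Type*} [Group G] [Finite G] {p : ℕ} [Fact p.Prime] {V H : Subgroup G}
  {S : Setting p V H}

theorem card_comm_min (S : Setting p V H) {A : Subgroup G} (hAH : A ≤ H) (hA : IsMin p V A) :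
    Nat.card ↥(⁅V, A⁆) = p := by
  obtain ⟨F, hF⟩ := exists_frame S hAH hA
  have e : ⁅V, A⁆ = toSub S.elab_V (Submodule.span (ZMod p) {F.ua}) := by
    refine le_antisymm (commutator_le.mpr ?_) (toSub_le _ (Submodule.span_le.mpr ?_))
    · intro v hv z hz
      rw [hF, ← mem_powers_iff_mem_zpowers] at hz
      obtain ⟨j, rfl⟩ := hz
      obtain ⟨x, rfl⟩ := exists_coeV S.elab_V hv
      show ⁅coeV S.elab_V x, ((F.a : H) : G) ^ j⁆ ∈ _
      rw [← SubmonoidClass.coe_pow, bracket_eq S, mem_toSub, F.tv.pow_eq, sub_add_cancel_left]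
      exact neg_mem (Submodule.smul_mem _ _ (Submodule.mem_span_singleton_self _))
    · rintro x rfl
      show coeV S.elab_V F.ua ∈ ⁅V, A⁆
      obtain ⟨v, hv⟩ := F.tv.surj
      have := commutator_mem_commutator (coeV_mem S.elab_V (-v))
        (hF ▸ mem_zpowers _ : ((F.a : H) : G) ∈ A)
      rwa [bracket_eq S, F.tv.eq, map_neg, hv, sub_add_cancel_left, neg_smul, one_smul, neg_neg]
        at this
  rw [e, card_toSub, finrank_span_singleton F.tv.ne, pow_one]

theorem card_sl2_two : Nat.card (Matrix.SpecialLinearGroup (Fin 2) (ZMod 2)) = 6 := by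
  rw [Nat.card_eq_fintype_card]
  decide

theorem card_sl2_three : Nat.card (Matrix.SpecialLinearGroup (Fin 2) (ZMod 3)) = 24 := by
  rw [Nat.card_eq_fintype_card]
  decide +kernel

theorem comm_core (S : Setting p V H) {A : Subgroup G} (hAH : A ≤ H) (hA : IsMin p V A) :
    (p = 2 ∧ IsPGroup 3 ↥(⁅(pPrimeCore p ↥H).map H.subtype, A⁆)) ∨
      (p = 3 ∧ IsPGroup 2 ↥(⁅(pPrimeCore p ↥H).map H.subtype, A⁆) ∧
        ¬ IsMulCommutative ↥(⁅(pPrimeCore p ↥H).map H.subtype, A⁆)) := by
  obtain ⟨F, hF⟩ := exists_frame S hAH hA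
  obtain ⟨φ⟩ := nonempty_sl2 F
  set K := (pPrimeCore p ↥H).map H.subtype
  set D := ⁅K, A⁆
  have hsup : D ⊔ A = LG F := comm_core_sup F hF
  have hDK : D ≤ K :=
    le_normalizer_iff_commutator_le_left.1 (le_normalizer_core hAH : A ≤ normalizer (K : Set G))
  have hDp : (Nat.card D).Coprime p :=
    (core_coprime (p := p) S).coprime_dvd_left (card_dvd_of_le hDK)
  have hd : Nat.card D ∣ Nat.card (LG F) := card_dvd_of_le (hsup ▸ le_sup_left)
  rw [Nat.card_congr φ.toEquiv] at hd
  rcases two_or_three F with h | h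
  · refine Or.inl ⟨h, ?_⟩
    subst h
    rw [card_sl2_two] at hd
    have h3 : Nat.card D ∣ 3 := hDp.dvd_of_dvd_mul_left (show Nat.card D ∣ 2 * 3 from hd)
    rcases (Nat.dvd_prime Nat.prime_three).mp h3 with h | h
    · exact IsPGroup.of_card (n := 0) (by rw [h, pow_zero])
    · exact IsPGroup.of_card (n := 1) (by rw [h, pow_one])
  · refine Or.inr ⟨h, ?_⟩
    subst h
    rw [card_sl2_three] at hd
    have h8 : Nat.card D ∣ 2 ^ 3 := hDp.dvd_of_dvd_mul_left (show Nat.card D ∣ 3 * 8 from hd)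
    obtain ⟨k, -, hk⟩ := (Nat.dvd_prime_pow Nat.prime_two).1 h8
    have h2 : IsPGroup 2 D := IsPGroup.of_card hk
    refine ⟨h2, fun hc => ?_⟩
    have hn : A ≤ normalizer (D : Set G) := normalizer_commutator_ge_right _ _
    have hle : Nat.card (LG F) ≤ Nat.card D * 3 := by
      rw [← hsup, ← (S.min_card hAH hA).1, sup_comm, mul_comm]
      exact Nat.le_of_dvd (Nat.mul_pos Nat.card_pos Nat.card_pos)
        (Dvd.intro _ (CfsgLib.Solvable.card_sup_mul_card_inf hn))
    rw [Nat.card_congr φ.toEquiv, card_sl2_three] at hle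
    have hk3 : Nat.card D = 8 := le_antisymm (Nat.le_of_dvd (by norm_num) h8) (by omega)
    obtain ⟨T, hT⟩ := (h2.comap_subtype (K := LG F)).exists_le_sylow
    have hD8 : Nat.card (D.subgroupOf (LG F)) = 8 := by
      rw [Nat.card_congr (subgroupOfEquivOfLe (hsup ▸ le_sup_left : D ≤ LG F)).toEquiv, hk3]
    haveI : Fact (Nat.Prime 2) := ⟨Nat.prime_two⟩
    have hT8 : Nat.card T = 8 := by
      rw [T.card_eq_multiplicity, Nat.card_congr φ.toEquiv, card_sl2_three,
        show (24 : ℕ).factorization 2 = 3 by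
          rw [Nat.factorization_def _ Nat.prime_two, show (24 : ℕ) = 2 ^ 3 * 3 by norm_num,
            padicValNat.mul (by norm_num) (by norm_num), padicValNat.prime_pow,
            padicValNat.eq_zero_of_not_dvd (by norm_num)]]
      norm_num
    refine sylow_two_noncomm (p := 3) (by norm_num) ⊤
      (φ.toMonoidHom.comp (topEquiv : (⊤ : Subgroup (LG F)) ≃* LG F).toMonoidHom)
      (φ.surjective.comp (topEquiv : (⊤ : Subgroup (LG F)) ≃* LG F).surjective) T ?_
    have hTD : (T : Subgroup (LG F)) = D.subgroupOf (LG F) :=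
      (CfsgLib.Solvable.eq_of_le_of_card_le hT (hT8.le.trans hD8.ge)).symm
    refine ⟨⟨fun x y => Subtype.ext (Subtype.ext ?_)⟩⟩
    have hmem : ∀ z : ↥(T : Subgroup (LG F)), ((z : LG F) : G) ∈ D := fun z =>
      mem_subgroupOf.mp (hTD ▸ z.2 : (z : LG F) ∈ D.subgroupOf (LG F))
    simpa using congrArg Subtype.val (hc.is_comm.comm ⟨_, hmem x⟩ ⟨_, hmem y⟩)

end CfsgLib.FFStructure

namespace CfsgLib.FFStructure

open Subgroup Cfsg CfsgLib.ZJ CfsgLib.FFOffender CfsgLib.FFPlane
open scoped commutatorElement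

variable {G : Type*} [Group G] [Finite G] {p : ℕ} [Fact p.Prime] {V H : Subgroup G}

theorem H_le_of_min (S : Setting p V H)
    (hS3 : H = ⨆ A : {A : Subgroup G // A ≤ H ∧ IsBestOffenderOn p V A}, (A : Subgroup G))
    (D : Subgroup G) (h : ∀ A ≤ H, IsMin p V A → A ≤ D) : H ≤ D := by
  conv_lhs => rw [hS3]
  refine iSup_le fun ⟨A, hAH, hA⟩ => ?_
  by_cases hA1 : A = ⊥
  · exact hA1 ▸ bot_le
  obtain ⟨k, B, hB, -, hs⟩ := S.decompose hAH hA hA1
  exact hs.symm.le.trans (iSup_le fun i => h _ ((hB i).1.trans hAH) (hB i).2)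

/-- The structure theorem, for any family of frames containing all minimal offenders. -/
theorem structure_family (S : Setting p V H)
    (hS3 : H = ⨆ A : {A : Subgroup G // A ≤ H ∧ IsBestOffenderOn p V A}, (A : Subgroup G))
    {ι : Type*} [Finite ι] (E : ι → Subgroup G) (hE : Function.Injective E)
    (hF : ∀ i, ∃ F : Frame (act S) (Core p H), LG F = E i)
    (hall : ∀ A ≤ H, IsMin p V A → ∃ i, A ≤ E i) :
    iSupIndep E ∧ (⨆ i, E i) = H ∧
      iSupIndep (fun o : Option ι => o.elim (cv V H) fun i => ⁅V, E i⁆) ∧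
      cv V H ⊔ (⨆ i, ⁅V, E i⁆) = V := by
  classical
  choose F hF using hF
  have hEH : ∀ i, E i ≤ H := fun i => hF i ▸ LG_le (F i)
  have hle : ∀ i j, j ≠ i → E j ≤ (away (F i)).map H.subtype ∧ ⁅V, E j⁆ ≤ cv V (E i) := by
    intro i j hij
    rcases frame_cases (F i) hS3 (F j) with h | ⟨h1, h2⟩
    · exact absurd (hE ((hF j).symm.trans (h.trans (hF i)))) hij
    · refine ⟨(hF j) ▸ map_mono h1, ?_⟩
      rw [← hF j, ← hF i, commutator_LG, cv_LG]
      exact toSub_mono _ h2
  have hgen : ∀ D : Subgroup G, (∀ i, E i ≤ D) → H ≤ D := fun D hD =>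
    H_le_of_min S hS3 D fun A hAH hA => by
      obtain ⟨i, hi⟩ := hall A hAH hA
      exact hi.trans (hD i)
  have hsup : (⨆ i, E i) = H := le_antisymm (iSup_le hEH) (hgen _ (le_iSup E))
  have hWinf : ∀ i, ⁅V, E i⁆ ⊓ cv V (E i) = ⊥ := fun i => by rw [← hF i]; exact plane_inf (F i)
  have hWV : ∀ i, ⁅V, E i⁆ ≤ V := fun i => by rw [← hF i, commutator_LG]; exact toSub_le_V _ _
  have hVc : V ≤ centralizer (V : Set G) := Thompson.elab_le_centralizer S.elab_V
  have hnorm : ∀ D D' : Subgroup G, D ≤ V → D' ≤ V → D ≤ normalizer (D' : Set G) :=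
    fun D D' h h' => (h.trans (hVc.trans (centralizer_le h'))).trans (centralizer_le_normalizer _)
  have hsV : ∀ s : Finset ι, s.sup (fun i => ⁅V, E i⁆) ≤ V := fun s => Finset.sup_le fun i _ => hWV i
  have hscv : ∀ (i : ι) (s : Finset ι), i ∉ s → s.sup (fun i => ⁅V, E i⁆) ≤ cv V (E i) :=
    fun i s hi => Finset.sup_le fun j hj => (hle i j fun e => hi (e ▸ hj)).2
  refine ⟨fun i => ?_, hsup, ?_, ?_⟩
  · rw [disjoint_iff, eq_bot_iff, ← (away_facts (F i) hS3).2.1, hF i]
    exact inf_le_inf_left _ (iSup₂_le fun j hj => (hle i j hj).1)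
  · rintro (_ | i)
    · have key : ∀ s : Finset ι, cv V H ⊓ s.sup (fun i => ⁅V, E i⁆) = ⊥ := by
        intro s
        induction s using Finset.induction with
        | empty => simp
        | insert i s hi ih =>
          rw [Finset.sup_insert, eq_bot_iff_forall]
          rintro x ⟨hx, hx'⟩
          replace hx' : x ∈ ⁅V, E i⁆ ⊔ s.sup (fun i => ⁅V, E i⁆) := hx'
          rw [← SetLike.mem_coe, coe_mul_of_left_le_normalizer_right _ _
            (hnorm _ _ (hWV i) (hsV s))] at hx'
          obtain ⟨w, hw, y, hy, rfl⟩ := hx'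
          have hw' : w ∈ cv V (E i) := by
            have h1 : w * y ∈ cv V (E i) := ⟨hx.1, centralizer_le (hEH i) hx.2⟩
            simpa using mul_mem h1 (inv_mem (hscv i s hi hy))
          have hwb : w ∈ ⁅V, E i⁆ ⊓ cv V (E i) := ⟨hw, hw'⟩
          rw [hWinf i, mem_bot] at hwb
          subst hwb
          have hyb : 1 * y ∈ cv V H ⊓ s.sup (fun i => ⁅V, E i⁆) := ⟨hx, by simpa using hy⟩
          rwa [ih, mem_bot] at hyb
      haveI := Fintype.ofFinite ι
      rw [disjoint_iff, eq_bot_iff, ← key Finset.univ]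
      refine inf_le_inf_left _ (iSup₂_le ?_)
      rintro (_ | j) hj
      · exact absurd rfl hj
      · exact Finset.le_sup (f := fun i => ⁅V, E i⁆) (Finset.mem_univ j)
    · rw [disjoint_iff, eq_bot_iff, ← hWinf i]
      refine inf_le_inf_left _ (iSup₂_le ?_)
      rintro (_ | j) hj
      · exact inf_le_inf_left _ (centralizer_le (hEH i))
      · exact (hle i j fun e => hj (congrArg some e)).2
  · refine le_antisymm (sup_le inf_le_left (iSup_le hWV)) fun v hv => ?_
    have key : ∀ s : Finset ι, ∃ w ∈ s.sup (fun i => ⁅V, E i⁆),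
        ∀ i ∈ s, w⁻¹ * v ∈ cv V (E i) := by
      intro s
      induction s using Finset.induction with
      | empty => exact ⟨1, one_mem _, by simp⟩
      | insert i s hi ih =>
        obtain ⟨w, hw, hws⟩ := ih
        have hc : w⁻¹ * v ∈ ⁅V, E i⁆ ⊔ cv V (E i) := by
          rw [← hF i, plane_sup]
          exact mul_mem (inv_mem (hsV s hw)) hv
        rw [← SetLike.mem_coe, coe_mul_of_left_le_normalizer_right _ _
          (hnorm _ _ (hWV i) inf_le_left)] at hc
        obtain ⟨w', hw', c', hc', e⟩ := hc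
        replace e : w' * c' = w⁻¹ * v := e
        refine ⟨w * w', ?_, fun j hj => ?_⟩
        · rw [Finset.sup_insert]
          exact mul_mem (mem_sup_right hw) (mem_sup_left hw')
        · rw [show (w * w')⁻¹ * v = c' by rw [mul_inv_rev, mul_assoc, ← e]; group]
          rcases Finset.mem_insert.mp hj with rfl | hj
          · exact hc'
          · have h1 : w' ∈ cv V (E j) := (hle j i fun e => hi (e ▸ hj)).2 hw'
            rw [show c' = w'⁻¹ * (w⁻¹ * v) by rw [← e]; group]
            exact mul_mem (inv_mem h1) (hws j hj)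
    haveI := Fintype.ofFinite ι
    obtain ⟨w, hw, hws⟩ := key Finset.univ
    have hw' : w ∈ ⨆ i, ⁅V, E i⁆ :=
      (Finset.sup_le fun i _ => le_iSup (fun i => ⁅V, E i⁆) i : Finset.univ.sup _ ≤ _) hw
    have hfix : w⁻¹ * v ∈ centralizer (H : Set G) := by
      have h1 : H ≤ centralizer ({w⁻¹ * v} : Set G) := hgen _ fun i z hz =>
        mem_centralizer_singleton_iff.mpr (mem_centralizer_iff.mp (hws i (Finset.mem_univ i)).2 z hz)
      exact mem_centralizer_iff.mpr fun z hz => mem_centralizer_singleton_iff.mp (h1 hz)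
    rw [show v = w * (w⁻¹ * v) by group]
    exact mul_mem (mem_sup_right hw')
      (mem_sup_left ⟨V.mul_mem (V.inv_mem (hsV _ hw)) hv, hfix⟩)

end CfsgLib.FFStructure
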