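/-
Fixed points of a q-group permuting the SL₂(p) factors of a failure of factorization.
-/
import Cfsg.Agent.PLocal.FFMain
import Cfsg.Agent.PLocal.Core
import Mathlib.LinearAlgebra.Matrix.GeneralLinearGroup.Card

set_option autoImplicit false
set_option linter.unusedSectionVars false

namespace CfsgLib.FFOrbit

open Subgroup Cfsg CfsgLib.FFOffender CfsgLib.FFStructure CfsgLib.FFPlane
open scoped commutatorElement

variable {G : Type*} [Group G] [Finite G] {p : ℕ} [Fact p.Prime] {V H : Subgroup G}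

theorem isMin_map {g : G} (hgV : g ∈ normalizer (V : Set G)) {A : Subgroup G}
    (hA : FFOffender.IsMin p V A) : FFOffender.IsMin p V (A.map (MulAut.conj g).toMonoidHom) := by
  set c := (MulAut.conj g).toMonoidHom with hc
  have hcinj : Function.Injective c := (MulAut.conj g).injective
  have hV : V.map c = V := mem_normalizer_iff_map_conj_eq.mp hgV
  have hcv : ∀ B : Subgroup G, cv V (B.map c) = (cv V B).map c := by
    intro B
    have hc' : (centralizer (B : Set G)).map c = centralizer ((B.map c : Subgroup G) : Set G) :=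
      CfsgLib.PLocalCore.map_centralizer (MulAut.conj g) B
    rw [cv, cv, map_inf _ _ _ hcinj, hV, hc']
  have hcard : ∀ B : Subgroup G, Nat.card (B.map c) = Nat.card B := fun B =>
    card_map_of_injective hcinj
  have hpull : ∀ {B : Subgroup G}, B ≤ A.map c → ∃ B₀ ≤ A, B₀.map c = B := fun {B} hB =>
    ⟨B.comap c, (comap_mono hB).trans (comap_map_eq_self_of_injective hcinj A).le,
      map_comap_eq_self (hB.trans (map_le_range c A))⟩
  have hmemC : ∀ {y : G}, y ∈ centralizer (V : Set G) → c y ∈ centralizer (V : Set G) := fun {y} hy => by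
    rw [← hV, ← CfsgLib.PLocalCore.map_centralizer (MulAut.conj g) V]
    exact mem_map_of_mem c hy
  have hbest : ∀ {B : Subgroup G}, IsBestOffenderOn p V B → IsBestOffenderOn p V (B.map c) := by
    intro B hB
    refine ⟨fun D hD => ?_, ?_, ?_⟩
    · obtain ⟨D₀, hD₀, rfl⟩ : ∃ D₀ ≤ B, D₀.map c = D :=
        ⟨D.comap c, (comap_mono hD).trans (comap_map_eq_self_of_injective hcinj B).le,
          map_comap_eq_self (hD.trans (map_le_range c B))⟩
      show _ * Nat.card (cv V (D₀.map c)) ≤ _ * Nat.card (cv V (B.map c))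
      rw [hcard, hcard, hcv, hcv, card_map_of_injective hcinj, card_map_of_injective hcinj]
      exact hB.1 D₀ hD₀
    · rw [← map_commutator]
      rintro _ ⟨y, hy, rfl⟩
      exact hmemC (hB.2.1 hy)
    · rintro _ ⟨y, hy, rfl⟩
      rw [← map_pow]
      exact hmemC (hB.2.2 y hy)
  refine ⟨hbest hA.1, fun h => hA.2.1 ?_, fun D hD hDb hne => ?_⟩
  · rw [← hV, ← map_commutator, map_eq_bot_iff_of_injective _ hcinj] at h
    exact h
  · obtain ⟨D₀, hD₀, rfl⟩ := hpull hD
    have hb₀ : IsBestOffenderOn p V D₀ := by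
      refine ⟨fun B hB => ?_, ?_, ?_⟩
      · have : _ * Nat.card (cv V (B.map c)) ≤ _ * Nat.card (cv V (D₀.map c)) :=
          hDb.1 _ (map_mono hB)
        rwa [hcard, hcard, hcv, hcv, card_map_of_injective hcinj,
          card_map_of_injective hcinj] at this
      · intro y hy
        have h1 := hDb.2.1 (map_commutator D₀ D₀ c ▸ mem_map_of_mem c hy)
        rw [← hV, ← CfsgLib.PLocalCore.map_centralizer (MulAut.conj g) V] at h1
        exact (mem_map_iff_mem hcinj).mp h1
      · intro y hy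
        have h1 := hDb.2.2 _ (mem_map_of_mem c hy)
        rw [← map_pow, ← hV, ← CfsgLib.PLocalCore.map_centralizer (MulAut.conj g) V] at h1
        exact (mem_map_iff_mem hcinj).mp h1
    rw [hA.2.2 D₀ hD₀ hb₀ fun h0 => hne ?_]
    rw [← hV, ← map_commutator, h0, Subgroup.map_bot]

theorem core_map_eq {g : G} (hgH : g ∈ normalizer (H : Set G)) :
    ((pPrimeCore p ↥H).map H.subtype).map (MulAut.conj g).toMonoidHom =
      (pPrimeCore p ↥H).map H.subtype := by
  refine CfsgLib.Solvable.eq_of_le_of_card_le ?_ (card_map_of_injective (MulAut.conj g).injective).ge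
  set M := (pPrimeCore p ↥H).map H.subtype with hM
  have hle : M.map (MulAut.conj g).toMonoidHom ≤ H :=
    (map_mono (map_subtype_le _)).trans (mem_normalizer_iff_map_conj_eq.mp hgH).le
  have hHM : H ≤ normalizer (M : Set G) := FFOffender.le_normalizer_core (p := p) le_rfl
  have hn : ((M.map (MulAut.conj g).toMonoidHom).subgroupOf H).Normal := by
    refine (normal_subgroupOf_iff_le_normalizer hle).mpr ?_
    calc H = H.map (MulAut.conj g).toMonoidHom := (mem_normalizer_iff_map_conj_eq.mp hgH).symm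
      _ ≤ (normalizer (M : Set G)).map (MulAut.conj g).toMonoidHom := map_mono hHM
      _ ≤ _ := le_normalizer_map _
  have hc : (Nat.card ↥((M.map (MulAut.conj g).toMonoidHom).subgroupOf H)).Coprime p := by
    rw [Nat.card_congr (subgroupOfEquivOfLe hle).toEquiv,
      card_map_of_injective (MulAut.conj g).injective, hM, card_map_of_injective H.subtype_injective]
    exact CfsgLib.Solvable.coprime_card_pPrimeCore p
  rw [← inf_eq_left.mpr hle, ← subgroupOf_map_subtype, hM]
  exact map_mono (CfsgLib.Solvable.le_pPrimeCore p hn hc)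

variable {S : Setting p V H} (F : Frame (act S) (Core p H))
  (hS3 : H = ⨆ A : {A : Subgroup G // A ≤ H ∧ IsBestOffenderOn p V A}, (A : Subgroup G))
  (hmin : FFOffender.IsMin p V (zpowers ((F.a : H) : G)))

include hS3 hmin in
/-- A conjugate of a factor is the factor or lives away from it. -/
theorem conj_cases {g : G} (hgV : g ∈ normalizer (V : Set G)) (hgH : g ∈ normalizer (H : Set G)) :
    ((LG F).map (MulAut.conj g).toMonoidHom = LG F ∧
        (⁅V, LG F⁆).map (MulAut.conj g).toMonoidHom = ⁅V, LG F⁆) ∨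
      ((∀ e ∈ LG F, g * e * g⁻¹ ∈ (away F).map H.subtype) ∧
        ∀ w ∈ ⁅V, LG F⁆, g * w * g⁻¹ ∈ cv V (LG F)) := by
  set c := (MulAut.conj g).toMonoidHom with hc
  have hA' := isMin_map hgV hmin
  have hA'H : (zpowers ((F.a : H) : G)).map c ≤ H :=
    (map_mono (zpowers_le.mpr F.a.2)).trans (mem_normalizer_iff_map_conj_eq.mp hgH).le
  obtain ⟨F', hF'⟩ := exists_frame S hA'H hA'
  have hLG : LG F' = (LG F).map c := by
    rw [← comm_core_sup F' hF', ← comm_core_sup F rfl, Subgroup.map_sup, map_commutator,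
      core_map_eq hgH]
  have hW : ⁅V, LG F'⁆ = (⁅V, LG F⁆).map c := by
    rw [hLG, map_commutator, show V.map c = V from mem_normalizer_iff_map_conj_eq.mp hgV]
  rcases frame_cases F hS3 F' with h | ⟨h1, h2⟩
  · exact Or.inl ⟨hLG ▸ h, by rw [← hW, h]⟩
  · refine Or.inr ⟨fun e he => ?_, fun w hw => ?_⟩
    · have he' : g * e * g⁻¹ ∈ LG F' := hLG ▸ mem_map_of_mem c he
      exact map_mono h1 he'
    · have hw' : g * w * g⁻¹ ∈ ⁅V, LG F'⁆ := hW ▸ mem_map_of_mem c hw
      rw [commutator_LG] at hw'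
      rw [cv_LG]
      exact toSub_mono _ h2 hw'

theorem fix_plane {W : Subgroup G} (hW : IsElementaryAbelian p W) (hc : Nat.card W = p ^ 2) {q : ℕ}
    (hq : q.Prime) (h5 : 5 ≤ q) (hp : p = 2 ∨ p = 3) {x : G} (hx : x ∈ normalizer (W : Set G))
    (hxq : x ^ q = 1) : x ∈ centralizer (W : Set G) := by
  classical
  set M := ZJ.ElabMod W hW
  haveI : Finite M := inferInstanceAs (Finite (Additive W))
  have hfr : Module.finrank (ZMod p) M = 2 := by
    have h := Module.natCard_eq_pow_finrank (K := ZMod p) (V := M)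
    rw [Nat.card_zmod] at h
    have h' : p ^ 2 = p ^ Module.finrank (ZMod p) M := hc.symm.trans h
    exact (Nat.pow_right_injective (Fact.out : p.Prime).two_le h').symm
  set b := Module.finBasisOfFinrankEq (ZMod p) M hfr
  set u : (Matrix.GeneralLinearGroup (Fin 2) (ZMod p)) :=
    Units.mapEquiv (LinearMap.toMatrixAlgEquiv b).toMulEquiv ((ZJ.conjEnd hW).toHomUnits ⟨x, hx⟩)
  have huq : u ^ q = 1 := by
    rw [← map_pow, ← map_pow, show (⟨x, hx⟩ : normalizer (W : Set G)) ^ q = 1 from Subtype.ext hxq,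
      map_one, map_one]
  have hcard : ¬ q ∣ Nat.card (Matrix.GeneralLinearGroup (Fin 2) (ZMod p)) := by
    rw [Matrix.card_GL_field, Fin.prod_univ_two]
    simp only [ZMod.card, Fin.val_zero, Fin.val_one, pow_zero, pow_one]
    have h23 : ∀ a b : ℕ, q ∣ 2 ^ a * 3 ^ b → False := fun a b h => by
      rcases (Nat.Prime.dvd_mul hq).mp h with h | h <;>
        have := (Nat.prime_dvd_prime_iff_eq hq (by norm_num)).mp (hq.dvd_of_dvd_pow h) <;> omega
    rcases hp with rfl | rfl
    · exact fun h => h23 1 1 (by simpa using h)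
    · exact fun h => h23 4 1 (by simpa using h)
  have hu : u = 1 := by
    rcases (Nat.dvd_prime hq).mp (orderOf_dvd_of_pow_eq_one huq) with h | h
    · exact orderOf_eq_one_iff.mp h
    · exact absurd (h ▸ orderOf_dvd_natCard u) hcard
  rw [map_eq_one_iff _ (MulEquiv.injective _)] at hu
  exact (ZJ.conjEnd_eq_one_iff hW ⟨x, hx⟩).mp (congrArg Units.val hu)

section fixed

variable {q : ℕ} [Fact q.Prime] {X : Subgroup G} (hX : IsElementaryAbelian q X)
  (h5 : 5 ≤ q) (hXV : X ≤ normalizer (V : Set G)) (hXH : X ≤ normalizer (H : Set G))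

include hS3 hmin hX h5 hXV hXH in
/-- An element of `X` fixes the factor pointwise or moves it away. -/
theorem dichotomy {x : G} (hx : x ∈ X) :
    ((∀ e ∈ LG F, x * e * x⁻¹ = e) ∧ ∀ w ∈ ⁅V, LG F⁆, x * w * x⁻¹ = w) ∨
      ((∀ e ∈ LG F, x * e * x⁻¹ ∈ (away F).map H.subtype) ∧
        ∀ w ∈ ⁅V, LG F⁆, x * w * x⁻¹ ∈ cv V (LG F)) := by
  refine (conj_cases F hS3 hmin (hXV hx) (hXH hx)).imp (fun ⟨hE, hW⟩ => ?_) id
  have hWV : ⁅V, LG F⁆ ≤ V := commutator_LG F ▸ toSub_le_V _ _
  have hxc := fix_plane (Thompson.elab_mono S.elab_V hWV) (card_plane F) Fact.out h5 (two_or_three F)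
    (mem_normalizer_iff_map_conj_eq.mpr hW) (hX.2 x hx)
  refine ⟨fun e he => ?_, fun w hw => ?_⟩
  · have he' : x * e * x⁻¹ ∈ LG F := hE ▸ mem_map_of_mem _ he
    have hc : x * e * x⁻¹ * e⁻¹ ∈ LG F ⊓ centralizer ((⁅V, LG F⁆ : Subgroup G) : Set G) := by
      refine ⟨(LG F).mul_mem he' ((LG F).inv_mem he), mem_centralizer_iff.mpr fun w hw => ?_⟩
      have hn : e ∈ normalizer ((⁅V, LG F⁆ : Subgroup G) : Set G) :=
        normalizer_commutator_ge_right _ _ he
      have hxi := inv_mem hxc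
      have h1 : e⁻¹ * w * e ∈ ⁅V, LG F⁆ := (mem_normalizer_iff''.mp hn w).mp hw
      have h2 : (e⁻¹ * w * e) * x⁻¹ = x⁻¹ * (e⁻¹ * w * e) := mem_centralizer_iff.mp hxi _ h1
      have h3 : w * x = x * w := mem_centralizer_iff.mp hxc _ hw
      calc w * (x * e * x⁻¹ * e⁻¹) = (w * x) * e * x⁻¹ * e⁻¹ := by group
        _ = x * e * ((e⁻¹ * w * e) * x⁻¹) * e⁻¹ := by rw [h3]; group
        _ = x * e * x⁻¹ * e⁻¹ * w := by rw [h2]; group
    rw [LG_inf_centralizer, mem_bot, mul_inv_eq_one] at hc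
    exact hc
  · rw [← mem_centralizer_iff.mp hxc w hw, mul_inv_cancel_right]

/-- The elements of `X` fixing the factor. -/
def stab (X : Subgroup G) : Subgroup ↥X :=
  (centralizer (LG F : Set G) ⊓ centralizer ((⁅V, LG F⁆ : Subgroup G) : Set G)).subgroupOf X

include hX in
theorem stab_coprime {n : ℕ} (hn : ¬ q ∣ n) : n.Coprime (Nat.card (stab F X)) := by
  obtain ⟨k, hk⟩ := IsPGroup.iff_card.mp ((Thompson.elab_isPGroup hX).to_subgroup (stab F X))
  rw [hk]
  exact ((Nat.coprime_comm).mp ((Fact.out : q.Prime).coprime_iff_not_dvd.mpr hn)).pow_right k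

include hS3 hmin hX h5 hXV hXH in
theorem stab_cases (x : X) :
    (x ∈ stab F X ∧ (∀ e ∈ LG F, (x : G) * e * (x : G)⁻¹ = e) ∧
        ∀ w ∈ ⁅V, LG F⁆, (x : G) * w * (x : G)⁻¹ = w) ∨
      ((x ∉ stab F X) ∧ (∀ e ∈ LG F, (x : G) * e * (x : G)⁻¹ ∈ (away F).map H.subtype) ∧
        ∀ w ∈ ⁅V, LG F⁆, (x : G) * w * (x : G)⁻¹ ∈ cv V (LG F)) := by
  rcases dichotomy F hS3 hmin hX h5 hXV hXH x.2 with ⟨h1, h2⟩ | h
  · exact Or.inl ⟨⟨mem_centralizer_iff.mpr fun e he => (mul_inv_eq_iff_eq_mul.mp (h1 e he)).symm,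
      mem_centralizer_iff.mpr fun w hw => (mul_inv_eq_iff_eq_mul.mp (h2 w hw)).symm⟩, h1, h2⟩
  · refine Or.inr ⟨fun hx => ?_, h⟩
    have ha : ((F.a : H) : G) ∈ LG F := mem_map_of_mem _ F.a_mem
    have h3 : (x : G) * ((F.a : H) : G) * (x : G)⁻¹ = ((F.a : H) : G) := by
      have h0 : ((F.a : H) : G) * (x : G) = (x : G) * ((F.a : H) : G) :=
        mem_centralizer_iff.mp hx.1 _ ha
      rw [← h0, mul_inv_cancel_right]
    have h4 := h.1 _ ha
    rw [h3] at h4
    have h5 := (away_facts F hS3).2.1 ▸ mem_inf.mpr ⟨ha, h4⟩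
    rw [mem_bot] at h5
    exact F.tv.ne (by
      obtain ⟨v, hv⟩ := F.tv.surj
      have := F.tv.eq v
      rwa [show F.a = 1 from Subtype.ext h5, map_one, Module.End.one_apply, hv, one_smul,
        left_eq_add] at this)

include hS3 hmin hX h5 hXV hXH in
/-- Every element of the factor is the component of an element fixed by `X`. -/
theorem exists_fixed (hqE : ¬ q ∣ Nat.card (LG F)) {e : G} (he : e ∈ LG F) :
    ∃ d ∈ H ⊓ centralizer (X : Set G), ∃ r ∈ (away F).map H.subtype, d = e * r := by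
  classical
  obtain ⟨k, hk⟩ := exists_pow_eq_self_of_coprime (x := e) (n := Nat.card (stab F X))
    (((stab_coprime F hX hqE).coprime_dvd_left ((LG F).orderOf_dvd_natCard he)).symm)
  set m := Nat.card (stab F X) with hm
  set e₀ := e ^ k with he₀
  have he₀E : e₀ ∈ LG F := pow_mem he k
  set s : Set G := Set.range fun x : X => (x : G) * e₀ * (x : G)⁻¹ with hs
  have hcomm : ∀ a ∈ s, ∀ b ∈ s, a * b = b * a := by
    rintro _ ⟨x, rfl⟩ _ ⟨y, rfl⟩
    have key : Commute e₀ ((x⁻¹ * y : X) * e₀ * ((x⁻¹ * y : X) : G)⁻¹) := by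
      rcases stab_cases F hS3 hmin hX h5 hXV hXH (x⁻¹ * y) with ⟨-, h, -⟩ | ⟨-, h, -⟩
      · rw [h _ he₀E]
      · exact mem_centralizer_iff.mp
          (commutator_eq_bot_iff_le_centralizer.mp (away_facts F hS3).1 he₀E) _ (h _ he₀E) |>.symm
    have := key.map (MulAut.conj (x : G)).toMonoidHom
    simp only [MulEquiv.coe_toMonoidHom, MulAut.conj_apply, Subgroup.coe_mul, Subgroup.coe_inv] at this
    convert this.eq using 1 <;> group
  haveI := isMulCommutative_closure hcomm
  let f : X → ↥(closure s) := fun x => ⟨(x : G) * e₀ * (x : G)⁻¹, subset_closure ⟨x, rfl⟩⟩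
  haveI := Fintype.ofFinite X
  letI : CommGroup ↥(closure s) :=
    { (inferInstance : Group ↥(closure s)) with
      mul_comm := fun a b => setLike_mul_comm a.2 b.2 |> Subtype.ext }
  set d : ↥(closure s) := ∏ x, f x with hd
  have hfix : ∀ y : X, (y : G) * d * (y : G)⁻¹ = d := by
    intro y
    have hmem : ∀ a ∈ closure s, (y : G) * a * (y : G)⁻¹ ∈ closure s := by
      intro a ha
      induction ha using closure_induction with
      | mem a ha =>
        obtain ⟨x, rfl⟩ := ha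
        exact subset_closure ⟨y * x, by simp only [Subgroup.coe_mul]; group⟩
      | one => simp
      | mul a b _ _ ha hb =>
        rw [show (y : G) * (a * b) * (y : G)⁻¹ = (y : G) * a * (y : G)⁻¹ * ((y : G) * b * (y : G)⁻¹) by group]
        exact mul_mem ha hb
      | inv a _ ha =>
        rw [show (y : G) * a⁻¹ * (y : G)⁻¹ = ((y : G) * a * (y : G)⁻¹)⁻¹ by group]
        exact inv_mem ha
    let c : ↥(closure s) →* ↥(closure s) :=
      MonoidHom.mk' (fun a => ⟨(y : G) * a * (y : G)⁻¹, hmem a a.2⟩) fun a b =>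
        Subtype.ext (by simp only [Subgroup.coe_mul]; group)
    have h : c d = d := by
      rw [hd, map_prod]
      refine Fintype.prod_equiv (Equiv.mulLeft y) _ _ fun x => Subtype.ext ?_
      simp only [c, f, MonoidHom.mk'_apply, Equiv.coe_mulLeft, Subgroup.coe_mul]
      group
    exact congrArg Subtype.val h
  have hdH : (d : G) ∈ H := by
    have : closure s ≤ H := (closure_le _).mpr (by
      rintro _ ⟨x, rfl⟩
      exact (mem_normalizer_iff.mp (hXH x.2) e₀).mp (LG_le F he₀E))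
    exact this d.2
  refine ⟨d, ⟨hdH, mem_centralizer_iff.mpr fun y hy => mul_inv_eq_iff_eq_mul.mp (hfix ⟨y, hy⟩)⟩,
    (∏ x ∈ Finset.univ.filter (fun x => x ∉ stab F X), f x : ↥(closure s)), ?_, ?_⟩
  · refine Subgroup.mem_subgroupOf.mp (Subgroup.prod_mem _ fun x hx => ?_)
    rcases stab_cases F hS3 hmin hX h5 hXV hXH x with ⟨h0, -⟩ | ⟨-, h, -⟩
    · exact absurd h0 (Finset.mem_filter.mp hx).2
    · exact h _ he₀E
  · have h1 : (∏ x ∈ Finset.univ.filter (fun x => x ∈ stab F X), f x) =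
        (⟨e₀, by simpa using subset_closure (k := s) ⟨1, rfl⟩⟩ : ↥(closure s)) ^ m := by
      rw [Finset.prod_eq_pow_card (b := (⟨e₀, _⟩ : ↥(closure s))) fun x hx => Subtype.ext ?_,
        hm, Nat.card_eq_fintype_card, Fintype.card_subtype]
      rcases stab_cases F hS3 hmin hX h5 hXV hXH x with ⟨-, h, -⟩ | ⟨h0, -⟩
      · exact h _ he₀E
      · exact absurd (Finset.mem_filter.mp hx).2 h0
    rw [hd, ← Finset.prod_filter_mul_prod_filter_not Finset.univ (fun x => x ∈ stab F X), h1,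
      Subgroup.coe_mul, SubmonoidClass.coe_pow]
    congr 1
    show (e ^ k) ^ m = e
    rw [← pow_mul, mul_comm, pow_mul]
    exact hk

include hS3 hmin hX h5 hXV hXH in
/-- A plane fixed by `X`, with an `X`-fixed group inducing `SL₂(p)` on it. -/
theorem exists_fixed_plane (hqE : ¬ q ∣ Nat.card (LG F)) :
    ∃ W D : Subgroup G, W ≤ V ⊓ centralizer (X : Set G) ∧ Nat.card W = p ^ 2 ∧
      D ≤ H ⊓ centralizer (X : Set G) ∧ D ≤ normalizer (W : Set G) ∧
      ∃ f : D →* Matrix.SpecialLinearGroup (Fin 2) (ZMod p),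
        Function.Surjective f ∧ f.ker = (centralizer (W : Set G)).subgroupOf D := by
  classical
  set W₁ := ⁅V, LG F⁆ with hW₁
  have hW₁V : W₁ ≤ V := le_of_eq_of_le (commutator_LG F) (toSub_le_V _ _)
  have hVc := S.elab_V
  letI : CommGroup ↥V :=
    { (inferInstance : Group ↥V) with
      mul_comm := fun a b => Subtype.ext (Thompson.elab_commute hVc a.2 b.2) }
  haveI := Fintype.ofFinite X
  let σ : X → (↥W₁ →* ↥V) := fun x =>
    MonoidHom.mk' (fun w => ⟨(x : G) * w * (x : G)⁻¹,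
      (mem_normalizer_iff.mp (hXV x.2) _).mp (hW₁V w.2)⟩) fun a b =>
      Subtype.ext (by simp only [Subgroup.coe_mul]; group)
  let ω : ↥W₁ →* ↥V := ∏ x, σ x
  have hω : ∀ w, ω w = ∏ x, σ x w := fun w => MonoidHom.finsetProd_apply σ Finset.univ w
  have hωinj : Function.Injective ω := by
    rw [injective_iff_map_eq_one]
    intro w hw
    rw [hω, ← Finset.prod_filter_mul_prod_filter_not Finset.univ (fun x => x ∈ stab F X)] at hw
    rw [Finset.prod_eq_pow_card (b := (⟨w, hW₁V w.2⟩ : ↥V)) fun x hx => Subtype.ext ?_] at hw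
    swap
    · rcases stab_cases F hS3 hmin hX h5 hXV hXH x with ⟨-, -, h⟩ | ⟨h0, -⟩
      · exact h _ w.2
      · exact absurd (Finset.mem_filter.mp hx).2 h0
    set r := ∏ x ∈ Finset.univ.filter (fun x => x ∉ stab F X), σ x w with hr
    have hrc : (r : G) ∈ cv V (LG F) := by
      refine Subgroup.mem_subgroupOf.mp (Subgroup.prod_mem _ fun x hx => ?_)
      rcases stab_cases F hS3 hmin hX h5 hXV hXH x with ⟨h0, -⟩ | ⟨-, -, h⟩
      · exact absurd h0 (Finset.mem_filter.mp hx).2
      · exact h _ w.2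
    have hwc : (w : G) ^ (Finset.univ.filter (fun x => x ∈ stab F X)).card ∈ W₁ ⊓ cv V (LG F) := by
      refine ⟨pow_mem w.2 _, ?_⟩
      have h1 := congrArg Subtype.val hw
      simp only [Subgroup.coe_mul, SubmonoidClass.coe_pow, OneMemClass.coe_one,
        mul_eq_one_iff_eq_inv] at h1
      rw [h1]
      exact (cv V (LG F)).inv_mem hrc
    replace hwc := (plane_inf F).le hwc
    rw [mem_bot] at hwc
    have hcard : Nat.card (stab F X) = (Finset.univ.filter (fun x => x ∈ stab F X)).card := by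
      rw [Nat.card_eq_fintype_card, Fintype.card_subtype]
    rw [← hcard] at hwc
    have hqp : ¬ q ∣ p := by
      intro h
      have := (Nat.prime_dvd_prime_iff_eq Fact.out Fact.out).mp h
      rcases two_or_three F with h' | h' <;> omega
    refine Subtype.ext (orderOf_eq_one_iff.mp (Nat.eq_one_of_dvd_coprimes (stab_coprime F hX hqp)
      (orderOf_dvd_of_pow_eq_one (hVc.2 _ (hW₁V w.2))) (orderOf_dvd_of_pow_eq_one hwc)))
  have hωX : ∀ (y : X) w, (y : G) * (ω w : G) * (y : G)⁻¹ = (ω w : G) := by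
    intro y w
    let c : ↥V →* ↥V := MonoidHom.mk' (fun a => ⟨(y : G) * a * (y : G)⁻¹,
      (mem_normalizer_iff.mp (hXV y.2) _).mp a.2⟩) fun a b =>
      Subtype.ext (by simp only [Subgroup.coe_mul]; group)
    have h : c (ω w) = ω w := by
      rw [hω, map_prod]
      refine Fintype.prod_equiv (Equiv.mulLeft y) _ _ fun x => Subtype.ext ?_
      simp only [c, σ, MonoidHom.mk'_apply, Equiv.coe_mulLeft, Subgroup.coe_mul]
      group
    exact congrArg Subtype.val h
  have hE : ∀ e ∈ LG F, ∀ w ∈ W₁, e * w * e⁻¹ ∈ W₁ := fun e he w hw =>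
    (mem_normalizer_iff.mp (normalizer_commutator_ge_right _ _ he) w).mp hw
  have hequi : ∀ d ∈ H ⊓ centralizer (X : Set G), ∀ e (he : e ∈ LG F),
      ∀ r ∈ (away F).map H.subtype, d = e * r → ∀ w : W₁,
        d * (ω w : G) * d⁻¹ = (ω ⟨e * w * e⁻¹, hE e he w w.2⟩ : G) := by
    intro d hd e he r hr hder w
    let c : ↥V →* ↥V := MonoidHom.mk' (fun a => ⟨d * a * d⁻¹,
      (mem_normalizer_iff.mp (S.le_norm hd.1) _).mp a.2⟩) fun a b =>
      Subtype.ext (by simp only [Subgroup.coe_mul]; group)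
    have hdw : d * (w : G) * d⁻¹ = e * w * e⁻¹ := by
      rw [away_eq F hS3] at hr
      rw [hder, mul_inv_rev, mul_assoc e r, ← mem_centralizer_iff.mp hr.2 _ w.2]
      group
    have h : c (ω w) = ω ⟨e * w * e⁻¹, hE e he w w.2⟩ := by
      rw [hω, hω, map_prod]
      refine Finset.prod_congr rfl fun x _ => Subtype.ext ?_
      simp only [c, σ, MonoidHom.mk'_apply]
      have hdx : (x : G) * d = d * x := mem_centralizer_iff.mp hd.2 _ x.2
      calc d * ((x : G) * w * (x : G)⁻¹) * d⁻¹ = (d * x) * w * ((d * x))⁻¹ := by group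
        _ = (x : G) * (d * w * d⁻¹) * (x : G)⁻¹ := by rw [← hdx]; group
        _ = _ := by rw [hdw]
    exact congrArg Subtype.val h
  let good : G → G → Prop := fun g e => e ∈ LG F ∧
    ∀ (w : W₁) (h : e * w * e⁻¹ ∈ W₁), g * (ω w : G) * g⁻¹ = (ω ⟨e * w * e⁻¹, h⟩ : G)
  have hgood_uniq : ∀ g e e', good g e → good g e' → e = e' := by
    intro g e e' he he'
    have h : e'⁻¹ * e ∈ LG F ⊓ centralizer (W₁ : Set G) := by
      refine ⟨(LG F).mul_mem ((LG F).inv_mem he'.1) he.1, mem_centralizer_iff.mpr fun w hw => ?_⟩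
      have := congrArg Subtype.val (hωinj (Subtype.ext ((he.2 ⟨w, hw⟩ (hE e he.1 w hw)).symm.trans
        (he'.2 ⟨w, hw⟩ (hE e' he'.1 w hw)))))
      replace this : e * w * e⁻¹ = e' * w * e'⁻¹ := this
      calc w * (e'⁻¹ * e) = e'⁻¹ * (e' * w * e'⁻¹) * e := by group
        _ = e'⁻¹ * (e * w * e⁻¹) * e := by rw [this]
        _ = e'⁻¹ * e * w := by group
    rw [hW₁, LG_inf_centralizer, mem_bot] at h
    exact (inv_mul_eq_one.mp h).symm
  have hgood_mul : ∀ g g' e e', good g e → good g' e' → good (g * g') (e * e') := by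
    intro g g' e e' he he'
    refine ⟨mul_mem he.1 he'.1, fun w h => ?_⟩
    have h1 := hE e' he'.1 w w.2
    rw [show g * g' * (ω w : G) * (g * g')⁻¹ = g * (g' * (ω w : G) * g'⁻¹) * g⁻¹ by group,
      he'.2 w h1, he.2 ⟨_, h1⟩ (hE e he.1 _ h1)]
    congr 2
    exact Subtype.ext (by simp only [mul_inv_rev, mul_assoc])
  have hgood_one : good 1 1 := ⟨one_mem _, fun w h => by simp⟩
  let D : Subgroup G :=
    { carrier := {g | g ∈ H ⊓ centralizer (X : Set G) ∧ ∃ e, good g e}
      one_mem' := ⟨one_mem _, 1, hgood_one⟩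
      mul_mem' := fun {g g'} hg hg' => ⟨mul_mem hg.1 hg'.1,
        ⟨_, hgood_mul _ _ _ _ hg.2.choose_spec hg'.2.choose_spec⟩⟩
      inv_mem' := fun {g} hg => by
        obtain ⟨hg1, e, he, hew⟩ := hg
        refine ⟨inv_mem hg1, e⁻¹, inv_mem he, fun w h => ?_⟩
        have := hew ⟨_, h⟩ (hE e he _ h)
        have e1 : (⟨e * (e⁻¹ * (w : G) * e⁻¹⁻¹) * e⁻¹, hE e he _ h⟩ : W₁) = w :=
          Subtype.ext (by group)
        rw [e1] at this
        rw [← this]
        group }
  refine ⟨ω.range.map V.subtype, D, ?_, ?_, fun g hg => hg.1, ?_, ?_⟩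
  · rintro _ ⟨_, ⟨w, rfl⟩, rfl⟩
    exact ⟨(ω w).2, mem_centralizer_iff.mpr fun y hy => mul_inv_eq_iff_eq_mul.mp (hωX ⟨y, hy⟩ w)⟩
  · rw [card_map_of_injective V.subtype_injective,
      ← Nat.card_congr (MonoidHom.ofInjective hωinj).toEquiv, hW₁, card_plane]
  · intro g hg
    obtain ⟨e, he, hew⟩ := hg.2
    rw [mem_normalizer_iff_map_conj_eq]
    refine CfsgLib.Solvable.eq_of_le_of_card_le ?_ (card_map_of_injective (MulAut.conj g).injective).ge
    rintro _ ⟨_, ⟨_, ⟨w, rfl⟩, rfl⟩, rfl⟩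
    exact ⟨_, ⟨⟨_, hE e he w w.2⟩, rfl⟩, (hew w (hE e he w w.2)).symm⟩
  · obtain ⟨ψ⟩ := nonempty_sl2 F
    choose ε hε using fun g : D => g.2.2
    let f₀ : D →* ↥(LG F) := MonoidHom.mk' (fun g => ⟨ε g, (hε g).1⟩) fun g g' => Subtype.ext
      (hgood_uniq _ _ _ (hε (g * g')) (hgood_mul _ _ _ _ (hε g) (hε g')))
    refine ⟨ψ.toMonoidHom.comp f₀, ψ.surjective.comp ?_, ?_⟩
    · rintro ⟨e, he⟩
      obtain ⟨d, hd, r, hr, hder⟩ := exists_fixed F hS3 hmin hX h5 hXV hXH hqE he
      have hgd : good d e := ⟨he, fun w _ => hequi d hd e he r hr hder w⟩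
      exact ⟨⟨d, hd, e, hgd⟩, Subtype.ext (hgood_uniq _ _ _ (hε ⟨d, hd, e, hgd⟩) hgd)⟩
    · ext g
      rw [MonoidHom.mem_ker, MonoidHom.comp_apply, MulEquiv.coe_toMonoidHom,
        map_eq_one_iff _ ψ.injective, mem_subgroupOf]
      constructor
      · intro h
        have h1 : ε g = 1 := congrArg Subtype.val h
        refine mem_centralizer_iff.mpr ?_
        rintro _ ⟨_, ⟨w, rfl⟩, rfl⟩
        have h2 := (hε g).2 w (hE _ (hε g).1 w w.2)
        have h3 : (⟨ε g * (w : G) * (ε g)⁻¹, hE _ (hε g).1 w w.2⟩ : W₁) = w :=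
          Subtype.ext (by simp [h1])
        rw [h3, mul_inv_eq_iff_eq_mul] at h2
        exact h2.symm
      · intro hc
        refine Subtype.ext (hgood_uniq _ _ _ (hε g) ⟨one_mem _, fun w h => ?_⟩)
        have h2 : (V.subtype (ω w)) * (g : G) = (g : G) * V.subtype (ω w) :=
          mem_centralizer_iff.mp hc _ ⟨_, ⟨w, rfl⟩, rfl⟩
        rw [coe_subtype] at h2
        rw [← h2, mul_inv_cancel_right]
        congr 2
        exact Subtype.ext (by simp)

end fixed

end CfsgLib.FFOrbit
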