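/-
Failure of factorization on a normal elementary abelian subgroup.
-/
import Cfsg.Agent.PLocal.FFMain
import Cfsg.Agent.PLocal.PConstrained
import Cfsg.Agent.FGSA.AbelianSylowLength
import Mathlib.GroupTheory.SemidirectProduct

set_option autoImplicit false

namespace CfsgLib.FFTransfer

open Subgroup Cfsg CfsgLib.FFOffender CfsgLib.FFStructure
open scoped commutatorElement

variable {G : Type*} [Group G] (V : Subgroup G) [V.Normal]

/-- `G / C(V)`. -/
abbrev Quot : Type _ := G ⧸ centralizer (V : Set G)

/-- The action of `G / C(V)` on `V`. -/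
def φ : Quot V →* MulAut V :=
  QuotientGroup.lift _ MulAut.conjNormal fun x hx => by
    rw [MonoidHom.mem_ker]
    ext v
    rw [MulAut.conjNormal_apply, MulAut.one_apply, ← mem_centralizer_iff.mp hx v v.2,
      mul_inv_cancel_right]

theorem φ_mk (g : G) (v : V) : ((φ V (QuotientGroup.mk g) v : V) : G) = g * v * g⁻¹ :=
  MulAut.conjNormal_apply g v

theorem φ_injective : Function.Injective (φ V) := by
  rw [injective_iff_map_eq_one]
  intro q hq
  obtain ⟨g, rfl⟩ := QuotientGroup.mk_surjective q
  refine (QuotientGroup.eq_one_iff g).mpr (mem_centralizer_iff.mpr fun v hv => ?_)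
  have := φ_mk V g ⟨v, hv⟩
  rw [hq, MulAut.one_apply, eq_mul_inv_iff_mul_eq] at this
  exact this

/-- `V ⋊ G / C(V)`. -/
abbrev Semi : Type _ := V ⋊[φ V] Quot V

instance [Finite G] : Finite (Semi V) := Finite.of_equiv _ SemidirectProduct.equivProd.symm

/-- `V` inside the semidirect product. -/
abbrev V' : Subgroup (Semi V) := (SemidirectProduct.inl : V →* Semi V).range

/-- The image of a subgroup of `G`. -/
def img (A : Subgroup G) : Subgroup (Semi V) :=
  (A.map (QuotientGroup.mk' (centralizer (V : Set G)))).map SemidirectProduct.inr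

variable {V}

theorem commute_iff (g : G) (v : V) :
    Commute (SemidirectProduct.inr (QuotientGroup.mk g) : Semi V) (SemidirectProduct.inl v) ↔
      Commute g (v : G) := by
  have e : (SemidirectProduct.inr (QuotientGroup.mk g) : Semi V) * SemidirectProduct.inl v =
      SemidirectProduct.inl (φ V (QuotientGroup.mk g) v) * SemidirectProduct.inr (QuotientGroup.mk g) := by
    rw [SemidirectProduct.inl_aut, map_inv, inv_mul_cancel_right]
  unfold Commute SemiconjBy
  rw [e, mul_left_inj, SemidirectProduct.inl_inj, Subtype.ext_iff, φ_mk, mul_inv_eq_iff_eq_mul]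

theorem cv_img (A : Subgroup G) :
    cv (V' V) (img V A) =
      ((V ⊓ centralizer (A : Set G)).subgroupOf V).map SemidirectProduct.inl := by
  ext x
  constructor
  · rintro ⟨⟨v, rfl⟩, hc⟩
    refine ⟨v, ⟨v.2, mem_centralizer_iff.mpr fun a ha => ?_⟩, rfl⟩
    exact ((commute_iff a v).mp
      (mem_centralizer_iff.mp hc _ (mem_map_of_mem _ (mem_map_of_mem _ ha)))).eq
  · rintro ⟨v, hv, rfl⟩
    refine ⟨⟨v, rfl⟩, mem_centralizer_iff.mpr ?_⟩
    rintro _ ⟨_, ⟨a, ha, rfl⟩, rfl⟩
    exact ((commute_iff a v).mpr (mem_centralizer_iff.mp hv.2 a ha)).eq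

variable [Finite G] {p : ℕ}

theorem card_cv_img (A : Subgroup G) :
    Nat.card ↥(cv (V' V) (img V A)) = Nat.card ↥(V ⊓ centralizer (A : Set G)) := by
  rw [cv_img, card_map_of_injective SemidirectProduct.inl_injective,
    Nat.card_congr (subgroupOfEquivOfLe inf_le_left).toEquiv]

theorem card_img (A : Subgroup G) :
    Nat.card A = Nat.card (img V A) * Nat.card ↥(A ⊓ centralizer (V : Set G)) := by
  rw [img, card_map_of_injective SemidirectProduct.inr_injective, ← relIndex_ker,
    QuotientGroup.ker_mk', ← inf_relIndex_left]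
  exact (card_eq_mul inf_le_left).symm

theorem best_img {A : Subgroup G} (hA : IsElementaryAbelian p A) (hb : IsBestOffenderOn p V A) :
    IsBestOffenderOn p (V' V) (img V A) := by
  have he : IsElementaryAbelian p (img V A) := Thompson.elab_map _ (Thompson.elab_map _ hA)
  refine ⟨fun B hB => ?_, ?_, fun a ha => ?_⟩
  · set B₀ := A ⊓ (B.comap SemidirectProduct.inr).comap
      (QuotientGroup.mk' (centralizer (V : Set G))) with hB₀
    have e : img V B₀ = B := by
      refine le_antisymm ?_ fun x hx => ?_
      · rintro _ ⟨_, ⟨b, hb', rfl⟩, rfl⟩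
        exact hb'.2
      · obtain ⟨_, ⟨a, ha, rfl⟩, rfl⟩ := hB hx
        exact ⟨_, ⟨a, ⟨ha, hx⟩, rfl⟩, rfl⟩
    have eC : B₀ ⊓ centralizer (V : Set G) = A ⊓ centralizer (V : Set G) := by
      refine le_antisymm (inf_le_inf_right _ inf_le_left) fun x hx => ⟨⟨hx.1, ?_⟩, hx.2⟩
      show (SemidirectProduct.inr (QuotientGroup.mk' (centralizer (V : Set G)) x) : Semi V) ∈ B
      rw [show QuotientGroup.mk' (centralizer (V : Set G)) x = 1 from (QuotientGroup.eq_one_iff x).mpr hx.2,
        map_one]
      exact one_mem _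
    have h := hb.1 B₀ inf_le_left
    have hb1 := card_cv_img (V := V) B₀
    have hb2 := card_cv_img (V := V) A
    rw [e] at hb1
    rw [card_img (V := V) B₀, card_img (V := V) A, eC, e, mul_right_comm _ _ (Nat.card _),
      mul_right_comm (Nat.card (img V A)) _ (Nat.card _), ← hb1, ← hb2] at h
    exact Nat.le_of_mul_le_mul_right h Nat.card_pos
  · rw [commutator_eq_bot_iff_le_centralizer.mpr (Thompson.elab_le_centralizer he)]
    exact bot_le
  · rw [he.2 a ha]
    exact one_mem _

theorem normal_of_thompson : (thompsonSubgroup p G).Normal :=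
  haveI : (thompsonSubgroup p G).Characteristic :=
    characteristic_iff_map_eq.mpr fun e => Thompson.map_thompsonSubgroup e
  inferInstance

variable [Fact p.Prime]

theorem map_thompson_eq_iSup (hV : IsElementaryAbelian p V) :
    img V (thompsonSubgroup p G) = ⨆ A : {A : Subgroup (Semi V) //
      A ≤ img V (thompsonSubgroup p G) ∧ IsBestOffenderOn p (V' V) A}, (A : Subgroup (Semi V)) := by
  refine le_antisymm ?_ (iSup_le fun A => A.2.1)
  conv_lhs => rw [img, thompsonSubgroup, sSup_eq_iSup, Subgroup.map_iSup, Subgroup.map_iSup]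
  refine iSup_le fun A => ?_
  rw [Subgroup.map_iSup, Subgroup.map_iSup]
  refine iSup_le fun hA => ?_
  exact le_iSup_of_le ⟨img V A, map_mono (map_mono (Thompson.le_thompsonSubgroup hA)),
    best_img hA.1 (Offender.maxE_bestOffender hV hA)⟩ le_rfl

theorem normalizer_V' : normalizer ((V' V : Subgroup (Semi V)) : Set (Semi V)) = ⊤ := by
  rw [show V' V = (SemidirectProduct.rightHom : Semi V →* Quot V).ker from
    SemidirectProduct.range_inl_eq_ker_rightHom, normalizer_eq_top]

/-- A subgroup whose image is p-soluble without normal p-subgroups acts as in the setting. -/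
theorem setting_img (hV : IsElementaryAbelian p V) (J : Subgroup G) (hs : IsPSolvable p J)
    (hJ : pCore p ↥(J.map (QuotientGroup.mk' (centralizer (V : Set G)))) = ⊥) :
    Setting p (V' V) (img V J) := by
  set π := QuotientGroup.mk' (centralizer (V : Set G))
  have hV' : IsElementaryAbelian p (V' V) := by
    have h : IsElementaryAbelian p (V.subgroupOf V) := Thompson.elab_subgroupOf hV V
    rw [subgroupOf_self] at h
    show IsElementaryAbelian p (SemidirectProduct.inl : V →* Semi V).range
    rw [MonoidHom.range_eq_map]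
    exact Thompson.elab_map _ h
  have hf : img V J ⊓ centralizer ((V' V : Subgroup (Semi V)) : Set (Semi V)) = ⊥ := by
    rw [eq_bot_iff_forall]
    rintro _ ⟨⟨q, -, rfl⟩, hc⟩
    obtain ⟨g, rfl⟩ := QuotientGroup.mk_surjective q
    have : g ∈ centralizer (V : Set G) := mem_centralizer_iff.mpr fun v hv =>
      ((commute_iff g ⟨v, hv⟩).mp (mem_centralizer_iff.mp hc _ ⟨⟨v, hv⟩, rfl⟩).symm).eq.symm
    rw [(QuotientGroup.eq_one_iff g).mpr this, map_one]
  let e : ↥(J.map π) ≃* ↥(img V J) :=
    (J.map π).equivMapOfInjective SemidirectProduct.inr SemidirectProduct.inr_injective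
  have hsH : IsPSolvable p (img V J) := PConstrained.isPSolvable_map e.toMonoidHom e.surjective
    (PConstrained.isPSolvable_map (π.subgroupMap J) (π.subgroupMap_surjective J) hs)
  have hpH : pCore p ↥(img V J) = ⊥ := by
    rw [← PConstrained.map_pCore_equiv e, hJ, Subgroup.map_bot]
  exact ⟨hV', (le_top).trans_eq (normalizer_V' (V := V)).symm, hf,
    CfsgLib.FGSA.AbelianSylow.centralizer_pPrimeCore_le hpH hsH⟩

theorem pCore_map_eq_bot (hO : pCore p (Quot V) = ⊥) (J : Subgroup G) [J.Normal] :
    pCore p ↥(J.map (QuotientGroup.mk' (centralizer (V : Set G)))) = ⊥ := by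
  set M := J.map (QuotientGroup.mk' (centralizer (V : Set G)))
  have hn : M.Normal := (inferInstance : J.Normal).map _ (QuotientGroup.mk'_surjective _)
  exact (map_eq_bot_iff_of_injective _ M.subtype_injective).mp (le_bot_iff.mp
    (hO ▸ CfsgLib.Solvable.le_pCore p (PConstrained.normal_map_pCore hn)
      ((CfsgLib.Solvable.isPGroup_pCore p).map _)))

/-- The normal `SL₂(p)` given by failure of factorization on `V`. -/
theorem sl2_normal_of_failure (hsep : IsPSolvable p G) (hV : IsElementaryAbelian p V)
    (hO : pCore p (Quot V) = ⊥) (hnc : ¬ thompsonSubgroup p G ≤ centralizer (V : Set G)) :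
    (p = 2 ∨ p = 3) ∧ ∃ E : Subgroup G, centralizer (V : Set G) ≤ E ∧
      E ≤ thompsonSubgroup p G ⊔ centralizer (V : Set G) ∧
      thompsonSubgroup p G ⊔ centralizer (V : Set G) ≤ normalizer (E : Set G) ∧
      ∃ _ : ((centralizer (V : Set G)).subgroupOf E).Normal,
        Nonempty ((↥E ⧸ (centralizer (V : Set G)).subgroupOf E) ≃*
          Matrix.SpecialLinearGroup (Fin 2) (ZMod p)) := by
  set J := thompsonSubgroup p G with hJ
  set C := centralizer (V : Set G) with hC
  set π := QuotientGroup.mk' C with hπ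
  haveI : J.Normal := normal_of_thompson
  set H := img V J with hH
  have S : Setting p (V' V) H := setting_img hV J
    (PConstrained.isPSolvable_comap J.subtype J.subtype_injective hsep) (pCore_map_eq_bot hO J)
  have hS3 := map_thompson_eq_iSup (p := p) hV
  obtain ⟨A, hAH, hA⟩ : ∃ A ≤ H, FFOffender.IsMin p (V' V) A := by
    by_contra h
    push Not at h
    have hb : H = ⊥ := le_bot_iff.mp (H_le_of_min S hS3 ⊥ fun A hAH hA => absurd hA (h A hAH))
    rw [hH, img, map_eq_bot_iff_of_injective _ SemidirectProduct.inr_injective,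
      Subgroup.map_eq_bot_iff, QuotientGroup.ker_mk'] at hb
    exact hnc hb
  obtain ⟨F, -⟩ := exists_frame S hAH hA
  refine ⟨two_or_three F, ?_⟩
  set E' := (LG F).comap (SemidirectProduct.inr : Quot V →* Semi V) with hE'
  have hJC : (J.map π).comap π = J ⊔ C := by rw [comap_map_eq, QuotientGroup.ker_mk']
  have hE'J : E' ≤ J.map π :=
    (comap_mono (LG_le F)).trans (comap_map_eq_self_of_injective SemidirectProduct.inr_injective _).le
  refine ⟨E'.comap π, ?_, ?_, ?_, ?_⟩
  · intro c hc
    rw [mem_comap, show π c = 1 from (QuotientGroup.eq_one_iff c).mpr hc]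
    exact one_mem _
  · exact hJC ▸ comap_mono hE'J
  · rw [← hJC]
    refine (comap_mono ?_).trans (le_normalizer_comap π)
    refine le_trans ?_ (le_normalizer_comap (SemidirectProduct.inr : Quot V →* Semi V))
    exact map_le_iff_le_comap.mp (H_le_normalizer F hS3)
  · let f : ↥(E'.comap π) →* ↥E' := π.subgroupComap E'
    have hfs : Function.Surjective f := fun y => by
      obtain ⟨x, hx⟩ := QuotientGroup.mk'_surjective C y.1
      exact ⟨⟨x, by rw [mem_comap]; exact hx ▸ y.2⟩, Subtype.ext hx⟩
    have hk : f.ker = C.subgroupOf (E'.comap π) := by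
      ext x
      rw [MonoidHom.mem_ker, mem_subgroupOf]
      exact Subtype.ext_iff.trans (QuotientGroup.eq_one_iff (x : G))
    have hEmap : E'.map (SemidirectProduct.inr : Quot V →* Semi V) = LG F :=
      map_comap_eq_self ((LG_le F).trans (map_le_range _ _))
    obtain ⟨ψ⟩ := nonempty_sl2 F
    refine ⟨inferInstance, ⟨?_⟩⟩
    exact (QuotientGroup.quotientMulEquivOfEq hk.symm).trans
      ((QuotientGroup.quotientKerEquivOfSurjective f hfs).trans
        ((E'.equivMapOfInjective _ SemidirectProduct.inr_injective).trans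
          ((MulEquiv.subgroupCongr hEmap).trans ψ)))

end CfsgLib.FFTransfer

namespace CfsgLib.FFTransfer

open Subgroup Cfsg CfsgLib.FFOffender CfsgLib.Thompson
open scoped commutatorElement

variable {G : Type*} [Group G] [Finite G] {p : ℕ} [Fact p.Prime] {V : Subgroup G} [V.Normal]

/-- `J(G)` moves `Ω₁(Z(J(C(V))))` only inside `V`. -/
theorem omega_centerThompson_comm_le (hsep : IsPSolvable p G) (hV : IsElementaryAbelian p V)
    (hO : pCore p (Quot V) = ⊥) :
    ⁅omegaOne p (centerThompsonOf p (centralizer (V : Set G))), thompsonSubgroup p G⁆ ≤ V := by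
  set C := centralizer (V : Set G) with hC
  set Ω := omegaOne p (centerThompsonOf p C) with hΩ
  have S := setting_img hV ⊤
    (PConstrained.isPSolvable_comap (⊤ : Subgroup G).subtype (Subgroup.subtype_injective _) hsep)
    (pCore_map_eq_bot hO ⊤)
  have hΩe : IsElementaryAbelian p Ω :=
    elab_omegaOne fun x hx y hy => mem_centralizer_iff.mp hy.2 x hx.1
  have key : ∀ A ∈ maxElementaryAbelianSubgroups p G, ∀ w ∈ Ω, ∀ a ∈ A, ⁅w, a⁆ ∈ V := by
    intro A hA w hw a ha
    have hVA : V ≤ centralizer ((A ⊓ C : Subgroup G) : Set G) :=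
      le_centralizer_iff.mp inf_le_right
    set B := (A ⊓ C) ⊔ V with hB
    have hBe : IsElementaryAbelian p B :=
      elab_sup (elab_mono hA.1 inf_le_left) hV (le_centralizer_iff.mp hVA)
    have hn : A ⊓ C ≤ normalizer (V : Set G) :=
      (normalizer_eq_top (H := V)).symm ▸ le_top
    have hcA : Nat.card A ≤ Nat.card B := by
      have h1 := S.card_le (A := img V A) (map_mono (map_mono le_top))
        (elab_map _ (elab_map _ hA.1))
      rw [card_cv_img] at h1
      have h2 := CfsgLib.Solvable.card_sup_mul_card_inf hn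
      rw [← hB] at h2
      have hAV : A ⊓ C ⊓ V ≤ V ⊓ centralizer (A : Set G) :=
        le_inf inf_le_right ((inf_le_left.trans inf_le_left).trans (elab_le_centralizer hA.1))
      have h3 := Subgroup.card_le_of_le hAV
      have hV'card : Nat.card (V' V) = Nat.card V :=
        Nat.card_congr (MonoidHom.ofInjective SemidirectProduct.inl_injective).symm.toEquiv
      rw [card_img (V := V) A]
      have hpos : 0 < Nat.card ↥(V ⊓ centralizer (A : Set G)) := Nat.card_pos
      refine Nat.le_of_mul_le_mul_right ?_ hpos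
      calc Nat.card (img V A) * Nat.card ↥(A ⊓ C) * Nat.card ↥(V ⊓ centralizer (A : Set G))
          = Nat.card ↥(A ⊓ C) *
            (Nat.card (img V A) * Nat.card ↥(V ⊓ centralizer (A : Set G))) := by ring
        _ ≤ Nat.card ↥(A ⊓ C) * Nat.card V := Nat.mul_le_mul_left _ (h1.trans_eq hV'card)
        _ = Nat.card B * Nat.card ↥(A ⊓ C ⊓ V) := h2.symm
        _ ≤ _ := Nat.mul_le_mul_left _ h3
    have hBmax : B ∈ maxElementaryAbelianSubgroups p G :=
      ⟨hBe, fun D hD => (hA.2 D hD).trans hcA⟩
    have hBC : B ≤ C := sup_le inf_le_right (elab_le_centralizer hV)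
    have hBJ : B ≤ thompsonSubgroupOf p C := by
      refine le_of_le_of_eq (le_sSup ?_) (thompsonSubgroupOf_eq C).symm
      exact ⟨hBC, hBe, fun D _ hD => hBmax.2 D hD⟩
    have hwB : w ∈ B := by
      have hcom : Ω ≤ centralizer (B : Set G) :=
        ((omegaOne_le _).trans inf_le_right).trans (centralizer_le hBJ)
      have hle := hBmax.2 _ (elab_sup hBe hΩe (le_centralizer_iff.mp hcom))
      rw [CfsgLib.Solvable.eq_of_le_of_card_le (le_sup_left : B ≤ B ⊔ Ω) hle]
      exact mem_sup_right hw
    rw [hB, ← SetLike.mem_coe, coe_mul_of_left_le_normalizer_right _ _ hn] at hwB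
    obtain ⟨x, hx, y, hy, rfl⟩ := hwB
    have hxa : x * a = a * x := elab_commute hA.1 hx.1 ha
    have e : ⁅x * y, a⁆ = x * ⁅y, a⁆ * x⁻¹ := by
      rw [commutatorElement_def, commutatorElement_def, mul_inv_rev]
      calc x * y * a * (y⁻¹ * x⁻¹) * a⁻¹ = x * (y * a * y⁻¹) * (x⁻¹ * a⁻¹) := by group
        _ = x * (y * a * y⁻¹) * (a * x)⁻¹ := by rw [mul_inv_rev]
        _ = x * (y * a * y⁻¹) * (x * a)⁻¹ := by rw [hxa]
        _ = x * (y * a * y⁻¹ * a⁻¹) * x⁻¹ := by group
    rw [e]
    refine (inferInstance : V.Normal).conj_mem _ ?_ x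
    rw [commutatorElement_def, mul_assoc y, mul_assoc y]
    exact V.mul_mem hy ((inferInstance : V.Normal).conj_mem _ (V.inv_mem hy) a)
  refine commutator_le.mpr fun w hw j hj => ?_
  have hfix : ∀ a ∈ thompsonSubgroup p G, ∀ w ∈ Ω, ⁅w, a⁆ ∈ V := by
    intro a ha
    rw [thompsonSubgroup, sSup_eq_iSup'] at ha
    induction ha using Subgroup.iSup_induction' with
    | hp A x hx => exact fun w hw => key A.1 A.2 w hw x hx
    | h1 => exact fun w _ => by simp
    | hmul x y _ _ hx hy =>
      intro w hw
      rw [show ⁅w, x * y⁆ = ⁅w, x⁆ * (x * ⁅w, y⁆ * x⁻¹) by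
        simp only [commutatorElement_def]; group]
      exact V.mul_mem (hx w hw) ((inferInstance : V.Normal).conj_mem _ (hy w hw) x)
  exact hfix j hj w hw

end CfsgLib.FFTransfer
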