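/-
Thompson factorization under coprime action.
-/
import Cfsg.Agent.PLocal.FFTransfer
import Cfsg.Agent.PLocal.FFOrbit
import Cfsg.Agent.PLocal.Core
import Cfsg.Agent.Solvable.CoprimeAct
import Cfsg.Agent.PLocal.StableNormal

set_option autoImplicit false
set_option linter.unusedSectionVars false

namespace CfsgLib.FFCoprime

open Subgroup Cfsg CfsgLib.FFOffender CfsgLib.FFStructure CfsgLib.FFTransfer CfsgLib.FFPlane
open scoped commutatorElement

universe u

variable {K₀ L : Type u} [Group K₀] [Finite K₀] [Group L] [Finite L] {p : ℕ} [Fact p.Prime]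
  (j : K₀ →* L)

theorem exists_aut (hj : Function.Injective j) (hn : j.range.Normal) (l : L) :
    ∃ α : MulAut K₀, ∀ x, j (α x) = l * j x * l⁻¹ := by
  haveI := hn
  let e := MonoidHom.ofInjective hj
  refine ⟨e.trans ((MulAut.conjNormal l).trans e.symm), fun x => ?_⟩
  have h : (e (e.symm (MulAut.conjNormal l (e x))) : L) = l * j x * l⁻¹ := by
    rw [e.apply_symm_apply, MulAut.conjNormal_apply]
    rfl
  exact h

theorem zGen_map_aut (α : MulAut K₀) :
    (PLocalCore.zGen p K₀).map α.toMonoidHom ≤ PLocalCore.zGen p K₀ := by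
  rw [PLocalCore.zGen, Subgroup.map_iSup]
  refine iSup_le fun S => ?_
  rw [PLocalCore.map_zSylow]
  exact le_iSup_of_le (S.mapSurjective (f := α.toMonoidHom) α.surjective) le_rfl

/-- The image of `zGen K₀`. -/
abbrev zV (p : ℕ) (j : K₀ →* L) : Subgroup L := (PLocalCore.zGen p K₀).map j

theorem zV_normal (hj : Function.Injective j) (hn : j.range.Normal) : (zV p j).Normal := by
  refine ⟨fun x hx l => ?_⟩
  obtain ⟨y, hy, rfl⟩ := hx
  obtain ⟨α, hα⟩ := exists_aut j hj hn l
  exact ⟨α y, zGen_map_aut α ⟨y, hy, rfl⟩, hα y⟩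

theorem map_thompson (hj : Function.Injective j) (hp : ∀ l : L, l ^ p = 1 → l ∈ j.range) :
    (thompsonSubgroup p K₀).map j = thompsonSubgroup p L := by
  have hpull : ∀ A : Subgroup L, IsElementaryAbelian p A → (A.comap j).map j = A :=
    fun A hA => map_comap_eq_self fun a ha => hp a (hA.2 a ha)
  have helab : ∀ A : Subgroup L, IsElementaryAbelian p A → IsElementaryAbelian p (A.comap j) := by
    intro A hA
    refine ⟨⟨⟨fun x y => Subtype.ext (hj ?_)⟩⟩, fun x hx => hj ?_⟩
    · show j ((x : K₀) * y) = j ((y : K₀) * x)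
      rw [map_mul, map_mul]
      exact Thompson.elab_commute hA x.2 y.2
    · rw [map_pow, map_one]
      exact hA.2 _ hx
  refine le_antisymm (map_le_iff_le_comap.mpr (sSup_le fun A hA => ?_)) (sSup_le fun A hA => ?_)
  · rw [← map_le_iff_le_comap]
    refine le_sSup ⟨Thompson.elab_map j hA.1, fun B hB => ?_⟩
    rw [← hpull B hB, card_map_of_injective hj, card_map_of_injective hj]
    exact hA.2 _ (helab B hB)
  · rw [← hpull A hA.1]
    refine map_mono (Thompson.le_thompsonSubgroup ⟨helab A hA.1, fun B hB => ?_⟩)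
    rw [← card_map_of_injective (K := B) hj, ← card_map_of_injective (K := A.comap j) hj,
      hpull A hA.1]
    exact hA.2 _ (Thompson.elab_map j hB)

theorem conj_inl {G : Type*} [Group G] (V : Subgroup G) [V.Normal] (g : G) (v : V) :
    (SemidirectProduct.inr (QuotientGroup.mk g) : Semi V) * SemidirectProduct.inl v *
      (SemidirectProduct.inr (QuotientGroup.mk g) : Semi V)⁻¹ =
    SemidirectProduct.inl (⟨g * v * g⁻¹, (inferInstance : V.Normal).conj_mem _ v.2 g⟩ : V) := by
  rw [← map_inv, ← SemidirectProduct.inl_aut]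
  exact congrArg SemidirectProduct.inl (Subtype.ext (φ_mk V g v))

variable [(zV p j).Normal]

/-- `K₀` in the semidirect product. -/
def ψ : K₀ →* Semi (zV p j) :=
  SemidirectProduct.inr.comp ((QuotientGroup.mk' (centralizer (zV p j : Set L))).comp j)

theorem ker_θ (hj : Function.Injective j) :
    ((QuotientGroup.mk' (centralizer (zV p j : Set L))).comp j).ker =
      centralizer (PLocalCore.zGen p K₀ : Set K₀) := by
  rw [← MonoidHom.comap_ker, QuotientGroup.ker_mk']
  ext x
  rw [mem_comap, mem_centralizer_iff, mem_centralizer_iff]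
  refine ⟨fun h y hy => hj ?_, ?_⟩
  · rw [map_mul, map_mul]
    exact h _ (mem_map_of_mem j hy)
  · rintro h _ ⟨y, hy, rfl⟩
    rw [← map_mul, ← map_mul, h y hy]

theorem img_thompson (hj : Function.Injective j) (hp : ∀ l : L, l ^ p = 1 → l ∈ j.range) :
    img (zV p j) (thompsonSubgroup p L) = (thompsonSubgroup p K₀).map (ψ (p := p) j) := by
  rw [img, ← map_thompson j hj hp, map_map, map_map]
  rfl

theorem pCore_img_eq_bot (hj : Function.Injective j) (hn : j.range.Normal)
    (hp : ∀ l : L, l ^ p = 1 → l ∈ j.range) :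
    pCore p ↥((thompsonSubgroup p L).map (QuotientGroup.mk' (centralizer (zV p j : Set L)))) = ⊥ := by
  set π := QuotientGroup.mk' (centralizer (zV p j : Set L))
  set θ := π.comp j
  haveI : (thompsonSubgroup p L).Normal := FFTransfer.normal_of_thompson
  set M := (thompsonSubgroup p L).map π with hM
  have hMn : M.Normal := (inferInstance : (thompsonSubgroup p L).Normal).map _ (QuotientGroup.mk'_surjective _)
  have hMR : M ≤ θ.range := by
    rw [hM, ← map_thompson j hj hp, map_map]
    exact map_le_range _ _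
  have h0 : pCore p (K₀ ⧸ centralizer (PLocalCore.zGen p K₀ : Set K₀)) = ⊥ :=
    PLocalCore.pCore_quotient_eq_bot_of_fixed _ (le_antisymm (iSup_le fun S => le_iSup_of_le S
      (le_inf (le_iSup (fun T : Sylow p K₀ => PLocalCore.zSylow p (T : Subgroup K₀)) S)
        (le_centralizer_iff.mp (PLocalCore.le_centralizer_zSylow _)))) (iSup_le fun S => inf_le_left))
  let e : (K₀ ⧸ centralizer (PLocalCore.zGen p K₀ : Set K₀)) ≃* ↥θ.range :=
    (QuotientGroup.quotientMulEquivOfEq (ker_θ j hj).symm).trans (QuotientGroup.quotientKerEquivRange θ)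
  have hR : pCore p ↥θ.range = ⊥ := by rw [← PConstrained.map_pCore_equiv e, h0, Subgroup.map_bot]
  set P := (pCore p M).map M.subtype
  have hPn : P.Normal := PConstrained.normal_map_pCore hMn
  have hPR : P ≤ θ.range := (map_subtype_le _).trans hMR
  have h1 : P.subgroupOf θ.range ≤ pCore p ↥θ.range :=
    CfsgLib.Solvable.le_pCore p (hPn.subgroupOf _)
      (((CfsgLib.Solvable.isPGroup_pCore p).map M.subtype).comap_subtype)
  rw [hR, le_bot_iff, subgroupOf_eq_bot, disjoint_iff, inf_eq_left.mpr hPR] at h1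
  exact (map_eq_bot_iff_of_injective _ M.subtype_injective).mp h1

variable {q : ℕ} [Fact q.Prime] (hj : Function.Injective j) (hn : j.range.Normal)
  (hp : ∀ l : L, l ^ p = 1 → l ∈ j.range) (hsep : IsPSolvable p K₀) (hO : pPrimeCore p K₀ = ⊥)
  {X : Subgroup L} (hX : IsElementaryAbelian q X) (hq : ¬ q ∣ Nat.card K₀)

include hj hn hp hsep hO in
theorem setting : Setting p (V' (zV p j)) (img (zV p j) (thompsonSubgroup p L)) ∧
    img (zV p j) (thompsonSubgroup p L) = ⨆ A : {A : Subgroup (Semi (zV p j)) //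
      A ≤ img (zV p j) (thompsonSubgroup p L) ∧ IsBestOffenderOn p (V' (zV p j)) A},
        (A : Subgroup (Semi (zV p j))) := by
  have hc := CfsgLib.PConstrained.selfCent_of_pSolvable hO (CfsgLib.PConstrained.isPSolvable_comap
    (centralizer (pCore p K₀ : Set K₀)).subtype (Subgroup.subtype_injective _) hsep)
  have hV : IsElementaryAbelian p (zV p j) :=
    Thompson.elab_map j (PLocalCore.zGen_elab_of_charP hc)
  refine ⟨setting_img hV _ ?_ (pCore_img_eq_bot j hj hn hp), map_thompson_eq_iSup hV⟩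
  exact CfsgLib.PConstrained.isPSolvable_map
    (((thompsonSubgroup p K₀).equivMapOfInjective j hj).trans
      (MulEquiv.subgroupCongr (map_thompson j hj hp))).toMonoidHom (MulEquiv.surjective _)
    (CfsgLib.PConstrained.isPSolvable_comap (thompsonSubgroup p K₀).subtype
      (Subgroup.subtype_injective _) hsep)

include hX in
theorem elab_imgX : IsElementaryAbelian q (img (zV p j) X) :=
  Thompson.elab_map _ (Thompson.elab_map _ hX)

theorem imgX_le : img (zV p j) X ≤
      normalizer ((img (zV p j) (thompsonSubgroup p L) : Subgroup _) : Set (Semi (zV p j))) := by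
  haveI : ((thompsonSubgroup p L).map (QuotientGroup.mk' (centralizer (zV p j : Set L)))).Normal :=
    (FFTransfer.normal_of_thompson (p := p) (G := L)).map _ (QuotientGroup.mk'_surjective _)
  refine le_trans ?_ (le_normalizer_map _)
  exact map_mono (le_top.trans (le_of_eq (normalizer_eq_top _).symm))

include hj hn hp hX hq in
/-- Lifting fixed points. -/
theorem exists_lift {d : Semi (zV p j)} (hd : d ∈ img (zV p j) (thompsonSubgroup p L))
    (hdX : d ∈ centralizer (img (zV p j) X : Set (Semi (zV p j)))) :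
    ∃ y : K₀, ψ (p := p) j y = d ∧ j y ∈ centralizer (X : Set L) := by
  haveI := hn
  rw [img_thompson j hj hp] at hd
  obtain ⟨y₀, -, rfl⟩ := hd
  haveI := (Thompson.elab_isPGroup hX).isNilpotent
  have hcop : (Nat.card X).Coprime (Nat.card j.range) := by
    obtain ⟨k, hk⟩ := IsPGroup.iff_card.mp (Thompson.elab_isPGroup hX)
    rw [hk, ← Nat.card_congr (MonoidHom.ofInjective hj).toEquiv]
    exact ((Fact.out : q.Prime).coprime_iff_not_dvd.mpr hq).pow_left k
  set C := centralizer (zV p j : Set L)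
  obtain ⟨c, hc, hcN⟩ := CfsgLib.CoprimeAct.exists_centralizing_mem_coset (A := X) (K := j.range)
    (N := j.range ⊓ C) (le_top.trans (le_of_eq (normalizer_eq_top _).symm)) hcop inf_le_left
    (le_top.trans (le_of_eq (normalizer_eq_top _).symm)) (Or.inl inferInstance) (k := j y₀) ⟨y₀, rfl⟩
    (fun a ha => ⟨j.range.mul_mem (j.range.inv_mem ⟨y₀, rfl⟩) (hn.conj_mem _ ⟨y₀, rfl⟩ a), by
      have h1 : (SemidirectProduct.inr (QuotientGroup.mk a) : Semi (zV p j)) * ψ (p := p) j y₀ =
          ψ (p := p) j y₀ * SemidirectProduct.inr (QuotientGroup.mk a) :=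
        mem_centralizer_iff.mp hdX _ (mem_map_of_mem _ (mem_map_of_mem _ ha))
      simp only [ψ, MonoidHom.comp_apply, ← map_mul] at h1
      refine (QuotientGroup.eq_one_iff _).mp ?_
      have h2 := SemidirectProduct.inr_injective h1
      rw [QuotientGroup.mk'_apply] at h2
      rw [QuotientGroup.mk_mul, QuotientGroup.mk_mul, QuotientGroup.mk_mul, QuotientGroup.mk_inv,
        QuotientGroup.mk_inv, h2, mul_inv_cancel_right, inv_mul_cancel]⟩)
  obtain ⟨y, rfl⟩ := hc.1
  refine ⟨y, congrArg SemidirectProduct.inr ?_, hc.2⟩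
  exact (QuotientGroup.eq.mpr hcN.2).symm

include hj hn hp hsep hO hX hq in
theorem sup_eq_top (S : Sylow p K₀) :
    normalizer (thompsonSubgroupOf p (S : Subgroup K₀) : Set K₀) ⊔
      centralizer (PLocalCore.zSylow p (S : Subgroup K₀) : Set K₀) ⊔
      (centralizer (X : Set L)).comap j = ⊤ := by
  classical
  obtain ⟨hS, hS3⟩ := setting j hj hn hp hsep hO
  set Hs := normalizer (thompsonSubgroupOf p (S : Subgroup K₀) : Set K₀) ⊔
      centralizer (PLocalCore.zSylow p (S : Subgroup K₀) : Set K₀) ⊔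
      (centralizer (X : Set L)).comap j with hHs
  set J₀ := thompsonSubgroup p K₀ with hJ₀
  set C₀ := centralizer (PLocalCore.zGen p K₀ : Set K₀) with hC₀
  set f := ψ (p := p) j with hf
  have hfker : f.ker = C₀ := by
    rw [hf, ψ, ← MonoidHom.comap_ker, (MonoidHom.ker_eq_bot_iff _).mpr SemidirectProduct.inr_injective,
      MonoidHom.comap_bot, ker_θ j hj]
  have hC₀le : C₀ ≤ Hs := le_sup_of_le_left (le_sup_of_le_right (centralizer_le
    (SetLike.coe_subset_coe.mpr (le_iSup (fun T : Sylow p K₀ => PLocalCore.zSylow p (T : Subgroup K₀)) S))))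
  have hSle : (S : Subgroup K₀) ≤ Hs := le_sup_of_le_left (le_sup_of_le_left
    (le_normalizer.trans (Thompson.normalizer_le_normalizer_thompsonSubgroupOf _)))
  have hXle : ∀ y : K₀, j y ∈ centralizer (X : Set L) → y ∈ Hs := fun y hy => mem_sup_right hy
  haveI : J₀.Normal := FFTransfer.normal_of_thompson
  -- a Sylow subgroup of `J₀` inside `S`
  have hpg : IsPGroup p (((S : Subgroup K₀) ⊓ J₀).subgroupOf J₀) :=
    (S.2.to_le inf_le_left).of_equiv (subgroupOfEquivOfLe inf_le_right).symm
  have hidx : ¬ p ∣ (((S : Subgroup K₀) ⊓ J₀).subgroupOf J₀).index := by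
    change ¬ p ∣ ((S : Subgroup K₀) ⊓ J₀).relIndex J₀
    rw [inf_relIndex_right]
    exact fun hd => S.not_dvd_index' Subgroup.index_ne_zero_of_finite
      (hd.trans (PLocalCore.relIndex_dvd_index_of_normal_right _ J₀))
  let fJ : J₀ →* ↥(J₀.map f) := f.subgroupMap J₀
  let T : Sylow p ↥(J₀.map f) :=
    (hpg.toSylow hidx).mapSurjective (f := fJ) (f.subgroupMap_surjective J₀)
  have hT : ∀ t ∈ (T : Subgroup ↥(J₀.map f)), (t : Semi (zV p j)) ∈ Hs.map f := by
    rintro _ ⟨s, hs, rfl⟩
    exact ⟨s, hSle (mem_subgroupOf.mp hs).1, rfl⟩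
  have hfr : ∀ F : Frame (act hS) (Core p (img (zV p j) (thompsonSubgroup p L))),
      FFOffender.IsMin p (V' (zV p j)) (zpowers ((F.a : ↥(img (zV p j) (thompsonSubgroup p L))) :
        Semi (zV p j))) → LG F ≤ Hs.map f := by
    intro F hmin
    obtain ⟨φ⟩ := nonempty_sl2 F
    have hH : img (zV p j) (thompsonSubgroup p L) = J₀.map f := img_thompson j hj hp
    have hEle : LG F ≤ J₀.map f := hH ▸ LG_le F
    have hEdvd : Nat.card (LG F) ∣ Nat.card K₀ :=
      ((card_dvd_of_le hEle).trans (card_map_dvd _ _)).trans (card_subgroup_dvd_card _)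
    have hcardE : (p = 2 → Nat.card (LG F) = 6) ∧ (p = 3 → Nat.card (LG F) = 24) := by
      refine ⟨?_, ?_⟩ <;> intro h <;> subst h <;> rw [Nat.card_congr φ.toEquiv]
      exacts [card_sl2_two, card_sl2_three]
    have h5 : 5 ≤ q := by
      have h6 : 6 ∣ Nat.card K₀ := by
        rcases two_or_three F with h | h
        · exact hcardE.1 h ▸ hEdvd
        · exact (by norm_num : 6 ∣ 24).trans (hcardE.2 h ▸ hEdvd)
      by_contra hlt
      push Not at hlt
      have := (Fact.out : q.Prime).two_le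
      interval_cases q
      · exact hq ((by norm_num : 2 ∣ 6).trans h6)
      · exact hq ((by norm_num : 3 ∣ 6).trans h6)
      · exact absurd (Fact.out : Nat.Prime 4) (by norm_num)
    -- an element of order `p` of the factor inside the image of `S`
    set a : Semi (zV p j) := (F.a : Semi (zV p j)) with ha
    have haE : a ∈ LG F := mem_map_of_mem _ F.a_mem
    have hap : IsPGroup p (zpowers (⟨a, hEle haE⟩ : ↥(J₀.map f))) := by
      refine IsPGroup.of_card (n := 1) ?_
      rw [Nat.card_zpowers, ← Subgroup.orderOf_coe, ← Nat.card_zpowers, pow_one]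
      exact (hS.min_card (zpowers_le.mpr (LG_le F haE)) hmin).1
    obtain ⟨U, hU⟩ := hap.exists_le_sylow
    obtain ⟨g, hg⟩ := MulAction.exists_smul_eq ↥(J₀.map f) U T
    have hgE : (g : Semi (zV p j)) ∈ normalizer (LG F : Set (Semi (zV p j))) :=
      H_le_normalizer F hS3 (hH.symm ▸ g.2)
    set s := (g : Semi (zV p j)) * a * (g : Semi (zV p j))⁻¹ with hs
    have hsE : s ∈ LG F := (mem_normalizer_iff.mp hgE a).mp haE
    have hsHs : s ∈ Hs.map f := by
      refine hT (g * ⟨a, hEle haE⟩ * g⁻¹) ?_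
      rw [← hg, Sylow.coe_subgroup_smul]
      exact ⟨_, hU (mem_zpowers _), rfl⟩
    -- its conjugates under the factor
    have hconj : ∀ e ∈ LG F, e * s * e⁻¹ ∈ Hs.map f := by
      intro e he
      obtain ⟨d, hd, r, hr, rfl⟩ := FFOrbit.exists_fixed F hS3 hmin (elab_imgX j hX) h5
        (le_top.trans_eq (normalizer_V' (V := zV p j)).symm) (imgX_le j)
        (fun h => hq (h.trans hEdvd)) he
      obtain ⟨y, hy, hyX⟩ := exists_lift j hj hn hp hX hq hd.1 hd.2
      have hdHs : e * r ∈ Hs.map f := ⟨y, hXle y hyX, hy⟩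
      have hrs : r * s = s * r :=
        (mem_centralizer_iff.mp (commutator_eq_bot_iff_le_centralizer.mp (away_facts F hS3).1 hsE) r hr)
      have e1 : (e * r) * s * (e * r)⁻¹ = e * s * e⁻¹ := by
        rw [mul_inv_rev, mul_assoc e r s, hrs]
        group
      rw [← e1]
      exact mul_mem (mul_mem hdHs hsHs) (inv_mem hdHs)
    -- the Sylow subgroups of the factor have order `p`
    have hord : orderOf (⟨s, hsE⟩ : LG F) = p := by
      rw [← Subgroup.orderOf_coe]
      show orderOf s = p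
      rw [hs, ← MulAut.conj_apply, MulEquiv.orderOf_eq, ← Nat.card_zpowers]
      exact (hS.min_card (zpowers_le.mpr (LG_le F haE)) hmin).1
    have hP : IsPGroup p (zpowers (⟨s, hsE⟩ : LG F)) :=
      IsPGroup.of_card (n := 1) (by rw [Nat.card_zpowers, hord, pow_one])
    have hPidx : ¬ p ∣ (zpowers (⟨s, hsE⟩ : LG F)).index := by
      have h := card_mul_index (zpowers (⟨s, hsE⟩ : LG F))
      rw [Nat.card_zpowers, hord] at h
      rcases two_or_three F with h' | h'
      · rw [hcardE.1 h'] at h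
        subst h'
        omega
      · rw [hcardE.2 h'] at h
        subst h'
        omega
    set P := hP.toSylow hPidx
    have hgen : ∀ z (hz : z ∈ LG F), IsPGroup p (zpowers (⟨z, hz⟩ : LG F)) → z ∈ Hs.map f := by
      intro z hz hzp
      obtain ⟨U, hU⟩ := hzp.exists_le_sylow
      obtain ⟨e, he⟩ := MulAction.exists_smul_eq (LG F) P U
      have hzU := hU (mem_zpowers _)
      rw [← he, Sylow.coe_subgroup_smul] at hzU
      obtain ⟨w, hw, hwz⟩ := hzU
      obtain ⟨i, rfl⟩ := mem_zpowers_iff.mp hw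
      have hz' : z = (e : Semi (zV p j)) * s ^ i * (e : Semi (zV p j))⁻¹ :=
        (congrArg Subtype.val hwz).symm
      rw [hz', ← conj_zpow]
      exact zpow_mem (hconj e e.2) i
    have hb : (F.b : Semi (zV p j)) ∈ LG F := mem_map_of_mem _ F.b_mem
    have hbp : orderOf (F.b : Semi (zV p j)) = orderOf a := by
      rw [Frame.b, Subgroup.orderOf_coe, ha, Subgroup.orderOf_coe, ← MulAut.conj_apply,
        MulEquiv.orderOf_eq]
    have hordA : orderOf a = p := by
      rw [← Nat.card_zpowers]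
      exact (hS.min_card (zpowers_le.mpr (LG_le F haE)) hmin).1
    rw [LG, Frame.L, MonoidHom.map_closure, closure_le]
    rintro _ ⟨z, (rfl | rfl), rfl⟩
    · exact hgen a haE (IsPGroup.of_card (n := 1)
        (by rw [Nat.card_zpowers, ← Subgroup.orderOf_coe, hordA, pow_one]))
    · exact hgen _ hb (IsPGroup.of_card (n := 1)
        (by
          rw [Nat.card_zpowers, ← Subgroup.orderOf_coe]
          show orderOf (F.b : Semi (zV p j)) = _
          rw [hbp, hordA, pow_one]))
  have hJle : J₀ ≤ Hs := by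
    have h1 : img (zV p j) (thompsonSubgroup p L) ≤ Hs.map f := by
      refine H_le_of_min hS hS3 _ fun A hAH hA => ?_
      obtain ⟨F, hF⟩ := exists_frame hS hAH hA
      refine le_trans ?_ (hfr F (hF ▸ hA))
      rw [hF, zpowers_le]
      exact mem_map_of_mem _ F.a_mem
    rw [img_thompson j hj hp, Subgroup.map_le_map_iff, hfker] at h1
    exact h1.trans (sup_le le_rfl hC₀le)
  -- Frattini argument
  haveI : C₀.Normal := hfker ▸ f.normal_ker
  set D := J₀ ⊔ C₀ with hD
  have hJS : thompsonSubgroupOf p (S : Subgroup K₀) ≤ J₀ :=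
    (le_iSup (fun T : Sylow p K₀ => thompsonSubgroupOf p (T : Subgroup K₀)) S).trans
      (Thompson.thompsonSubgroup_eq_iSup_sylow (G := K₀) (p := p)).ge
  have hJP : thompsonSubgroupOf p ((S : Subgroup K₀) ⊓ D) = thompsonSubgroupOf p (S : Subgroup K₀) :=
    StableNormal.thompsonSubgroupOf_eq_of_between
      (le_inf (Thompson.thompsonSubgroupOf_le _) (hJS.trans le_sup_left)) inf_le_left
  have hpg' : IsPGroup p (((S : Subgroup K₀) ⊓ D).subgroupOf D) :=
    (S.2.to_le inf_le_left).of_equiv (subgroupOfEquivOfLe inf_le_right).symm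
  have hidx' : ¬ p ∣ (((S : Subgroup K₀) ⊓ D).subgroupOf D).index := by
    change ¬ p ∣ ((S : Subgroup K₀) ⊓ D).relIndex D
    rw [inf_relIndex_right]
    exact fun hd => S.not_dvd_index' Subgroup.index_ne_zero_of_finite
      (hd.trans (PLocalCore.relIndex_dvd_index_of_normal_right _ D))
  have hfr' := Sylow.normalizer_sup_eq_top (hpg'.toSylow hidx')
  rw [show (hpg'.toSylow hidx' : Subgroup D) = ((S : Subgroup K₀) ⊓ D).subgroupOf D from rfl,
    subgroupOf_map_subtype, inf_eq_left.mpr inf_le_right] at hfr'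
  rw [eq_top_iff, ← hfr']
  refine sup_le (le_sup_of_le_left (le_sup_of_le_left ?_)) (sup_le hJle hC₀le)
  rw [← hJP]
  exact Thompson.normalizer_le_normalizer_thompsonSubgroupOf _

include hj hn hp hsep hO hX hq in
theorem exists_plane (hnf : ¬ IsThompsonFactorizable p K₀) :
    (p = 2 ∨ p = 3) ∧ ∃ W D : Subgroup K₀, IsElementaryAbelian p W ∧ Nat.card W = p ^ 2 ∧
      W ≤ (centralizer (X : Set L)).comap j ∧ D ≤ (centralizer (X : Set L)).comap j ∧
      D ≤ normalizer (W : Set K₀) ∧ ∃ f : D →* Matrix.SpecialLinearGroup (Fin 2) (ZMod p),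
        Function.Surjective f ∧ f.ker = (centralizer (W : Set K₀)).subgroupOf D := by
  obtain ⟨hS, hS3⟩ := setting j hj hn hp hsep hO
  set V := zV p j with hV
  set H := img V (thompsonSubgroup p L) with hH
  set f := ψ (p := p) j with hf
  have hne : H ≠ ⊥ := by
    intro h
    apply hnf
    rw [PLocalCore.isThompsonFactorizable_iff_le_centralizer hO, ← ker_θ (p := p) j hj]
    rw [hH, img_thompson j hj hp, Subgroup.map_eq_bot_iff, ψ, ← MonoidHom.comap_ker,
      (MonoidHom.ker_eq_bot_iff _).mpr SemidirectProduct.inr_injective, MonoidHom.comap_bot] at h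
    exact h
  obtain ⟨A, hAH, hA⟩ : ∃ A ≤ H, FFOffender.IsMin p (V' V) A := by
    by_contra h
    push Not at h
    exact hne (le_bot_iff.mp (H_le_of_min hS hS3 ⊥ fun A hAH hA => absurd hA (h A hAH)))
  obtain ⟨F, hF⟩ := exists_frame hS hAH hA
  refine ⟨two_or_three F, ?_⟩
  obtain ⟨φ⟩ := nonempty_sl2 F
  have hEdvd : Nat.card (LG F) ∣ Nat.card K₀ := by
    refine ((card_dvd_of_le (LG_le F)).trans ?_).trans
      (card_subgroup_dvd_card (thompsonSubgroup p K₀))
    rw [hH, img_thompson j hj hp]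
    exact card_map_dvd _ _
  have h6 : 6 ∣ Nat.card K₀ := by
    rcases two_or_three F with h | h <;> subst h <;> rw [Nat.card_congr φ.toEquiv] at hEdvd
    · exact card_sl2_two ▸ hEdvd
    · exact (by norm_num : 6 ∣ 24).trans (card_sl2_three ▸ hEdvd)
  have h5 : 5 ≤ q := by
    by_contra hlt
    push Not at hlt
    have := (Fact.out : q.Prime).two_le
    interval_cases q
    · exact hq ((by norm_num : 2 ∣ 6).trans h6)
    · exact hq ((by norm_num : 3 ∣ 6).trans h6)
    · exact absurd (Fact.out : Nat.Prime 4) (by norm_num)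
  obtain ⟨W₀, D₀, hW₀, hWc, hD₀, hD₀n, g, hg, hgk⟩ := FFOrbit.exists_fixed_plane F hS3 (hF ▸ hA)
    (elab_imgX j hX) h5 (le_top.trans_eq (normalizer_V' (V := V)).symm) (imgX_le j)
    (fun h => hq (h.trans hEdvd))
  set W : Subgroup K₀ := ((W₀.comap SemidirectProduct.inl).map V.subtype).comap j with hW
  have hVr : V ≤ j.range := map_le_range _ _
  have hWmap : W.map j = (W₀.comap SemidirectProduct.inl).map V.subtype :=
    map_comap_eq_self ((map_subtype_le _).trans hVr)
  have hWmem : ∀ y : K₀, y ∈ W ↔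
      ∃ hy : j y ∈ V, (SemidirectProduct.inl (⟨j y, hy⟩ : V) : Semi V) ∈ W₀ := by
    intro y
    constructor
    · rintro ⟨v, hv, e⟩
      exact ⟨e ▸ v.2, by rwa [show (⟨j y, e ▸ v.2⟩ : V) = v from Subtype.ext e.symm]⟩
    · rintro ⟨hy, h⟩
      exact ⟨⟨j y, hy⟩, h, rfl⟩
  have hW₀inl : W₀ ≤ (SemidirectProduct.inl : V →* Semi V).range := hW₀.trans inf_le_left
  set D : Subgroup K₀ := D₀.comap f ⊓ (centralizer (X : Set L)).comap j with hD
  have hconj : ∀ (d y : K₀) (hy : j y ∈ V), f d * SemidirectProduct.inl (⟨j y, hy⟩ : V) * (f d)⁻¹ =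
      SemidirectProduct.inl (⟨j (d * y * d⁻¹), by
        simpa using (inferInstance : V.Normal).conj_mem _ hy (j d)⟩ : V) := by
    intro d y hy
    refine (conj_inl V (j d) ⟨j y, hy⟩).trans (congrArg SemidirectProduct.inl (Subtype.ext ?_))
    simp
  refine ⟨W, D, ?_, ?_, ?_, inf_le_right, ?_, ?_⟩
  · refine ⟨⟨⟨fun a b => Subtype.ext (hj ?_)⟩⟩, fun a ha => hj ?_⟩
    · have hVab : IsElementaryAbelian p (V' V) := hS.elab_V
      obtain ⟨ha, -⟩ := (hWmem a).mp a.2
      obtain ⟨hb, -⟩ := (hWmem b).mp b.2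
      have h1 := SemidirectProduct.inl_injective (φ := FFTransfer.φ V)
        (a₁ := (⟨j a, ha⟩ : V) * ⟨j b, hb⟩) (a₂ := (⟨j b, hb⟩ : V) * ⟨j a, ha⟩) (by
          rw [map_mul, map_mul]
          exact Thompson.elab_commute hVab ⟨_, rfl⟩ ⟨_, rfl⟩)
      simpa using congrArg Subtype.val h1
    · obtain ⟨ha', -⟩ := (hWmem a).mp ha
      have h1 := hS.elab_V.2 _ (show SemidirectProduct.inl (⟨j a, ha'⟩ : V) ∈ V' V from ⟨_, rfl⟩)
      rw [← map_pow, ← map_one (SemidirectProduct.inl : V →* Semi V),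
        SemidirectProduct.inl_inj] at h1
      simpa using congrArg Subtype.val h1
  · rw [← card_map_of_injective (K := W) hj, hWmap, card_map_of_injective V.subtype_injective,
      ← card_map_of_injective (f := (SemidirectProduct.inl : V →* Semi V))
        (K := W₀.comap SemidirectProduct.inl) SemidirectProduct.inl_injective,
      map_comap_eq_self hW₀inl, hWc]
  · intro y hy
    obtain ⟨hy', h⟩ := (hWmem y).mp hy
    refine mem_centralizer_iff.mpr fun x hx => ?_
    exact ((commute_iff x ⟨j y, hy'⟩).mp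
      (mem_centralizer_iff.mp (hW₀ h).2 _ (mem_map_of_mem _ (mem_map_of_mem _ hx)))).eq
  · intro d hd
    rw [mem_normalizer_iff_map_conj_eq]
    refine CfsgLib.Solvable.eq_of_le_of_card_le ?_
      (card_map_of_injective (MulAut.conj d).injective).ge
    rintro _ ⟨y, hy, rfl⟩
    obtain ⟨hy', h⟩ := (hWmem y).mp hy
    refine (hWmem _).mpr ⟨show j (d * y * d⁻¹) ∈ V by
      simpa using (inferInstance : V.Normal).conj_mem _ hy' (j d), ?_⟩
    show SemidirectProduct.inl (⟨j (d * y * d⁻¹), _⟩ : V) ∈ W₀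
    rw [← hconj d y hy']
    exact (mem_normalizer_iff.mp (hD₀n hd.1) _).mp h
  · let r : D →* D₀ := (f.comp D.subtype).codRestrict D₀ fun x => x.2.1
    have hr : Function.Surjective r := by
      rintro ⟨d, hd⟩
      obtain ⟨y, hy, hyX⟩ := exists_lift j hj hn hp hX hq (hD₀ hd).1 (hD₀ hd).2
      exact ⟨⟨y, show f y ∈ D₀ from hy ▸ hd, hyX⟩, Subtype.ext hy⟩
    refine ⟨g.comp r, hg.comp hr, ?_⟩
    rw [← MonoidHom.comap_ker, hgk]
    ext d
    rw [mem_comap, mem_subgroupOf, mem_subgroupOf]
    refine ⟨fun h => mem_centralizer_iff.mpr fun y hy => hj ?_, fun h => mem_centralizer_iff.mpr ?_⟩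
    · obtain ⟨hy', hyW⟩ := (hWmem y).mp hy
      rw [map_mul, map_mul]
      exact ((commute_iff (j d) ⟨j y, hy'⟩).mp
        (show Commute (f d) _ from (mem_centralizer_iff.mp h _ hyW).symm)).eq.symm
    · intro w hw
      obtain ⟨v, rfl⟩ := hW₀inl hw
      obtain ⟨y, hy⟩ := hVr v.2
      have hyW : y ∈ W := (hWmem y).mpr ⟨hy ▸ v.2, by
        rwa [show (⟨j y, hy ▸ v.2⟩ : V) = v from Subtype.ext hy]⟩
      refine ((commute_iff (j (d : K₀)) v).mpr ?_).eq.symm
      rw [← hy]
      exact ((show Commute (d : K₀) y from (mem_centralizer_iff.mp h y hyW).symm).map j)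

end CfsgLib.FFCoprime

namespace CfsgLib.FFCoprime

open Subgroup Cfsg

variable {G : Type*} [Group G] {p q : ℕ} [Fact p.Prime] [Fact q.Prime] {K X : Subgroup G}

theorem ambient_setup (hXK : X ≤ normalizer (K : Set G)) (hX : IsElementaryAbelian q X) (hpq : p ≠ q) :
    ((inclusion (le_sup_left : K ≤ K ⊔ X)).range).Normal ∧
      (∀ l : ↥(K ⊔ X), l ^ p = 1 → l ∈ (inclusion (le_sup_left : K ≤ K ⊔ X)).range) ∧
      IsElementaryAbelian q (X.subgroupOf (K ⊔ X)) ∧
      (centralizer ((X.subgroupOf (K ⊔ X) : Subgroup ↥(K ⊔ X)) : Set ↥(K ⊔ X))).comap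
        (inclusion (le_sup_left : K ≤ K ⊔ X)) = (centralizer (X : Set G)).subgroupOf K := by
  rw [inclusion_range]
  have hKn : (K.subgroupOf (K ⊔ X)).Normal :=
    (normal_subgroupOf_iff_le_normalizer le_sup_left).2 (sup_le le_normalizer hXK)
  refine ⟨hKn, fun l hl => ?_, Thompson.elab_subgroupOf hX _, ?_⟩
  · set π := QuotientGroup.mk' (K.subgroupOf (K ⊔ X))
    have hq : π l ^ q = 1 := by
      have h : K.subgroupOf (K ⊔ X) ⊔ X.subgroupOf (K ⊔ X) = ⊤ := by
        rw [← subgroupOf_sup le_sup_left le_sup_right, subgroupOf_self]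
      obtain ⟨k, hk, x, hx, rfl⟩ := mem_sup_of_normal_left.mp (h ▸ mem_top l)
      rw [map_mul, show π k = 1 from (QuotientGroup.eq_one_iff k).mpr hk, one_mul, ← map_pow,
        (Thompson.elab_subgroupOf hX (K ⊔ X)).2 x hx, map_one]
    have hp : π l ^ p = 1 := by rw [← map_pow, hl, map_one]
    refine (QuotientGroup.eq_one_iff l).mp (orderOf_eq_one_iff.mp ?_)
    exact Nat.eq_one_of_dvd_coprimes ((Nat.coprime_primes Fact.out Fact.out).mpr hpq)
      (orderOf_dvd_of_pow_eq_one hp) (orderOf_dvd_of_pow_eq_one hq)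
  · ext y
    rw [mem_comap, mem_subgroupOf, mem_centralizer_iff, mem_centralizer_iff]
    refine ⟨fun h x hx => congrArg Subtype.val (h ⟨x, mem_sup_right hx⟩ hx), ?_⟩
    rintro h ⟨x, hx'⟩ hx
    exact Subtype.ext (h x hx)

theorem subsingleton_of_eq [Finite G] (hq : ¬ q ∣ Nat.card K) (hpq : p = q) (hO : pPrimeCore p ↥K = ⊥) :
    Subsingleton K := by
  subst hpq
  have h : (⊤ : Subgroup K) ≤ pPrimeCore p ↥K :=
    CfsgLib.Solvable.le_pPrimeCore p inferInstance
      (by rw [card_top]; exact ((Fact.out : p.Prime).coprime_iff_not_dvd.mpr hq).symm)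
  rw [hO, le_bot_iff] at h
  exact ⟨fun a b => by
    have := h ▸ mem_top a
    have := h ▸ mem_top b
    rw [mem_bot] at *
    simp_all⟩

end CfsgLib.FFCoprime
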