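/-
Two quadratically acting generators and two dimensional special linear groups.
-/
import Mathlib.GroupTheory.PGroup
import Mathlib.LinearAlgebra.Eigenspace.Minpoly
import Mathlib.LinearAlgebra.Determinant
import Mathlib.LinearAlgebra.Matrix.SpecialLinearGroup
import Mathlib.LinearAlgebra.Matrix.ToLin
import Mathlib.LinearAlgebra.Quotient.Pi
import Mathlib.FieldTheory.Finite.Basic

set_option autoImplicit false
set_option linter.style.haveILetI false
set_option linter.unusedSectionVars false
set_option linter.unusedSimpArgs false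

namespace CfsgLib.QuadSL

open Polynomial

variable {K : Type*} [Field K] {p : ℕ} [hp : Fact p.Prime] [CharP K p]

theorem iterate_sub {W : Type*} [AddCommGroup W] [Module K W] (g : W ≃ₗ[K] W) (w : W)
    (h : g (g w - w) = g w - w) : ∀ n : ℕ, (g ^ n) w = w + n • (g w - w) := by
  intro n
  induction n with
  | zero => simp
  | succ n ih =>
    rw [pow_succ', LinearEquiv.mul_apply, ih, map_add, map_nsmul, h, succ_nsmul]
    abel

theorem pow_char_apply {W : Type*} [AddCommGroup W] [Module K W] (g : W ≃ₗ[K] W) (w : W)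
    (h : g (g w - w) = g w - w) : (g ^ p) w = w := by
  rw [iterate_sub g w h, ← Nat.cast_smul_eq_nsmul K, CharP.cast_eq_zero, zero_smul, add_zero]

variable [Fintype K]

/-- An operator with `p ^ e * (q - 1)`-th power one has an eigenvalue. -/
theorem exists_eigenvector {W : Type*} [AddCommGroup W] [Module K W] [FiniteDimensional K W]
    [Nontrivial W] (f : Module.End K W) {e k : ℕ} (hk : k ∣ Fintype.card K - 1)
    (h : f ^ (p ^ e * k) = 1) : ∃ μ : K, μ ≠ 0 ∧ ∃ u : W, u ≠ 0 ∧ f u = μ • u := by
  classical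
  have hq := Fintype.one_lt_card (α := K)
  have hpos : 0 < p ^ e * k := by
    refine Nat.mul_pos (Nat.pow_pos hp.out.pos) (Nat.pos_of_ne_zero fun h0 => ?_)
    rw [h0, zero_dvd_iff] at hk
    omega
  let g : K[X] := (X ^ Fintype.card K - X) ^ p ^ e
  have hg0 : g ≠ 0 := pow_ne_zero _ (FiniteField.X_pow_card_sub_X_ne_zero K hq)
  have hsplit : g.Splits := by
    refine Polynomial.Splits.pow ?_ _
    rw [splits_iff_card_roots, FiniteField.roots_X_pow_card_sub_X,
      FiniteField.X_pow_card_sub_X_natDegree_eq K hq]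
    rfl
  have hgf : aeval f g = 0 := by
    obtain ⟨l, hl⟩ := hk
    have hF : (f ^ (Fintype.card K - 1)) ^ p ^ e = 1 := by
      rw [hl, ← pow_mul, show k * l * p ^ e = p ^ e * k * l by ring, pow_mul, h, one_pow]
    have hfac : g = X ^ p ^ e * ((X ^ (Fintype.card K - 1)) ^ p ^ e - 1) := by
      rw [← one_pow (M := K[X]) (p ^ e), ← sub_pow_char_pow, ← mul_pow]
      simp only [g, one_pow]
      congr 1
      rw [mul_sub, ← pow_succ', Nat.sub_add_cancel hq.le, mul_one]
    rw [hfac, map_mul, map_sub, map_pow, map_pow, map_pow, aeval_X, map_one, hF, sub_self, mul_zero]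
  have hint : IsIntegral K f := Algebra.IsIntegral.isIntegral f
  obtain ⟨μ, hμ⟩ := (hsplit.of_dvd hg0 (minpoly.dvd K f hgf)).exists_eval_eq_zero
    (minpoly.degree_pos hint).ne'
  obtain ⟨u, hu⟩ := (Module.End.hasEigenvalue_of_isRoot hμ).exists_hasEigenvector
  refine ⟨μ, fun h0 => hu.2 ?_, u, hu.2, hu.apply_eq_smul⟩
  have h1 : f u = 0 := by rw [hu.apply_eq_smul, h0, zero_smul]
  obtain ⟨n, hn⟩ : ∃ n, p ^ e * k = n + 1 := ⟨p ^ e * k - 1, by omega⟩
  have h2 := LinearMap.congr_fun h u
  rw [hn, pow_succ, Module.End.mul_apply, h1, map_zero, Module.End.one_apply] at h2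
  exact h2.symm

variable {G : Type*} [Group G]

/-- The action on an invariant submodule. -/
noncomputable def resHom {W : Type*} [AddCommGroup W] [Module K W] [FiniteDimensional K W]
    (ρ : G →* (W ≃ₗ[K] W)) (U : Submodule K W) (hU : ∀ g, ∀ w ∈ U, ρ g w ∈ U) :
    G →* (U ≃ₗ[K] U) :=
  MonoidHom.mk' (fun g => LinearEquiv.ofBijective ((ρ g : W →ₗ[K] W).restrict (hU g))
    ⟨fun x y h => Subtype.ext ((ρ g).injective (congrArg Subtype.val h)),
      LinearMap.surjective_of_injective fun x y h =>
        Subtype.ext ((ρ g).injective (congrArg Subtype.val h))⟩)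
    fun g h => LinearEquiv.ext fun x => Subtype.ext (by
      show ρ (g * h) x = ρ g (ρ h x)
      rw [map_mul]; rfl)

theorem resHom_apply {W : Type*} [AddCommGroup W] [Module K W] [FiniteDimensional K W]
    (ρ : G →* (W ≃ₗ[K] W)) (U : Submodule K W) (hU : ∀ g, ∀ w ∈ U, ρ g w ∈ U) (g : G) (x : U) :
    ((resHom ρ U hU g x : U) : W) = ρ g x := rfl

/-- The action on the quotient by an invariant submodule. -/
noncomputable def quotHom {W : Type*} [AddCommGroup W] [Module K W]
    (ρ : G →* (W ≃ₗ[K] W)) (U : Submodule K W) (hU : ∀ g, U.map (ρ g : W →ₗ[K] W) = U) :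
    G →* ((W ⧸ U) ≃ₗ[K] (W ⧸ U)) :=
  MonoidHom.mk' (fun g => Submodule.Quotient.equiv U U (ρ g) (hU g))
    fun g h => LinearEquiv.ext fun x => by
      obtain ⟨x, rfl⟩ := Submodule.Quotient.mk_surjective U x
      show Submodule.Quotient.mk (ρ (g * h) x) = Submodule.Quotient.mk (ρ g (ρ h x))
      rw [map_mul]; rfl

theorem quotHom_apply {W : Type*} [AddCommGroup W] [Module K W]
    (ρ : G →* (W ≃ₗ[K] W)) (U : Submodule K W) (hU : ∀ g, U.map (ρ g : W →ₗ[K] W) = U) (g : G)
    (x : W) : quotHom ρ U hU g (Submodule.Quotient.mk x) = Submodule.Quotient.mk (ρ g x) := rfl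

/-- The irreducible case: a plane. -/
theorem irreducible_case {U : Type*} [AddCommGroup U] [Module K U] [FiniteDimensional K U]
    [Nontrivial U] (ρ : G →* (U ≃ₗ[K] U))
    (hirr : ∀ V : Submodule K U, V ≠ ⊥ → (∀ g, ∀ w ∈ V, ρ g w ∈ V) → V = ⊤)
    {a b : G} (hgen : Subgroup.closure ({a, b} : Set G) = ⊤)
    (ha : ∀ w, ρ a (ρ a w - w) = ρ a w - w) (hb : ∀ w, ρ b (ρ b w - w) = ρ b w - w)
    {e k : ℕ} (hk : k ∣ Fintype.card K - 1) (hab : ρ (a * b) ^ (p ^ e * k) = 1)
    (hnp : ¬ IsPGroup p ρ.range) :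
    ∃ φ : G →* Matrix.SpecialLinearGroup (Fin 2) K, ¬ IsPGroup p φ.range := by
  have hinv : ∀ V : Submodule K U, (∀ w ∈ V, ρ a w ∈ V) → (∀ w ∈ V, ρ b w ∈ V) →
      ∀ g, ∀ w ∈ V, ρ g w ∈ V := by
    intro V h1 h2
    have hfin : ∀ g, (∀ w ∈ V, ρ g w ∈ V) → ∀ w ∈ V, ρ g⁻¹ w ∈ V := by
      intro g hg w hw
      have hs : Function.Surjective ((ρ g : U →ₗ[K] U).restrict hg) :=
        LinearMap.surjective_of_injective fun x y h =>
          Subtype.ext ((ρ g).injective (congrArg Subtype.val h))
      obtain ⟨v, hv⟩ := hs ⟨w, hw⟩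
      have hv' : ρ g v = w := congrArg Subtype.val hv
      rw [map_inv, ← hv']
      show (ρ g)⁻¹ (ρ g v) ∈ V
      rw [← LinearEquiv.mul_apply, inv_mul_cancel]
      exact v.2
    intro g
    have hg : g ∈ Subgroup.closure ({a, b} : Set G) := hgen ▸ Subgroup.mem_top g
    induction hg using Subgroup.closure_induction with
    | mem x hx =>
      rcases hx with rfl | hx
      · exact h1
      · rw [Set.mem_singleton_iff.1 hx]; exact h2
    | one => simp
    | mul x y _ _ hx hy => intro w hw; rw [map_mul]; exact hx _ (hy w hw)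
    | inv x _ hx => exact hfin x hx
  obtain ⟨μ, hμ, u, hu, hfu⟩ := exists_eigenvector (p := p) (e := e)
    ((ρ (a * b) : U ≃ₗ[K] U) : Module.End K U) hk (by
      rw [← LinearEquiv.automorphismGroup.toLinearMapMonoidHom_apply, ← map_pow, hab, map_one])
  have habu : ρ a (ρ b u) = μ • u := by
    rw [← LinearEquiv.mul_apply, ← map_mul]
    exact hfu
  obtain ⟨v, hv⟩ : ∃ v, ρ b u - u = v := ⟨_, rfl⟩
  have hbv : ρ b v = v := by rw [← hv, hb u]
  have hbu : ρ b u = u + v := by rw [← hv]; abel
  have haz : ρ a (ρ a u - u) = ρ a u - u := ha u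
  have hau_mem : ∀ V : Submodule K U, u ∈ V → v ∈ V → ρ a u ∈ V ∧ ρ a v ∈ V := by
    intro V huV hvV
    -- `z` is fixed by `a`
    obtain ⟨z, hz⟩ : ∃ z, (μ⁻¹ - 1) • u + μ⁻¹ • v = z := ⟨_, rfl⟩
    have hainv : ρ a (μ⁻¹ • (u + v)) = u := by
      rw [map_smul, ← hbu, habu, smul_smul, inv_mul_cancel₀ hμ, one_smul]
    have hzeq : μ⁻¹ • (u + v) = u + z := by rw [← hz]; module
    rw [hzeq] at hainv
    have hfix : ρ a z = z := by
      have h1 := ha (u + z)
      rw [hainv] at h1
      have h2 : u - (u + z) = -z := by abel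
      rw [h2, map_neg] at h1
      exact neg_inj.1 h1
    have hau : ρ a u = u - z := by
      rw [map_add, hfix] at hainv
      exact eq_sub_of_add_eq hainv
    have hzV : z ∈ V := hz ▸ V.add_mem (V.smul_mem _ huV) (V.smul_mem _ hvV)
    have hauV : ρ a u ∈ V := hau ▸ V.sub_mem huV hzV
    refine ⟨hauV, ?_⟩
    have hv' : v = μ • (z - (μ⁻¹ - 1) • u) := by
      rw [← hz, add_sub_cancel_left, smul_smul, mul_inv_cancel₀ hμ, one_smul]
    rw [hv', map_smul, map_sub, map_smul, hfix]
    exact V.smul_mem _ (V.sub_mem hzV (V.smul_mem _ hauV))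
  let V : Submodule K U := Submodule.span K (Set.range ![u, v])
  have hu' : u ∈ V := Submodule.subset_span ⟨0, rfl⟩
  have hv' : v ∈ V := Submodule.subset_span ⟨1, rfl⟩
  have hspan : V = ⊤ := by
    refine hirr V (fun h => hu ((Submodule.mem_bot K).1 (h ▸ hu'))) (hinv V ?_ ?_)
    · intro w hw
      induction hw using Submodule.span_induction with
      | mem x hx =>
        obtain ⟨i, rfl⟩ := hx
        fin_cases i
        · exact (hau_mem V hu' hv').1
        · exact (hau_mem V hu' hv').2
      | zero => simp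
      | add x y _ _ hx hy => rw [map_add]; exact V.add_mem hx hy
      | smul c x _ hx => rw [map_smul]; exact V.smul_mem _ hx
    · intro w hw
      induction hw using Submodule.span_induction with
      | mem x hx =>
        obtain ⟨i, rfl⟩ := hx
        fin_cases i
        · show ρ b u ∈ V
          rw [hbu]; exact V.add_mem hu' hv'
        · show ρ b v ∈ V
          rw [hbv]; exact hv'
      | zero => simp
      | add x y _ _ hx hy => rw [map_add]; exact V.add_mem hx hy
      | smul c x _ hx => rw [map_smul]; exact V.smul_mem _ hx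
  have hpow : ∀ g, (∀ w, ρ g (ρ g w - w) = ρ g w - w) → ρ g ^ p = 1 := fun g hg =>
    LinearEquiv.ext fun w => pow_char_apply (ρ g) w (hg w)
  have hli : LinearIndependent K ![u, v] := by
    rw [LinearIndependent.pair_iff']
    · intro c hc
      apply hnp
      -- then `u` spans everything and both generators act trivially
      have hline : ∀ w, ∃ d : K, w = d • u := by
        intro w
        have hw : w ∈ V := hspan ▸ Submodule.mem_top
        induction hw using Submodule.span_induction with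
        | mem x hx =>
          obtain ⟨i, rfl⟩ := hx
          fin_cases i
          · exact ⟨1, (one_smul K u).symm⟩
          · exact ⟨c, hc.symm⟩
        | zero => exact ⟨0, (zero_smul K u).symm⟩
        | add x y _ _ hx hy =>
          obtain ⟨d, rfl⟩ := hx
          obtain ⟨d', rfl⟩ := hy
          exact ⟨d + d', (add_smul _ _ _).symm⟩
        | smul r x _ hx =>
          obtain ⟨d, rfl⟩ := hx
          exact ⟨r * d, smul_smul _ _ _⟩
      have htriv : ∀ g, (∀ w, ρ g (ρ g w - w) = ρ g w - w) → ρ g = 1 := by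
        intro g hg
        obtain ⟨d, hd⟩ := hline (ρ g u)
        have h1 := hg u
        rw [hd, ← one_smul K u, smul_smul, ← sub_smul, map_smul, mul_one, hd, smul_smul] at h1
        have h2 := smul_left_injective K hu h1
        have hd1 : d = 1 := by
          have : (d - 1) * (d - 1) = 0 := by linear_combination h2
          simpa [sub_eq_zero] using this
        refine LinearEquiv.ext fun w => ?_
        obtain ⟨r, rfl⟩ := hline w
        rw [map_smul, hd, hd1, one_smul]
        rfl
      have h1 : ρ.range = ⊥ := by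
        rw [eq_bot_iff, MonoidHom.range_eq_map, ← hgen, MonoidHom.map_closure, Subgroup.closure_le]
        rintro _ ⟨x, hx, rfl⟩
        rcases hx with rfl | hx
        · exact htriv _ ha
        · rw [Set.mem_singleton_iff.1 hx]; exact htriv _ hb
      rw [h1]
      exact IsPGroup.of_bot
    · exact hu
  let B : Module.Basis (Fin 2) K U := Module.Basis.mk hli (ge_of_eq hspan)
  have hdet : ∀ g, LinearEquiv.det (ρ g) = 1 := by
    have hd : ∀ g, (∀ w, ρ g (ρ g w - w) = ρ g w - w) → LinearEquiv.det (ρ g) = 1 := by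
      intro g hg
      have h1 := congrArg LinearEquiv.det (hpow g hg)
      rw [map_pow, map_one] at h1
      apply Units.ext
      have h2 : ((LinearEquiv.det (ρ g) : Kˣ) : K) ^ p = 1 := by
        rw [← Units.val_pow_eq_pow_val, h1, Units.val_one]
      exact frobenius_inj K p (by simpa [frobenius_def] using h2)
    intro g
    have hg : g ∈ Subgroup.closure ({a, b} : Set G) := hgen ▸ Subgroup.mem_top g
    induction hg using Subgroup.closure_induction with
    | mem x hx =>
      rcases hx with rfl | hx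
      · exact hd _ ha
      · rw [Set.mem_singleton_iff.1 hx]; exact hd _ hb
    | one => rw [map_one, map_one]
    | mul x y _ _ hx hy => rw [map_mul, map_mul, hx, hy, one_mul]
    | inv x _ hx => rw [map_inv, map_inv, hx, inv_one]
  let φ : G →* Matrix.SpecialLinearGroup (Fin 2) K := MonoidHom.mk'
    (fun g => ⟨LinearMap.toMatrix B B (ρ g : U →ₗ[K] U), by
      rw [LinearMap.det_toMatrix, ← LinearEquiv.coe_det, hdet g, Units.val_one]⟩)
    fun g h => Subtype.ext (by
      show LinearMap.toMatrix B B (ρ (g * h) : U →ₗ[K] U) = _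
      rw [map_mul]
      exact LinearMap.toMatrix_mul B (ρ g : U →ₗ[K] U) (ρ h : U →ₗ[K] U))
  refine ⟨φ, fun hφ => hnp fun x => ?_⟩
  obtain ⟨_, g, rfl⟩ := x
  obtain ⟨i, hi⟩ := hφ ⟨φ g, g, rfl⟩
  refine ⟨i, Subtype.ext ?_⟩
  have h1 : φ (g ^ p ^ i) = 1 := by
    rw [map_pow]
    exact congrArg Subtype.val hi
  have h2 : (ρ (g ^ p ^ i) : U →ₗ[K] U) = LinearMap.id :=
    (LinearMap.toMatrix B B).injective ((congrArg Subtype.val h1).trans (LinearMap.toMatrix_id B).symm)
  rw [SubgroupClass.coe_pow, ← map_pow]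
  exact LinearEquiv.toLinearMap_injective h2

/-- Two quadratic generators. -/
theorem exists_hom : ∀ (d : ℕ) {W : Type*} [AddCommGroup W] [Module K W] [FiniteDimensional K W]
    [Finite W] (_ : Module.finrank K W = d) (ρ : G →* (W ≃ₗ[K] W)) {a b : G}
    (_ : Subgroup.closure ({a, b} : Set G) = ⊤) (_ : ∀ w, ρ a (ρ a w - w) = ρ a w - w)
    (_ : ∀ w, ρ b (ρ b w - w) = ρ b w - w) {e k : ℕ} (_ : k ∣ Fintype.card K - 1)
    (_ : ρ (a * b) ^ (p ^ e * k) = 1) (_ : ¬ IsPGroup p ρ.range),
    ∃ φ : G →* Matrix.SpecialLinearGroup (Fin 2) K, ¬ IsPGroup p φ.range := by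
  intro d
  induction d using Nat.strong_induction_on with
  | _ d ih =>
  intro W _ _ _ _ hd ρ a b hgen ha hb e k hk hab hnp
  classical
  haveI : Nontrivial W := by
    by_contra hc
    rw [not_nontrivial_iff_subsingleton] at hc
    haveI : Subsingleton (W ≃ₗ[K] W) := ⟨fun f g => LinearEquiv.ext fun w => Subsingleton.elim _ _⟩
    exact hnp fun x => ⟨0, Subtype.ext (Subsingleton.elim _ _)⟩
  -- a minimal invariant submodule
  haveI : Finite (Submodule K W) := Finite.of_injective _ (SetLike.coe_injective (A := Submodule K W))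
  let P : Submodule K W → Prop := fun U => U ≠ ⊥ ∧ ∀ g, ∀ w ∈ U, ρ g w ∈ U
  obtain ⟨U, hUP, hUmin⟩ : ∃ U, P U ∧ ∀ V, P V → V ≤ U → U ≤ V :=
    (exists_minimal_of_wellFoundedLT P ⟨⊤, top_ne_bot, fun g w _ => Submodule.mem_top⟩).imp
      fun U h => ⟨h.1, fun V hV hle => h.2 hV hle⟩
  obtain ⟨hU0, hU⟩ := hUP
  haveI : Nontrivial U := Submodule.nontrivial_iff_ne_bot.2 hU0
  let σ := resHom ρ U hU
  by_cases hσ : IsPGroup p σ.range
  swap
  · refine irreducible_case (e := e) σ ?_ hgen (fun w => Subtype.ext (ha w)) (fun w => Subtype.ext (hb w))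
      hk ?_ hσ
    · intro V hV hVinv
      have hle : V.map U.subtype ≤ U := Submodule.map_subtype_le _ _
      have h1 : U ≤ V.map U.subtype := by
        refine hUmin _ ⟨fun h => hV ?_, ?_⟩ hle
        · exact Submodule.map_injective_of_injective U.subtype_injective (h.trans (Submodule.map_bot _).symm)
        · rintro g _ ⟨w, hw, rfl⟩
          exact ⟨σ g w, hVinv g w hw, rfl⟩
      rw [eq_top_iff]
      intro w _
      obtain ⟨v, hv, hvw⟩ := h1 w.2
      exact Subtype.ext hvw ▸ hv
    · refine LinearEquiv.ext fun w => Subtype.ext ?_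
      rw [← map_pow, resHom_apply, map_pow, hab]
      rfl
  · have hmap : ∀ g, U.map (ρ g : W →ₗ[K] W) = U := fun g => by
      refine le_antisymm (by rintro _ ⟨w, hw, rfl⟩; exact hU g w hw) fun w hw => ⟨ρ g⁻¹ w, hU _ w hw, ?_⟩
      show ρ g (ρ g⁻¹ w) = w
      rw [← LinearEquiv.mul_apply, ← map_mul, mul_inv_cancel, map_one]
      rfl
    let τ := quotHom ρ U hmap
    have hτ : ¬ IsPGroup p τ.range := by
      intro hτ
      refine hnp fun x => ?_
      obtain ⟨_, g, rfl⟩ := x
      obtain ⟨i, hi⟩ := hσ ⟨σ g, g, rfl⟩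
      obtain ⟨j, hj⟩ := hτ ⟨τ g, g, rfl⟩
      have hi' : σ (g ^ p ^ (i + j)) = 1 := by
        rw [map_pow, pow_add, pow_mul, show σ g ^ p ^ i = 1 from congrArg Subtype.val hi, one_pow]
      have hj' : τ (g ^ p ^ (i + j)) = 1 := by
        rw [map_pow, pow_add, mul_comm, pow_mul, show τ g ^ p ^ j = 1 from congrArg Subtype.val hj,
          one_pow]
      refine ⟨i + j + 1, Subtype.ext ?_⟩
      rw [SubgroupClass.coe_pow, pow_succ, pow_mul, ← map_pow]
      refine LinearEquiv.ext fun w => pow_char_apply (ρ (g ^ p ^ (i + j))) w ?_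
      have hmem : ρ (g ^ p ^ (i + j)) w - w ∈ U := by
        rw [← Submodule.Quotient.eq, ← quotHom_apply ρ U hmap]
        rw [show quotHom ρ U hmap (g ^ p ^ (i + j)) = 1 from hj']
        rfl
      have := congrArg Subtype.val (LinearEquiv.congr_fun hi' ⟨_, hmem⟩)
      exact this
    haveI : Finite (W ⧸ U) := Finite.of_surjective _ (Submodule.Quotient.mk_surjective U)
    refine ih (Module.finrank K (W ⧸ U)) ?_ rfl τ hgen ?_ ?_ (e := e) hk ?_ hτ
    · have h1 := Submodule.finrank_quotient_add_finrank U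
      have h2 : 0 < Module.finrank K U := Module.finrank_pos
      omega
    · intro w
      obtain ⟨w, rfl⟩ := Submodule.Quotient.mk_surjective U w
      rw [quotHom_apply, ← Submodule.Quotient.mk_sub, quotHom_apply, ha]
    · intro w
      obtain ⟨w, rfl⟩ := Submodule.Quotient.mk_surjective U w
      rw [quotHom_apply, ← Submodule.Quotient.mk_sub, quotHom_apply, hb]
    · refine LinearEquiv.ext fun w => ?_
      obtain ⟨w, rfl⟩ := Submodule.Quotient.mk_surjective U w
      rw [← map_pow, quotHom_apply, map_pow, hab]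
      rfl

end CfsgLib.QuadSL
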