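/-
The normalizers of W(S) form a local system; factorization and normal p-complement.
-/
import Cfsg.Agent.PLocal.ActionStable
import Cfsg.Agent.ZJ.NormalPComplement
import Cfsg.Agent.ZJ.ZKinds
import Cfsg.Agent.S0622
import Cfsg.Agent.PLocal.PConstrained

set_option autoImplicit false
set_option linter.style.haveILetI false

namespace CfsgLib.StableSystem

open Subgroup Cfsg CfsgLib.StableClosure

universe u

variable {p : ℕ}

/-- `W(U)` as a subgroup of the ambient group. -/
def wOf (p : ℕ) (G : Type u) [Group G] (U : Subgroup G) : Subgroup G :=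
  (stableNormalClosure p ↥U).map U.subtype

theorem wOf_map {G H : Type u} [Group G] [Group H] (f : G →* H) (U : Subgroup G)
    (hf : ∀ x ∈ U, f x = 1 → x = 1) : wOf p H (U.map f) = (wOf p G U).map f := by
  have hinj : Function.Injective (f.comp U.subtype) := by
    rw [injective_iff_map_eq_one]
    exact fun x hx => Subtype.ext (hf x x.2 hx)
  have hr : (f.comp U.subtype).range = U.map f := by
    rw [MonoidHom.range_comp, range_subtype]
  let e : ↥U ≃* ↥(U.map f) :=
    (MonoidHom.ofInjective hinj).trans (MulEquiv.subgroupCongr hr)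
  rw [wOf, wOf, ← map_stableNormalClosure e, map_map, map_map]
  exact congrArg (fun g => (stableNormalClosure p ↥U).map g) (MonoidHom.ext fun _ => rfl)

theorem wOf_le {G : Type u} [Group G] (U : Subgroup G) : wOf p G U ≤ U := map_subtype_le _

theorem wOf_normalizer_le {G : Type u} [Group G] (U : Subgroup G) :
    normalizer (U : Set G) ≤ normalizer (wOf p G U : Set G) := fun g hg => by
  rw [mem_normalizer_iff_map_conj_eq] at hg ⊢
  have h := wOf_map (p := p) (MulAut.conj g).toMonoidHom U
    (fun x _ h => (MulAut.conj g).injective (h.trans (map_one _).symm))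
  exact h.symm.trans (congrArg (wOf p G) hg)

variable [Fact p.Prime]

theorem wOf_ne_bot {G : Type u} [Group G] [Finite G] {U : Subgroup G} (hU : IsPGroup p U)
    (h : U ≠ ⊥) : wOf p G U ≠ ⊥ := fun hb => by
  refine (Cfsg.Agent.S0622.result hU).2.2.2.1 ((nontrivial_iff_ne_bot U).2 h) ?_
  exact (map_eq_bot_iff_of_injective _ U.subtype_injective).mp hb

theorem localSystem :
    CfsgLib.ZJ.LocalSystem.{u} p (fun (_ : Unit) G _ U => wOf p G U)
      (fun (_ : Unit) G _ U => normalizer ((wOf p G U : Subgroup G) : Set G)) where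
  le _ _ _ _ U := wOf_le U
  ne_bot _ _ _ _ _ hU h := wOf_ne_bot hU h
  normalizer_le _ _ _ _ U := wOf_normalizer_le U
  le_normalizer _ _ _ _ _ := le_rfl
  self_le _ _ _ _ U := le_normalizer.trans (wOf_normalizer_le U)
  map _ G _ _ M R := by
    show _ ≤ normalizer ((wOf p G (R.map M.subtype) : Subgroup G) : Set G)
    rw [wOf_map M.subtype R fun x _ h => M.subtype_injective (h.trans (map_one _).symm)]
    exact le_normalizer_map _
  quot _ G _ _ N _ hcop U hU := by
    set π := QuotientGroup.mk' N with hπ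
    have hinj : ∀ x ∈ U, π x = 1 → x = 1 := fun x hx h => mem_bot.mp
      (CfsgLib.ZJ.isPGroup_inf_coprime hU hcop ▸
        (⟨hx, (QuotientGroup.eq_one_iff x).mp h⟩ : x ∈ U ⊓ N))
    show normalizer ((wOf p (G ⧸ N) (U.map π) : Subgroup (G ⧸ N)) : Set (G ⧸ N)) ≤ _
    rw [wOf_map π U hinj]
    intro y hy
    obtain ⟨g, rfl⟩ := QuotientGroup.mk'_surjective N y
    have hg' : g ∈ normalizer ((wOf p G U ⊔ N : Subgroup G) : Set G) := by
      have e : ((wOf p G U).map π).comap π = wOf p G U ⊔ N := by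
        rw [comap_map_eq, QuotientGroup.ker_mk']
      rw [← e]
      exact le_normalizer_comap π hy
    obtain ⟨m, hm, hmg⟩ := CfsgLib.ZJ.exists_mul_mem_normalizer (hU.to_le (wOf_le U)) hcop hg'
    exact ⟨m * g, hmg, by rw [map_mul, show π m = 1 from (QuotientGroup.eq_one_iff m).mpr hm, one_mul]⟩

theorem hasNormalPComplement (hp : p ≠ 2) (G : Type u) [Group G] [Finite G] (P : Sylow p G)
    (hN : HasNormalPComplement p (normalizer ((wOf p G (P : Subgroup G) : Subgroup G) : Set G))) :
    HasNormalPComplement p G := by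
  refine localSystem.hasNormalPComplement (fun _ _ => True) (fun _ _ _ _ _ => trivial)
    (fun _ _ _ _ _ _ => trivial) (fun G _ _ P _ hN hC _ L hL hab _ _ => ?_) G P trivial fun _ => hN
  have hfree : CfsgLib.ActionStable.SL2Free p G := by
    haveI : Fact (Nat.Prime 2) := ⟨Nat.prime_two⟩
    intro M f hf
    obtain ⟨T⟩ := (inferInstance : Nonempty (Sylow 2 G))
    refine CfsgLib.ZJ.sylow_two_noncomm hp M f hf T ⟨⟨fun a b => ?_⟩⟩
    have hpc : ∀ k, (p ^ k).Coprime 2 := fun k =>
      ((Nat.coprime_primes Fact.out Nat.prime_two).mpr hp).pow_left k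
    have hTL : ∀ t : T, (t : G) ∈ L := by
      intro t
      obtain ⟨k, hk⟩ := hL t
      obtain ⟨n, hn⟩ := T.2 t
      have ht : (t : G) ^ 2 ^ n = 1 := by simpa using congrArg Subtype.val hn
      obtain ⟨m, hm⟩ := exists_pow_eq_self_of_coprime (x := (t : G)) (n := p ^ k)
        (((hpc k).pow_right n).coprime_dvd_right (orderOf_dvd_of_pow_eq_one ht))
      rw [← hm]
      exact pow_mem hk m
    have hd : (T : Subgroup G) ⊓ pCore p G = ⊥ := CfsgLib.ZJ.isPGroup_inf_coprime T.2 (by
      obtain ⟨j, hj⟩ := (CfsgLib.Solvable.isPGroup_pCore p (G := G)).exists_card_eq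
      rw [hj]
      exact hpc j)
    have hab' : (a : G) * b * (a : G)⁻¹ * (b : G)⁻¹ ∈ (⊥ : Subgroup G) :=
      hd ▸ ⟨(T : Subgroup G).mul_mem ((T : Subgroup G).mul_mem ((T : Subgroup G).mul_mem a.2 b.2)
          ((T : Subgroup G).inv_mem a.2)) ((T : Subgroup G).inv_mem b.2),
        hab _ (hTL a) _ (hTL b)⟩
    rw [mem_bot, mul_inv_eq_one, mul_inv_eq_iff_eq_mul] at hab'
    exact Subtype.ext hab'
  have hW : (wOf p G (P : Subgroup G)).Normal := CfsgLib.StableNormal.stableNormalClosure_normal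
    (CfsgLib.ActionStable.isActionPStable_of_sl2free hp hfree) hC P
  have h := hN ()
  rw [normalizer_eq_top (H := wOf p G (P : Subgroup G))] at h
  exact CfsgLib.ZJ.hnpc_of_surjective (topEquiv : (⊤ : Subgroup G) ≃* G).toMonoidHom
    (MulEquiv.surjective _) h

/-- In a p-soluble group with p ≥ 5, `G = O_{p'}(G) N(W(S))`. -/
theorem sup_normalizer_eq_top {G : Type u} [Group G] [Finite G]
    (hst : IsActionPStable p (G ⧸ pPrimeCore p G)) (hsep : IsPSolvable p G) (S : Sylow p G) :
    pPrimeCore p G ⊔ normalizer (wOf p G (S : Subgroup G) : Set G) = ⊤ := by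
  set K := pPrimeCore p G with hK
  set π := QuotientGroup.mk' K with hπ
  haveI : K.Normal := CfsgLib.Solvable.pPrimeCore_normal p
  have hs' : IsPSolvable p (G ⧸ K) :=
    CfsgLib.PConstrained.isPSolvable_map π (QuotientGroup.mk'_surjective K) hsep
  have hc : centralizer (pCore p (G ⧸ K) : Set (G ⧸ K)) ≤ pCore p (G ⧸ K) :=
    CfsgLib.PConstrained.selfCent_of_pSolvable (CfsgLib.Fitting.pPrimeCore_quotient_eq_bot p)
      (CfsgLib.PConstrained.isPSolvable_comap (centralizer (pCore p (G ⧸ K) : Set (G ⧸ K))).subtype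
        (Subgroup.subtype_injective _) hs')
  set S' : Sylow p (G ⧸ K) := S.mapSurjective (QuotientGroup.mk'_surjective K) with hS'
  have hcop := CfsgLib.Solvable.coprime_card_pPrimeCore (G := G) p
  have hinj : ∀ x ∈ (S : Subgroup G), π x = 1 → x = 1 := fun x hx h => mem_bot.mp
    (CfsgLib.ZJ.isPGroup_inf_coprime S.2 hcop ▸
      (⟨hx, (QuotientGroup.eq_one_iff x).mp h⟩ : x ∈ (S : Subgroup G) ⊓ K))
  have hn : (wOf p (G ⧸ K) (S' : Subgroup (G ⧸ K))).Normal :=
    CfsgLib.StableNormal.stableNormalClosure_normal hst hc S'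
  have hcoe : (S' : Subgroup (G ⧸ K)) = (S : Subgroup G).map π := rfl
  rw [hcoe, wOf_map π _ hinj] at hn
  rw [eq_top_iff]
  intro g _
  have hg : g ∈ normalizer ((wOf p G (S : Subgroup G) ⊔ K : Subgroup G) : Set G) := by
    have e : ((wOf p G (S : Subgroup G)).map π).comap π = wOf p G (S : Subgroup G) ⊔ K := by
      rw [comap_map_eq, QuotientGroup.ker_mk']
    rw [← e, normalizer_eq_top_iff.2 (hn.comap π)]
    exact mem_top g
  obtain ⟨m, hm, hmg⟩ :=
    CfsgLib.ZJ.exists_mul_mem_normalizer (S.2.to_le (wOf_le _)) hcop hg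
  rw [show g = m⁻¹ * (m * g) by group]
  exact mul_mem (mem_sup_left (inv_mem hm)) (mem_sup_right hmg)

end CfsgLib.StableSystem
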