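import Mathlib
import Cfsg.Agent.PLocal.SubnormalJoin
import Cfsg.Agent.S0597

/-!
Two subnormal subgroups `E₁`, `E₂` acting irreducibly on `[V, E₁]`, `[V, E₂]`: they centralise each
other's commutator module.
-/

set_option autoImplicit false
set_option linter.style.haveILetI false
open scoped commutatorElement Pointwise

namespace CfsgLib.SubnormalPair

open Subgroup

variable {G : Type*} [Group G]

/-- The hypotheses on one of the two subgroups. -/
structure Piece (p : ℕ) (V E A : Subgroup G) : Prop where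
  le : A ≤ E
  sn : (A.subgroupOf E).IsSubnormal
  irr : ∀ U : Subgroup G, U ≤ ⁅V, A⁆ → A ≤ normalizer (U : Set G) → U = ⊥ ∨ U = ⁅V, A⁆
  two : 2 < Nat.card A

theorem mem_conjSmul {K : Subgroup G} {g x : G} : x ∈ MulAut.conj g • K ↔ g⁻¹ * x * g ∈ K := by
  rw [mem_pointwise_smul_iff_inv_smul_mem, ← map_inv, MulAut.smul_def, MulAut.conj_apply, inv_inv]

theorem conj_mem_conjSmul {K : Subgroup G} {g x : G} (hx : x ∈ K) :
    g * x * g⁻¹ ∈ MulAut.conj g • K := mem_conjSmul.2 (by simpa [mul_assoc] using hx)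

theorem commutator_le_left {V A : Subgroup G} (h : A ≤ normalizer (V : Set G)) : ⁅V, A⁆ ≤ V := by
  rw [Subgroup.commutator_le]
  intro v hv a ha
  rw [commutatorElement_def, show v * a * v⁻¹ * a⁻¹ = v * (a * v⁻¹ * a⁻¹) by group]
  exact V.mul_mem hv ((mem_normalizer_iff.1 (h ha) _).1 (V.inv_mem hv))

theorem conj_mul_inv_mem {V A : Subgroup G} {a v : G} (ha : a ∈ A) (hv : v ∈ V) :
    a * v * a⁻¹ * v⁻¹ ∈ ⁅V, A⁆ := by
  rw [commutator_comm, show a * v * a⁻¹ * v⁻¹ = ⁅a, v⁆ by rw [commutatorElement_def]]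
  exact commutator_mem_commutator ha hv

theorem conjSmul_eq_map (g : G) (K : Subgroup G) :
    MulAut.conj g • K = K.map (MulAut.conj g).toMonoidHom := rfl

theorem conjSmul_commutator {V : Subgroup G} {g : G} (hg : g ∈ normalizer (V : Set G))
    (A : Subgroup G) : MulAut.conj g • ⁅V, A⁆ = ⁅V, MulAut.conj g • A⁆ := by
  rw [conjSmul_eq_map, conjSmul_eq_map, Subgroup.map_commutator]
  congr 1
  exact mem_normalizer_iff_map_conj_eq.1 hg

theorem conjSmul_mul (g h : G) (K : Subgroup G) :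
    MulAut.conj g • MulAut.conj h • K = MulAut.conj (g * h) • K := by
  rw [smul_smul, map_mul]

theorem le_normalizer_conjSmul {K : Subgroup G} {g : G} (h : MulAut.conj g • K = K) :
    g ∈ normalizer (K : Set G) := mem_normalizer_iff_map_conj_eq.2 h

theorem conjSmul_eq_of_mem {K : Subgroup G} {g : G} (h : g ∈ normalizer (K : Set G)) :
    MulAut.conj g • K = K := mem_normalizer_iff_map_conj_eq.1 h

variable {p : ℕ} [Fact p.Prime] [Finite G] {V E A B : Subgroup G}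

theorem faithful (hV : Cfsg.IsElementaryAbelian p V) (hEV : E ≤ normalizer (V : Set G))
    (hf : E ⊓ centralizer (V : Set G) = ⊥) (hOp : Cfsg.pCore p E = ⊥) (hA : Piece p V E A)
    {x : G} (hx : x ∈ A) (hfix : ∀ w ∈ ⁅V, A⁆, x * w * x⁻¹ = w) : x = 1 := by
  let C : Subgroup G := A ⊓ centralizer ((⁅V, A⁆ : Subgroup G) : Set G)
  have hxC : x ∈ C := ⟨hx, mem_centralizer_iff.2 fun w hw => by
    have := hfix w hw
    rw [mul_inv_eq_iff_eq_mul] at this
    exact this.symm⟩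
  have hCE : C ≤ E := inf_le_left.trans hA.le
  have hp : IsPGroup p C := by
    rintro ⟨c, hc⟩
    refine ⟨1, Subtype.ext ?_⟩
    rw [pow_one, SubmonoidClass.coe_pow, Subgroup.coe_one]
    have hfix' : ∀ w ∈ ⁅V, A⁆, c * w * c⁻¹ = w := fun w hw => by
      rw [← mem_centralizer_iff.1 hc.2 w hw, mul_inv_cancel_right]
    have key : ∀ v ∈ V, ∀ k : ℕ, c ^ k * v * (c ^ k)⁻¹ = (c * v * c⁻¹ * v⁻¹) ^ k * v := by
      intro v hv k
      induction k with
      | zero => simp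
      | succ k ih =>
        calc c ^ (k + 1) * v * (c ^ (k + 1))⁻¹ = c * (c ^ k * v * (c ^ k)⁻¹) * c⁻¹ := by
              rw [pow_succ']; group
          _ = (c * ((c * v * c⁻¹ * v⁻¹) ^ k) * c⁻¹) * (c * v * c⁻¹) := by rw [ih]; group
          _ = (c * v * c⁻¹ * v⁻¹) ^ k * (c * v * c⁻¹) := by
              rw [hfix' _ (Subgroup.pow_mem _ (conj_mul_inv_mem hc.1 hv) k)]
          _ = _ := by rw [pow_succ]; group
    have : c ^ p ∈ E ⊓ centralizer (V : Set G) := by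
      refine ⟨E.pow_mem (hCE hc) p, mem_centralizer_iff.2 fun v hv => ?_⟩
      have := key v hv p
      rw [hV.2 _ (commutator_le_left (hA.le.trans hEV) (conj_mul_inv_mem hc.1 hv)), one_mul,
        mul_inv_eq_iff_eq_mul] at this
      exact this.symm
    rwa [hf, mem_bot] at this
  have hnorm : A ≤ normalizer (C : Set G) := by
    refine le_trans ?_ inf_normalizer_le_normalizer_inf
    refine le_inf le_normalizer ?_
    intro a ha
    have h1 := normalizer_commutator_ge_right V A ha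
    rw [mem_normalizer_iff]
    intro c
    simp only [mem_centralizer_iff, SetLike.mem_coe]
    refine ⟨fun h w hw => ?_, fun h w hw => ?_⟩
    · have h2 := h (a⁻¹ * w * a) ((mem_normalizer_iff''.1 h1 w).1 hw)
      calc w * (a * c * a⁻¹) = a * ((a⁻¹ * w * a) * c) * a⁻¹ := by group
        _ = a * (c * (a⁻¹ * w * a)) * a⁻¹ := by rw [h2]
        _ = _ := by group
    · have h2 := h (a * w * a⁻¹) ((mem_normalizer_iff.1 h1 w).1 hw)
      calc w * c = a⁻¹ * ((a * w * a⁻¹) * (a * c * a⁻¹)) * a := by group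
        _ = a⁻¹ * ((a * c * a⁻¹) * (a * w * a⁻¹)) * a := by rw [h2]
        _ = _ := by group
  have hsn : (C.subgroupOf E).IsSubnormal :=
    IsSubnormal.step _ (A.subgroupOf E) (comap_mono inf_le_left) hA.sn
      (normal_subgroupOf_of_le_normalizer ((comap_mono hnorm).trans (le_normalizer_comap _)))
  have := SubnormalJoin.le_pCore_of_isSubnormal hsn (hp.of_equiv (subgroupOfEquivOfLe hCE).symm)
    (show (⟨x, hCE hxC⟩ : E) ∈ C.subgroupOf E from hxC)
  rw [hOp, mem_bot] at this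
  exact congrArg Subtype.val this

/-- If one normalises the other's module, both centralise the other's module. -/
theorem of_normalizes (hV : Cfsg.IsElementaryAbelian p V) (hEV : E ≤ normalizer (V : Set G))
    (hf : E ⊓ centralizer (V : Set G) = ⊥) (hOp : Cfsg.pCore p E = ⊥) (hA : Piece p V E A)
    (hB : Piece p V E B) (h12 : ¬ ⁅V, A⁆ ≤ ⁅V, B⁆) (h21 : ¬ ⁅V, B⁆ ≤ ⁅V, A⁆)
    (hn : A ≤ normalizer ((⁅V, B⁆ : Subgroup G) : Set G)) :
    ⁅⁅V, B⁆, A⁆ = ⊥ ∧ ⁅⁅V, A⁆, B⁆ = ⊥ ∧ ⁅V, A⁆ ⊓ ⁅V, B⁆ = ⊥ := by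
  have step : ∀ {X Y : Subgroup G}, Piece p V E X → Piece p V E Y → ¬ ⁅V, X⁆ ≤ ⁅V, Y⁆ →
      X ≤ normalizer ((⁅V, Y⁆ : Subgroup G) : Set G) →
      ⁅V, X⁆ ⊓ ⁅V, Y⁆ = ⊥ ∧ ⁅⁅V, Y⁆, X⁆ = ⊥ := by
    intro X Y hX hY hne hXY
    have h0 : ⁅V, X⁆ ⊓ ⁅V, Y⁆ = ⊥ := (hX.irr _ inf_le_left
      (le_trans (le_inf (normalizer_commutator_ge_right V X) hXY)
        inf_normalizer_le_normalizer_inf)).resolve_right fun h => hne (h ▸ inf_le_right)
    refine ⟨h0, ?_⟩
    rw [eq_bot_iff, ← h0, le_inf_iff]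
    exact ⟨commutator_mono (commutator_le_left (hY.le.trans hEV)) le_rfl,
      commutator_le_left hXY⟩
  obtain ⟨h0, h1⟩ := step hA hB h12 hn
  refine ⟨h1, (step hB hA h21 ?_).2, h0⟩
  have hcomm : ⁅B, A⁆ = ⊥ := by
    have := Cfsg.Agent.S0597.result V E hV hEV hf B A hB.le hA.le hB.sn hA.sn h1
    rwa [hOp, Subgroup.map_bot, le_bot_iff] at this
  intro b hb
  refine le_normalizer_conjSmul ?_
  rw [conjSmul_commutator (hEV (hB.le hb))]
  congr 1
  refine conjSmul_eq_of_mem (centralizer_le_normalizer _ ?_)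
  exact commutator_eq_bot_iff_le_centralizer.1 hcomm hb

theorem main (hV : Cfsg.IsElementaryAbelian p V) :
    ∀ (n : ℕ) (E A B : Subgroup G), Nat.card E = n → E ≤ normalizer (V : Set G) →
      E ⊓ centralizer (V : Set G) = ⊥ → Cfsg.pCore p E = ⊥ → Piece p V E A → Piece p V E B →
      ¬ ⁅V, A⁆ ≤ ⁅V, B⁆ → ¬ ⁅V, B⁆ ≤ ⁅V, A⁆ →
      ⁅⁅V, B⁆, A⁆ = ⊥ ∧ ⁅⁅V, A⁆, B⁆ = ⊥ ∧ ⁅V, A⁆ ⊓ ⁅V, B⁆ = ⊥ := by
  intro n
  induction n using Nat.strong_induction_on with
  | _ n ih =>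
  intro E A B hn hEV hf hOp hA hB h12 h21
  subst hn
  by_contra hcon
  -- conjugate modules are disjoint and centralised
  have conjFact : ∀ X : Subgroup G, Piece p V E X →
      (∀ Y : Subgroup G, Piece p V E Y → ¬ ⁅V, Y⁆ ≤ ⁅V, X⁆ → X ≠ E) := by
    intro X hX Y hY hne hXE
    subst hXE
    exact hne (commutator_mono le_rfl hY.le)
  have Cf : ∀ X : Subgroup G, Piece p V E X → X ≠ E → ∀ g ∈ E,
      MulAut.conj g • ⁅V, X⁆ ≠ ⁅V, X⁆ →
      (⁅V, X⁆ ⊓ MulAut.conj g • ⁅V, X⁆ = ⊥) ∧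
        ∀ x ∈ X, ∀ w ∈ MulAut.conj g • ⁅V, X⁆, x * w * x⁻¹ = w := by
    intro X hX hXE g hg hne
    rcases hX.sn.lt_normal with h | ⟨M, hMn, hXM, hMlt⟩
    · exact absurd (le_antisymm hX.le (subgroupOf_eq_top.1 h)) hXE
    set Y := MulAut.conj g • X with hY
    have hYE : Y ≤ E := by
      intro y hy
      have := E.mul_mem (E.mul_mem hg (hX.le (mem_conjSmul.1 hy))) (E.inv_mem hg)
      simpa [mul_assoc] using this
    have hYM : Y.subgroupOf E ≤ M := by
      intro y hy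
      have h1 : g⁻¹ * (y : G) * g ∈ X := mem_conjSmul.1 hy
      have h2 : (⟨g, hg⟩⁻¹ * y * ⟨g, hg⟩ : E) ∈ M := hXM h1
      simpa [mul_assoc] using hMn.conj_mem _ h2 ⟨g, hg⟩
    set E' := X ⊔ Y
    have hE'E : E' ≤ E := sup_le hX.le hYE
    have hlt : Nat.card E' < Nat.card E := by
      refine CfsgLib.Solvable.card_lt_of_lt (lt_of_le_of_ne hE'E fun h => hMlt.ne ?_)
      rw [eq_top_iff]
      have : E'.subgroupOf E ≤ M := by
        rw [subgroupOf_sup hX.le hYE]; exact sup_le hXM hYM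
      rwa [h, subgroupOf_self] at this
    have hYsn : (Y.subgroupOf E).IsSubnormal := by
      have := hX.sn.smul (MulAut.conj (⟨g, hg⟩ : E))
      convert this using 1
      ext y
      rw [mem_conjSmul]
      change (y : G) ∈ Y ↔ g⁻¹ * (y : G) * g ∈ X
      rw [hY, mem_conjSmul]
    have hE'sn : (E'.subgroupOf E).IsSubnormal := by
      rw [subgroupOf_sup hX.le hYE]; exact SubnormalJoin.isSubnormal_sup hX.sn hYsn
    have hE'V : E' ≤ normalizer (V : Set G) := hE'E.trans hEV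
    have hf' : E' ⊓ centralizer (V : Set G) = ⊥ :=
      eq_bot_iff.2 ((inf_le_inf_right _ hE'E).trans hf.le)
    have hOp' : Cfsg.pCore p E' = ⊥ := by
      refine (Subgroup.map_eq_bot_iff_of_injective _ E'.subtype_injective).1 (eq_bot_iff.2 ?_)
      intro z hz
      obtain ⟨z', hz', rfl⟩ := hz
      let Q := (Cfsg.pCore p E').map (Subgroup.inclusion hE'E)
      have hQsn : Q.IsSubnormal := by
        refine IsSubnormal.step _ (E'.subgroupOf E) ?_ hE'sn ?_
        · rintro _ ⟨a, -, rfl⟩; exact a.2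
        · refine normal_subgroupOf_of_le_normalizer ?_
          intro a ha
          refine le_normalizer_map (Subgroup.inclusion hE'E) ⟨⟨(a : G), ha⟩, ?_, Subtype.ext rfl⟩
          rw [normalizer_eq_top_iff.2 (CfsgLib.Solvable.pCore_normal p)]
          exact mem_top _
      have := SubnormalJoin.le_pCore_of_isSubnormal hQsn
        ((CfsgLib.Solvable.isPGroup_pCore p).map _) ⟨z', hz', rfl⟩
      rw [hOp, mem_bot] at this
      exact mem_bot.2 (congrArg Subtype.val this)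
    have sn_of : ∀ Z : Subgroup G, Z ≤ E' → (Z.subgroupOf E).IsSubnormal →
        (Z.subgroupOf E').IsSubnormal := by
      intro Z hZ h
      exact h.comap (Subgroup.inclusion hE'E)
    have hgV := hEV hg
    have hWY : ⁅V, Y⁆ = MulAut.conj g • ⁅V, X⁆ := (conjSmul_commutator hgV X).symm
    have pX : Piece p V E' X := ⟨le_sup_left, sn_of X le_sup_left hX.sn, hX.irr, hX.two⟩
    have pY : Piece p V E' Y := by
      refine ⟨le_sup_right, sn_of Y le_sup_right hYsn, fun U hU hn => ?_, ?_⟩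
      · rw [hWY] at hU ⊢
        have h1 : MulAut.conj g⁻¹ • U ≤ ⁅V, X⁆ := by
          intro u hu
          have := mem_conjSmul.1 (hU (mem_conjSmul.1 hu))
          simpa [mul_assoc] using this
        have h2 : X ≤ normalizer ((MulAut.conj g⁻¹ • U : Subgroup G) : Set G) := by
          intro x hx
          refine le_normalizer_conjSmul ?_
          rw [conjSmul_mul, show x * g⁻¹ = g⁻¹ * (g * x * g⁻¹) by group, ← conjSmul_mul,
            conjSmul_eq_of_mem (hn (conj_mem_conjSmul hx))]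
        rcases hX.irr _ h1 h2 with h | h
        · left
          have := congrArg (MulAut.conj g • ·) h
          simpa [conjSmul_mul, conjSmul_eq_map, Subgroup.map_bot] using this
        · right
          rw [← h, conjSmul_mul, mul_inv_cancel, map_one, one_smul]
      · rw [hY, conjSmul_eq_map, ← Nat.card_congr
          (X.equivMapOfInjective _ (MulAut.conj g).injective).toEquiv]
        exact hX.two
    have hcard : Nat.card ↥(MulAut.conj g • ⁅V, X⁆) = Nat.card ↥(⁅V, X⁆) := by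
      rw [conjSmul_eq_map]
      exact (Nat.card_congr (Subgroup.equivMapOfInjective _ _ (MulAut.conj g).injective).toEquiv).symm
    obtain ⟨h1, -, h3⟩ := ih _ hlt E' X Y rfl hE'V hf' hOp' pX pY
      (fun h => hne (by
        rw [hWY] at h
        exact (CfsgLib.Solvable.eq_of_le_of_card_le h hcard.le).symm))
      (fun h => hne (by
        rw [hWY] at h
        exact CfsgLib.Solvable.eq_of_le_of_card_le h hcard.ge))
    rw [hWY] at h1 h3
    refine ⟨h3, fun x hx w hw => ?_⟩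
    have := mem_centralizer_iff.1 (commutator_eq_bot_iff_le_centralizer.1 h1 hw) x hx
    rw [this, mul_inv_cancel_right]
  have hAE := conjFact A hA B hB h21
  have hBE := conjFact B hB A hA h12
  set W₁ := ⁅V, A⁆ with hW₁
  set W₂ := ⁅V, B⁆ with hW₂
  obtain ⟨a, ha, haW⟩ : ∃ a ∈ A, MulAut.conj a • W₂ ≠ W₂ := by
    by_contra h
    push_neg at h
    exact hcon (of_normalizes hV hEV hf hOp hA hB h12 h21 fun a ha => le_normalizer_conjSmul (h a ha))
  obtain ⟨b₀, hb₀, hbW⟩ : ∃ b ∈ B, MulAut.conj b • W₁ ≠ W₁ := by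
    by_contra h
    push_neg at h
    obtain ⟨h1, h2, h3⟩ := of_normalizes hV hEV hf hOp hB hA h21 h12
      fun b hb => le_normalizer_conjSmul (h b hb)
    exact hcon ⟨h2, h1, inf_comm W₁ W₂ ▸ h3⟩
  have hW12 : W₁ ⊓ W₂ = ⊥ := by
    rw [eq_bot_iff]
    rintro x ⟨hx1, hx2⟩
    have hinv : MulAut.conj a⁻¹ • W₂ ≠ W₂ := fun h => haW (by
      rw [← h, conjSmul_mul, mul_inv_cancel, map_one, one_smul, h])
    obtain ⟨-, hfix⟩ := Cf B hB hBE a⁻¹ (E.inv_mem (hA.le ha)) hinv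
    have hy1 : a⁻¹ * x * a ∈ W₁ := (mem_normalizer_iff''.1
      (normalizer_commutator_ge_right V A ha) x).1 hx1
    have hy2 : b₀ * (a⁻¹ * x * a) * b₀⁻¹ = a⁻¹ * x * a :=
      hfix b₀ hb₀ _ (by simpa using conj_mem_conjSmul (g := a⁻¹) hx2)
    have hy3 := (Cf A hA hAE b₀ (hB.le hb₀) hbW).1
    have : a⁻¹ * x * a ∈ W₁ ⊓ MulAut.conj b₀ • W₁ :=
      ⟨hy1, hy2 ▸ conj_mem_conjSmul hy1⟩
    rw [hy3, mem_bot] at this
    rw [mem_bot]
    calc x = a * (a⁻¹ * x * a) * a⁻¹ := by group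
      _ = 1 := by rw [this]; group
  have hWV₁ : W₁ ≤ V := commutator_le_left (hA.le.trans hEV)
  have hWV₂ : W₂ ≤ V := commutator_le_left (hB.le.trans hEV)
  have hker : ∀ k ∈ B, MulAut.conj k • W₁ = W₁ → k = 1 := by
    intro k hk hkW
    have hk1 : ∀ w ∈ W₁, k * w * k⁻¹ = w := fun w hw => by
      have : k * w * k⁻¹ * w⁻¹ ∈ W₁ ⊓ W₂ :=
        ⟨W₁.mul_mem (hkW ▸ conj_mem_conjSmul hw) (W₁.inv_mem hw), conj_mul_inv_mem hk (hWV₁ hw)⟩
      rwa [hW12, mem_bot, mul_inv_eq_one] at this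
    refine faithful hV hEV hf hOp hB hk fun u hu => ?_
    have h1 : k * (a * u * a⁻¹) * k⁻¹ = a * u * a⁻¹ :=
      (Cf B hB hBE a (hA.le ha) haW).2 k hk _ (conj_mem_conjSmul hu)
    have h2 : k * (a * u * a⁻¹ * u⁻¹) * k⁻¹ = a * u * a⁻¹ * u⁻¹ :=
      hk1 _ (conj_mul_inv_mem ha (hWV₂ hu))
    rw [show k * (a * u * a⁻¹ * u⁻¹) * k⁻¹ = k * (a * u * a⁻¹) * k⁻¹ * (k * u * k⁻¹)⁻¹ by group,
      h1] at h2
    exact inv_injective (mul_left_cancel h2)
  obtain ⟨b, hb, b', hb', h1, h1', hbb⟩ : ∃ b ∈ B, ∃ b' ∈ B, b ≠ 1 ∧ b' ≠ 1 ∧ b ≠ b' := by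
    obtain ⟨x, hx, hx1⟩ : ∃ x ∈ B, x ≠ 1 := by
      by_contra h
      push_neg at h
      have : B = ⊥ := B.eq_bot_iff_forall.2 h
      have h2 := hB.two
      rw [this, card_bot] at h2
      omega
    by_contra hne
    push_neg at hne
    have : (B : Set G) ⊆ {1, x} := fun y hy => by
      by_cases hy1 : y = 1
      · exact Or.inl hy1
      · exact Or.inr (hne x hx y hy hx1 hy1).symm
    have h2 := hB.two
    rw [show Nat.card B = (B : Set G).ncard from rfl] at h2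
    have h3 := Set.ncard_le_ncard this (Set.toFinite _)
    have h4 : ({1, x} : Set G).ncard ≤ 2 := (Set.ncard_insert_le _ _).trans (by simp)
    omega
  have hbne : ∀ c ∈ B, c ≠ 1 → MulAut.conj c • W₁ ≠ W₁ := fun c hc hc1 h => hc1 (hker c hc h)
  have hW₁bot : ∀ w ∈ W₁, w = 1 := by
    intro w hw
    set z := b * w * b⁻¹ * (b' * w * b'⁻¹)⁻¹ with hz
    have hz2 : z ∈ W₂ := by
      rw [hz, show b * w * b⁻¹ * (b' * w * b'⁻¹)⁻¹ =
        (b * w * b⁻¹ * w⁻¹) * (b' * w * b'⁻¹ * w⁻¹)⁻¹ by group]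
      exact W₂.mul_mem (conj_mul_inv_mem hb (hWV₁ hw)) (W₂.inv_mem (conj_mul_inv_mem hb' (hWV₁ hw)))
    have hf1 := (Cf A hA hAE b (hB.le hb) (hbne b hb h1)).2 a ha _ (conj_mem_conjSmul hw)
    have hf2 := (Cf A hA hAE b' (hB.le hb') (hbne b' hb' h1')).2 a ha _ (conj_mem_conjSmul hw)
    have hza : a * z * a⁻¹ = z := by
      rw [hz, show a * (b * w * b⁻¹ * (b' * w * b'⁻¹)⁻¹) * a⁻¹ =
        a * (b * w * b⁻¹) * a⁻¹ * (a * (b' * w * b'⁻¹) * a⁻¹)⁻¹ by group, hf1, hf2]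
    have : z ∈ W₂ ⊓ MulAut.conj a • W₂ := ⟨hz2, hza ▸ conj_mem_conjSmul hz2⟩
    rw [(Cf B hB hBE a (hA.le ha) haW).1, mem_bot, hz, mul_inv_eq_one] at this
    have hmem : b'⁻¹ * b ∈ B := B.mul_mem (B.inv_mem hb') hb
    have hne : b'⁻¹ * b ≠ 1 := fun h => hbb (inv_mul_eq_one.1 h).symm
    have h5 : w ∈ W₁ ⊓ MulAut.conj (b'⁻¹ * b) • W₁ := by
      refine ⟨hw, ?_⟩
      have e : (b'⁻¹ * b) * w * (b'⁻¹ * b)⁻¹ = w := by
        calc (b'⁻¹ * b) * w * (b'⁻¹ * b)⁻¹ = b'⁻¹ * (b * w * b⁻¹) * b' := by group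
          _ = b'⁻¹ * (b' * w * b'⁻¹) * b' := by rw [this]
          _ = w := by group
      exact e ▸ conj_mem_conjSmul hw
    rwa [(Cf A hA hAE _ (hB.le hmem) (hbne _ hmem hne)).1, mem_bot] at h5
  exact h12 fun w hw => (hW₁bot w hw).symm ▸ W₂.one_mem

end CfsgLib.SubnormalPair
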